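import Groth.Agent.IntSh.K878.KSup
import Groth.Agent.Fdesc.AssFlat
import Groth.Agent.Vancyc.H175.TensAdd

/-!
# The cap action and supports
-/

set_option autoImplicit false
universe v u
open CategoryTheory CategoryTheory.Limits AlgebraicGeometry Opposite TopologicalSpace
open AlgebraicGeometry.Scheme.Modules TensorProduct
open Groth.Agent.Sga67 Groth.Agent.Sga67.CohBasic Groth.Agent.Sga67.K0Basic

namespace K878.Cap

open K878.KSup

variable {X : Scheme.{u}}

theorem support_tensor_left (M N : X.Modules) :
    CohB1.support (CohB1.tensorMod M N) ⊆ CohB1.support M := by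
  intro x hx
  by_contra h
  rw [Groth.Agent.CohqB.DevSupport.not_mem_support_iff] at h
  refine hx ?_
  have e := (Groth.Agent.Fdesc.AssFlat.tensorModStalk M N x).toEquiv
  refine @Equiv.subsingleton _ _ e ?_
  infer_instance

theorem support_tensor_right (M N : X.Modules) :
    CohB1.support (CohB1.tensorMod M N) ⊆ CohB1.support N := by
  intro x hx
  by_contra h
  rw [Groth.Agent.CohqB.DevSupport.not_mem_support_iff] at h
  refine hx ?_
  have e := (Groth.Agent.Fdesc.AssFlat.tensorModStalk M N x).toEquiv
  refine @Equiv.subsingleton _ _ e ?_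
  infer_instance

section

variable {K : Type v} [CommRing K] {φ : SGA6.Kvb X →+ K} {μ : K →+ SGA6.Kcoh X →+ SGA6.Kcoh X}

/-- The action of `K^•(X)` preserves classes supported in `T`. -/
theorem cap_mem (hφ : Function.Surjective φ) (hμ : KDet.IsCap φ μ) {T : Set X} (x : K)
    {c : SGA6.Kcoh X} (hc : c ∈ ksup X T) : μ x c ∈ ksup X T := by
  obtain ⟨e, rfl⟩ := hφ x
  induction e using induction_sub with
  | zero => rw [map_zero, map_zero]; exact zero_mem _
  | cl E hE =>
    refine map_mem_of (μ (φ (KZero.clSub _ E))) _ (fun G hG hGT => ?_) hc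
    have := hμ.map_cl E G hE hG
    rw [show (μ (φ (KZero.clSub (fun M : X.Modules => FlatMod.IsFinLocFree M) E))) (KDet.clc X G) = _ from this]
    refine clc_mem fun _ => ?_
    exact (support_tensor_right E G).trans hGT
  | neg e ih =>
    rw [map_neg, map_neg]
    exact neg_mem ih
  | add e f he hf =>
    rw [map_add, map_add]
    exact add_mem he hf

/-- Multiplication by a unit detects membership. -/
theorem mem_of_cap_unit (hφ : Function.Surjective φ) (hμ : KDet.IsCap φ μ) {T : Set X} {x y : K}
    (hxy : y * x = 1) {c : SGA6.Kcoh X} (hc : μ x c ∈ ksup X T) : c ∈ ksup X T := by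
  have := cap_mem hφ hμ y hc
  rwa [← hμ.mul_smul, hxy, hμ.one_smul] at this

end

end K878.Cap
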