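import Groth.Prelude.Def_KDet
import Groth.Agent.Sga67.CohDevissage
import Groth.Agent.Sga67.K0Basic
import Groth.Agent.Ega3B.Devissage
import Groth.Agent.PerfC.Supp
import Groth.Agent.PerfC.ExtZero2

/-!
# Subgroups of `K_•(X)` of classes with support in a given set, restriction to opens
-/

set_option autoImplicit false
universe u
open CategoryTheory CategoryTheory.Limits AlgebraicGeometry Opposite TopologicalSpace
open AlgebraicGeometry.Scheme.Modules
open Groth.Agent.Sga67 Groth.Agent.Sga67.CohBasic Groth.Agent.Sga67.K0Basic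
open scoped ZeroObject

namespace K878.KSup

variable {X : Scheme.{u}}

/-- The property of being coherent. -/
abbrev cohP (X : Scheme.{u}) : ObjectProperty X.Modules := fun M => Coh.IsCoh M

instance : (cohP X).IsClosedUnderIsomorphisms := ⟨fun e h => isCoh_of_iso e h⟩

instance : (cohP X).ContainsZero := ⟨⟨(0 : X.Modules), isZero_zero _, isCoh_of_isZero (isZero_zero _)⟩⟩

theorem clc_congr {M N : X.Modules} (e : M ≅ N) : KDet.clc X M = KDet.clc X N :=
  clSub_iso (P := cohP X) e

theorem clc_isZero {M : X.Modules} (h : IsZero M) : KDet.clc X M = 0 :=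
  clSub_of_isZero h

theorem clc_shortExact {S : ShortComplex X.Modules} (hS : S.ShortExact) (h₁ : Coh.IsCoh S.X₁)
    (h₂ : Coh.IsCoh S.X₂) (h₃ : Coh.IsCoh S.X₃) :
    KDet.clc X S.X₂ = KDet.clc X S.X₁ + KDet.clc X S.X₃ :=
  clSub_of_shortExact (P := cohP X) S hS h₁ h₂ h₃

theorem clc_of_not {M : X.Modules} (h : ¬ Coh.IsCoh M) : KDet.clc X M = 0 :=
  clSub_of_not_prop h

theorem clc_eq_mk {M : X.Modules} (h : Coh.IsCoh M) :
    KDet.clc X M = K0Loc.mk (fun M : X.Modules => Coh.IsCoh M) M h :=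
  K0Loc.clSub_eq_mk (fun M : X.Modules => Coh.IsCoh M) h

/-- `[B] - [A] = [coker f] - [ker f]`. -/
theorem clc_sub_clc [IsLocallyNoetherian X] {A B : X.Modules} (f : A ⟶ B) (hA : Coh.IsCoh A)
    (hB : Coh.IsCoh B) :
    KDet.clc X B - KDet.clc X A = KDet.clc X (cokernel f) - KDet.clc X (kernel f) := by
  have hK : Coh.IsCoh (kernel f) := isCoh_kernel f hA hB.1
  have hI : Coh.IsCoh (Abelian.image f) := isCoh_image f hA hB.1
  have hC : Coh.IsCoh (cokernel f) := isCoh_cokernel f hA.1 hB
  have h1 := clc_shortExact (K0Loc.shortExact_kernel_image f) hK hA hI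
  have h2 := clc_shortExact (K0Loc.shortExact_image_cokernel f) hI hB hC
  dsimp only at h1 h2
  rw [h1, h2]
  abel

/-- The subgroup of `K_•(X)` generated by the classes of coherent modules with support in `T`. -/
noncomputable def ksup (X : Scheme.{u}) (T : Set X) : AddSubgroup (SGA6.Kcoh X) :=
  AddSubgroup.closure {c | ∃ G : X.Modules, Coh.IsCoh G ∧ CohB1.support G ⊆ T ∧ c = KDet.clc X G}

theorem clc_mem {G : X.Modules} {T : Set X} (h : Coh.IsCoh G → CohB1.support G ⊆ T) :
    KDet.clc X G ∈ ksup X T := by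
  by_cases hG : Coh.IsCoh G
  · exact AddSubgroup.subset_closure ⟨G, hG, h hG, rfl⟩
  · rw [clc_of_not hG]
    exact zero_mem _

theorem ksup_mono {T T' : Set X} (h : T ⊆ T') : ksup X T ≤ ksup X T' := by
  refine AddSubgroup.closure_mono ?_
  rintro c ⟨G, hG, hGT, rfl⟩
  exact ⟨G, hG, hGT.trans h, rfl⟩

/-- An additive map sending classes of modules supported in `T` into `H` sends `ksup T` into `H`. -/
theorem map_mem_of {A : Type*} [AddCommGroup A] {T : Set X} (f : SGA6.Kcoh X →+ A) (H : AddSubgroup A)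
    (h : ∀ G : X.Modules, Coh.IsCoh G → CohB1.support G ⊆ T → f (KDet.clc X G) ∈ H)
    {c : SGA6.Kcoh X} (hc : c ∈ ksup X T) : f c ∈ H := by
  have : ksup X T ≤ H.comap f := by
    unfold ksup
    rw [AddSubgroup.closure_le]
    rintro c ⟨G, hG, hGT, rfl⟩
    exact h G hG hGT
  exact this hc

theorem ksup_le {T : Set X} {H : AddSubgroup (SGA6.Kcoh X)}
    (h : ∀ G : X.Modules, Coh.IsCoh G → CohB1.support G ⊆ T → KDet.clc X G ∈ H) : ksup X T ≤ H :=
  fun _ hc => map_mem_of (AddMonoidHom.id _) H h hc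

theorem ksup_univ : ksup X Set.univ = ⊤ := by
  rw [eq_top_iff]
  refine le_trans (le_of_eq (closure_clSub_eq_top (P := cohP X)).symm) ?_
  rw [AddSubgroup.closure_le]
  rintro c ⟨G, hG, rfl⟩
  exact clc_mem fun _ => Set.subset_univ _

section Restrict

variable {V : Scheme.{u}} (j : V ⟶ X) [IsOpenImmersion j]

theorem isCoh_restrict (M : X.Modules) (h : Coh.IsCoh M) : Coh.IsCoh ((restrictFunctor j).obj M) :=
  Groth.Agent.CohqB.LocalQC.isCoh_restrict j h

/-- Restriction to an open on `K_•`. -/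
noncomputable def res : SGA6.Kcoh X →+ SGA6.Kcoh V :=
  SGA6.mapSub (restrictFunctor j) (fun M : X.Modules => Coh.IsCoh M)
    (fun M : V.Modules => Coh.IsCoh M) (isCoh_restrict j)

theorem res_clc {M : X.Modules} (h : Coh.IsCoh M) :
    res j (KDet.clc X M) = KDet.clc V ((restrictFunctor j).obj M) := by
  rw [clc_eq_mk h, clc_eq_mk (isCoh_restrict j M h)]
  unfold res
  rw [K0Loc.mapSub_mk]

theorem isZero_restrict_iff (M : X.Modules) :
    IsZero ((restrictFunctor j).obj M) ↔ CohB1.support M ⊆ (Set.range j)ᶜ := by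
  have h0 : IsZero ((restrictFunctor j).obj M) ↔ CohB1.support ((restrictFunctor j).obj M) = ∅ :=
    ⟨Groth.Agent.CohqB.DevSupport.support_eq_empty_of_isZero,
      Groth.Agent.CohqB.DevSupport.isZero_of_support_eq_empty⟩
  rw [h0]
  have : CohB1.support ((restrictFunctor j).obj M) = j ⁻¹' CohB1.support M :=
    Groth.Agent.PerfC.Supp.support_restrict j M
  rw [this, Set.eq_empty_iff_forall_notMem]
  constructor
  · rintro h x hx ⟨v, rfl⟩
    exact h v hx
  · intro h v hv
    exact h hv ⟨v, rfl⟩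

/-- The kernel of the restriction is generated by the classes supported off the open. -/
theorem ker_res [IsNoetherian X] : (res j).ker = ksup X (Set.range j)ᶜ := by
  unfold res
  rw [CohDevissage.ker_restrict_eq_closure j (isCoh_restrict j)]
  unfold ksup
  congr 1
  ext c
  constructor
  · rintro ⟨M, hM, h0, rfl⟩
    exact ⟨M, hM, (isZero_restrict_iff j M).1 h0, (clc_eq_mk hM).symm⟩
  · rintro ⟨M, hM, h0, rfl⟩
    exact ⟨M, hM, (isZero_restrict_iff j M).2 h0, clc_eq_mk hM⟩

/-- A morphism over an open gives a relation modulo classes supported off the open. -/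
theorem exists_rel [IsNoetherian X] {A B : X.Modules} (hA : Coh.IsCoh A) (hB : Coh.IsCoh B)
    (f : (restrictFunctor j).obj A ⟶ (restrictFunctor j).obj B) :
    ∃ C K : X.Modules, Coh.IsCoh C ∧ Coh.IsCoh K ∧ Nonempty ((restrictFunctor j).obj C ≅ cokernel f) ∧
      Nonempty ((restrictFunctor j).obj K ≅ kernel f) ∧
      (KDet.clc X B - KDet.clc X A) - (KDet.clc X C - KDet.clc X K) ∈ ksup X (Set.range j)ᶜ := by
  have : IsNoetherian V := isNoetherian_of_isOpenImmersion j
  have hA' := isCoh_restrict j A hA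
  have hB' := isCoh_restrict j B hB
  have hC' : Coh.IsCoh (cokernel f) := isCoh_cokernel f hA'.1 hB'
  have hK' : Coh.IsCoh (kernel f) := isCoh_kernel f hA' hB'.1
  obtain ⟨C, hC, ⟨eC⟩⟩ := CohLoc.exists_extension j _ hC'
  obtain ⟨K, hK, ⟨eK⟩⟩ := CohLoc.exists_extension j _ hK'
  refine ⟨C, K, hC, hK, ⟨eC⟩, ⟨eK⟩, ?_⟩
  rw [← ker_res j, AddMonoidHom.mem_ker]
  simp only [map_sub]
  rw [res_clc j hA, res_clc j hB, res_clc j hC, res_clc j hK, clc_sub_clc f hA' hB',
    clc_congr eC, clc_congr eK, sub_self]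

end Restrict

end K878.KSup
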