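import Groth.Prelude.Def_KDet
import Groth.Prelude.Def_KRR
import Groth.Agent.Sga67.K0Basic
import Groth.Agent.Sga67.CohBasic
import Groth.Agent.Sga67.LocBasis
import Groth.Agent.Sga67.TensorOps
import Groth.Agent.Sga67.KvbRing
import Groth.Agent.PerfA.CohSerre
import Groth.Agent.S2297
import Groth.Agent.Dcoh.StalkT
import Groth.Agent.Dcoh.FlatSES
import Groth.Agent.Dcoh.Spread
import Groth.Agent.Ega2.TensMon
import Groth.Agent.IntSh.K878.KSup

/-!
# The action of `K^•(X)` on `K_•(X)`

* `capHom X : Kvb X →+ Kcoh X →+ Kcoh X`, `[E] ↦ ([F] ↦ [E ⊗ F])`;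
* `capHom_cl`, `capHom_tensor`, `capHom_unit`;
* `isCap` : the corresponding `KDet.IsCap` structure for a model; `cap_eq`: uniqueness.
-/

set_option autoImplicit false
universe w u
open CategoryTheory CategoryTheory.Limits AlgebraicGeometry
open Groth.Agent Groth.Agent.Sga67.K0Basic

namespace K878.CapEx

open K878.KSup

variable {X : Scheme.{u}}

/-- tensoring with a module -/
noncomputable abbrev tb (E : X.Modules) : X.Modules ⥤ X.Modules := (DCoh.tensorBi (X := X)).obj E

theorem preservesFiniteLimits_tb {E : X.Modules} (hE : FlatMod.IsFinLocFree E) :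
    PreservesFiniteLimits (tb E) :=
  Dcoh.Stalk.preservesFiniteLimits_tensorBi_obj _ (Dcoh.Spread.isFlat_of_isFinLocFree hE)

theorem additive_tb (E : X.Modules) : (tb E).Additive := inferInstance

theorem shortExact_tb {E : X.Modules} (hE : FlatMod.IsFinLocFree E) {S : ShortComplex X.Modules}
    (hS : S.ShortExact) :
    (haveI := additive_tb E; (S.map (tb E)).ShortExact) := by
  have := additive_tb E
  have := preservesFiniteLimits_tb hE
  have : PreservesFiniteColimits (tb E) := Dcoh.Stalk.preservesFiniteColimits_tensorBi_obj _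
  exact hS.map_of_exact _

theorem isCoh_flf [AlgebraicGeometry.IsLocallyNoetherian X] {E : X.Modules} (hE : FlatMod.IsFinLocFree E) :
    Coh.IsCoh E := PerfA.CohSerre.isCoh_of_isFinLocFree hE

theorem isCoh_tb {E F : X.Modules} (hE : Coh.IsCoh E) (hF : Coh.IsCoh F) : Coh.IsCoh ((tb E).obj F) := by
  have := hE.1
  have := hF.1
  exact ⟨(Groth.Agent.S2297.result E F).1, (Groth.Agent.S2297.result E F).2 hE.2 hF.2⟩

section

variable (X) [AlgebraicGeometry.IsLocallyNoetherian X]

/-- `[F] ↦ [E ⊗ F]` for `E` finite locally free. -/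
noncomputable def capE (E : X.Modules) (hE : FlatMod.IsFinLocFree E) : SGA6.Kcoh X →+ SGA6.Kcoh X :=
  liftSub (cohP X) (fun F => KDet.clc X ((tb E).obj F)) fun S hS h₁ h₂ h₃ => by
    have := additive_tb E
    exact clSub_of_shortExact (P := cohP X) _ (shortExact_tb hE hS) (isCoh_tb (isCoh_flf hE) h₁)
      (isCoh_tb (isCoh_flf hE) h₂) (isCoh_tb (isCoh_flf hE) h₃)

variable {X}

theorem capE_clc {E : X.Modules} (hE : FlatMod.IsFinLocFree E) {F : X.Modules} (hF : Coh.IsCoh F) :
    capE X E hE (KDet.clc X F) = KDet.clc X ((tb E).obj F) :=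
  liftSub_clSub (P := cohP X) _ _ hF

theorem clc_shortExact_vb {S : ShortComplex X.Modules} (hS : S.ShortExact)
    (h₁ : FlatMod.IsFinLocFree S.X₁) (h₂ : FlatMod.IsFinLocFree S.X₂) (h₃ : FlatMod.IsFinLocFree S.X₃)
    {F : X.Modules} (hF : Coh.IsCoh F) :
    KDet.clc X ((tb S.X₂).obj F) = KDet.clc X ((tb S.X₁).obj F) + KDet.clc X ((tb S.X₃).obj F) := by
  have h := Dcoh.FlatSES.shortExact_tensor hS (Dcoh.Spread.isFlat_of_isFinLocFree h₃) F
  exact clSub_of_shortExact (P := cohP X) _ h (isCoh_tb (isCoh_flf h₁) hF) (isCoh_tb (isCoh_flf h₂) hF)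
    (isCoh_tb (isCoh_flf h₃) hF)

variable (X)

open Classical in
/-- The action of `K^•(X)` on `K_•(X)`. -/
noncomputable def capHom : SGA6.Kvb X →+ SGA6.Kcoh X →+ SGA6.Kcoh X :=
  liftSub (KRR.vbP X) (fun E => if h : FlatMod.IsFinLocFree E then capE X E h else 0)
    fun S hS h₁ h₂ h₃ => by
      have h₁' : FlatMod.IsFinLocFree S.X₁ := h₁
      have h₂' : FlatMod.IsFinLocFree S.X₂ := h₂
      have h₃' : FlatMod.IsFinLocFree S.X₃ := h₃
      rw [dif_pos h₁', dif_pos h₂', dif_pos h₃']
      refine hom_ext_sub fun F hF => ?_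
      rw [AddMonoidHom.add_apply]
      change capE X _ _ (KDet.clc X F) = capE X _ _ (KDet.clc X F) + capE X _ _ (KDet.clc X F)
      rw [capE_clc h₁' hF, capE_clc h₂' hF, capE_clc h₃' hF]
      exact clc_shortExact_vb hS h₁' h₂' h₃' hF

variable {X}

theorem capHom_cl {E F : X.Modules} (hE : FlatMod.IsFinLocFree E) (hF : Coh.IsCoh F) :
    capHom X (KRR.cl X E) (KDet.clc X F) = KDet.clc X ((tb E).obj F) := by
  have h1 : capHom X (KRR.cl X E) = capE X E hE := by
    have := liftSub_clSub (P := KRR.vbP X)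
      (fun E => open Classical in if h : FlatMod.IsFinLocFree E then capE X E h else 0) (by
        intro S hS h₁ h₂ h₃
        have h₁' : FlatMod.IsFinLocFree S.X₁ := h₁
        have h₂' : FlatMod.IsFinLocFree S.X₂ := h₂
        have h₃' : FlatMod.IsFinLocFree S.X₃ := h₃
        simp only [dif_pos h₁', dif_pos h₂', dif_pos h₃']
        refine hom_ext_sub fun F hF => ?_
        rw [AddMonoidHom.add_apply]
        change capE X _ _ (KDet.clc X F) = capE X _ _ (KDet.clc X F) + capE X _ _ (KDet.clc X F)
        rw [capE_clc h₁' hF, capE_clc h₂' hF, capE_clc h₃' hF]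
        exact clc_shortExact_vb hS h₁' h₂' h₃' hF) (X := E) hE
    refine Eq.trans this ?_
    exact dif_pos hE
  rw [h1, capE_clc hE hF]

theorem capHom_tensor {E E' : X.Modules} (hE : FlatMod.IsFinLocFree E) (hE' : FlatMod.IsFinLocFree E')
    (ξ : SGA6.Kcoh X) : capHom X (KRR.cl X ((tb E).obj E')) ξ =
      capHom X (KRR.cl X E) (capHom X (KRR.cl X E') ξ) := by
  have h : capHom X (KRR.cl X ((tb E).obj E')) =
      (capHom X (KRR.cl X E)).comp (capHom X (KRR.cl X E')) := by
    refine hom_ext_sub fun F hF => ?_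
    change capHom X _ (KDet.clc X F) = capHom X _ (capHom X _ (KDet.clc X F))
    have hEE : FlatMod.IsFinLocFree ((tb E).obj E') := Sga67.LocBasis.isFinLocFree_tensorMod hE hE'
    rw [capHom_cl hEE hF, capHom_cl hE' hF, capHom_cl hE (isCoh_tb (isCoh_flf hE') hF)]
    exact clc_congr (Groth.Agent.Ega2.Tens.assoc E E' F)
  rw [h]
  rfl

theorem capHom_unit (ξ : SGA6.Kcoh X) : capHom X (KRR.cl X (Coh.structureModule X)) ξ = ξ := by
  have h : capHom X (KRR.cl X (Coh.structureModule X)) = AddMonoidHom.id _ := by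
    refine hom_ext_sub fun F hF => ?_
    change capHom X _ (KDet.clc X F) = KDet.clc X F
    rw [capHom_cl Sga67.TensorOps.isFinLocFree_structureModule hF]
    exact clc_congr (Groth.Agent.Ega2.Tens.lunit F)
  rw [h]
  rfl

end

section model

variable [AlgebraicGeometry.IsLocallyNoetherian X] {K : Type w} [CommRing K] [LambdaRing.LambdaOps K]
  {P : LambdaRing.PosStructure K} {φ : SGA6.Kvb X →+ K}

/-- Uniqueness of the action. -/
theorem cap_eq {K : Type w} [CommRing K] {φ : SGA6.Kvb X →+ K} {μ : K →+ SGA6.Kcoh X →+ SGA6.Kcoh X}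
    (hμ : KDet.IsCap φ μ) (x : SGA6.Kvb X) : μ (φ x) = capHom X x := by
  have h : μ.comp φ = capHom X := by
    refine hom_ext_sub fun E hE => ?_
    refine hom_ext_sub fun F hF => ?_
    change μ (φ (KRR.cl X E)) (KDet.clc X F) = capHom X (KRR.cl X E) (KDet.clc X F)
    rw [hμ.map_cl E F hE hF, capHom_cl hE hF]
  rw [← h]
  rfl

/-- The action through a model. -/
noncomputable def capK (hK : KRR.IsModel X K P φ) : K →+ SGA6.Kcoh X →+ SGA6.Kcoh X :=
  (capHom X).comp (AddEquiv.ofBijective φ hK.bijective).symm.toAddMonoidHom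

theorem capK_apply (hK : KRR.IsModel X K P φ) (x : SGA6.Kvb X) : capK hK (φ x) = capHom X x := by
  change capHom X ((AddEquiv.ofBijective φ hK.bijective).symm (φ x)) = _
  have : (AddEquiv.ofBijective φ hK.bijective).symm (φ x) = x :=
    (AddEquiv.ofBijective φ hK.bijective).symm_apply_apply x
  rw [this]

theorem isCap (hK : KRR.IsModel X K P φ) : KDet.IsCap φ (capK hK) where
  one_smul ξ := by
    rw [← hK.map_one, capK_apply, capHom_unit]
  mul_smul x y ξ := by
    obtain ⟨x, rfl⟩ := hK.bijective.2 x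
    obtain ⟨y, rfl⟩ := hK.bijective.2 y
    rw [capK_apply, capK_apply]
    have key : ((capK hK).comp (AddMonoidHom.mulLeft (φ x))).comp φ = 
        (AddMonoidHom.compHom (capHom X x)).comp (capHom X) := by
      induction x using induction_sub with
      | zero => ext; simp
      | neg x h =>
        refine AddMonoidHom.ext fun z => ?_
        have := DFunLike.congr_fun h z
        change capK hK (φ (-x) * φ z) = (capHom X (-x)).comp (capHom X z)
        have h' : capK hK (φ x * φ z) = (capHom X x).comp (capHom X z) := this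
        rw [map_neg, neg_mul, map_neg, h', map_neg]
        rfl
      | add x y hx hy =>
        refine AddMonoidHom.ext fun z => ?_
        have h1 : capK hK (φ x * φ z) = (capHom X x).comp (capHom X z) := DFunLike.congr_fun hx z
        have h2 : capK hK (φ y * φ z) = (capHom X y).comp (capHom X z) := DFunLike.congr_fun hy z
        change capK hK (φ (x + y) * φ z) = (capHom X (x + y)).comp (capHom X z)
        rw [map_add, add_mul, map_add, h1, h2, map_add]
        rfl
      | cl E hE =>
        refine hom_ext_sub fun E' hE' => ?_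
        change capK hK (φ (KRR.cl X E) * φ (KRR.cl X E')) =
          (capHom X (KRR.cl X E)).comp (capHom X (KRR.cl X E'))
        rw [hK.map_mul E E' hE hE', capK_apply]
        refine AddMonoidHom.ext fun ξ => ?_
        exact capHom_tensor hE hE' ξ
    have h := DFunLike.congr_fun (DFunLike.congr_fun key y) ξ
    exact h
  map_cl E F hE hF := by
    rw [capK_apply, capHom_cl hE hF]

end model

end K878.CapEx
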