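import Groth.Agent.IntSh.K878.KSup
import Groth.Agent.CohqA.FBCMain
import Groth.Agent.Dcoh.DerSch

/-!
# Push-forward of classes with support
-/

set_option autoImplicit false
universe u
open CategoryTheory CategoryTheory.Limits AlgebraicGeometry Opposite TopologicalSpace
open AlgebraicGeometry.Scheme.Modules
open Groth.Agent Groth.Agent.Sga67 Groth.Agent.Sga67.CohBasic

namespace K878.PushSup

open K878.KSup

variable {X Y : Scheme.{u}}

/-- right derived functors of additive functors kill zero objects -/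
theorem isZero_rightDerived {A B : Type*} [Category A] [Abelian A] [Category B] [Abelian B]
    [HasInjectiveResolutions A] (F : A ⥤ B) [F.Additive] {M : A} (hM : IsZero M) (n : ℕ) :
    IsZero ((F.rightDerived n).obj M) := by
  rw [IsZero.iff_id_eq_zero, ← (F.rightDerived n).map_id, hM.eq_of_src (𝟙 M) 0]
  let I := injectiveResolution M
  have h := F.rightDerived_map_eq n (0 : M ⟶ M) (0 : I.cocomplex ⟶ I.cocomplex) (by
    rw [comp_zero, Functor.map_zero, zero_comp])
  rw [h, Functor.map_zero, zero_comp, comp_zero]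

theorem isZero_restrict_Rpush (π : X ⟶ Y) [QuasiCompact π] [QuasiSeparated π]
    [HasInjectiveResolutions X.Modules] {F : X.Modules} (hF : Coh.IsQCoh F) (U : Y.Opens)
    (h : ∀ x ∈ CohB1.support F, π x ∉ U) (i : ℕ) :
    IsZero (((Coh.Rpush π i).obj F).restrict U.ι) := by
  have hsq : IsPullback (π ⁻¹ᵁ U).ι (π ∣_ U) π U.ι := (isPullback_morphismRestrict π U).flip
  have : HasInjectiveResolutions (π ⁻¹ᵁ U).toScheme.Modules := Dcoh.DerSch.hasInjectiveResolutions _
  obtain ⟨e⟩ := CohqA.FBCMain.nonempty_iso hsq F hF i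
  have h0 : IsZero ((restrictFunctor (π ⁻¹ᵁ U).ι).obj F) := by
    rw [isZero_restrict_iff]
    intro x hx
    rintro ⟨v, rfl⟩
    exact h _ hx v.2
  have h1 : IsZero ((Scheme.Modules.pullback (π ⁻¹ᵁ U).ι).obj F) :=
    h0.of_iso ((restrictFunctorIsoPullback (π ⁻¹ᵁ U).ι).app F).symm
  have h2 : IsZero ((Coh.Rpush (π ∣_ U) i).obj ((Scheme.Modules.pullback (π ⁻¹ᵁ U).ι).obj F)) :=
    isZero_rightDerived _ h1 i
  exact (h2.of_iso e).of_iso ((restrictFunctorIsoPullback U.ι).app _)

theorem support_Rpush_subset (π : X ⟶ Y) [IsProper π] [HasInjectiveResolutions X.Modules]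
    [AlgebraicGeometry.IsLocallyNoetherian X] {F : X.Modules} (hF : Coh.IsCoh F) (i : ℕ) :
    CohB1.support ((Coh.Rpush π i).obj F) ⊆ π '' CohB1.support F := by
  have hcl : IsClosed (CohB1.support F) := Ega3B.Devissage.isClosed_support hF
  have himg : IsClosed (π '' CohB1.support F) := π.isClosedMap _ hcl
  let U : Y.Opens := ⟨(π '' CohB1.support F)ᶜ, himg.isOpen_compl⟩
  intro y hy
  by_contra hcon
  have h0 := isZero_restrict_Rpush π hF.1 U (fun x hx hxU => hxU ⟨x, hx, rfl⟩) i
  have h1 : CohB1.support (((Coh.Rpush π i).obj F).restrict U.ι) =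
      U.ι ⁻¹' CohB1.support ((Coh.Rpush π i).obj F) :=
    Groth.Agent.PerfC.Supp.support_restrict U.ι _
  rw [Groth.Agent.CohqB.DevSupport.support_eq_empty_of_isZero h0] at h1
  have h2 : (⟨y, hcon⟩ : U) ∈ U.ι ⁻¹' CohB1.support ((Coh.Rpush π i).obj F) := hy
  rw [← h1] at h2
  exact h2

/-- Push-forward of classes supported in `T`. -/
theorem push_mem (π : X ⟶ Y) [IsProper π] [HasInjectiveResolutions X.Modules]
    [AlgebraicGeometry.IsLocallyNoetherian X] {N : ℕ} {gc : SGA6.Kcoh X →+ SGA6.Kcoh Y}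
    (hgc : KRR.IsPushCoh π N gc) {T : Set X} {T' : Set Y} (hTT' : Set.MapsTo π T T')
    {c : SGA6.Kcoh X} (hc : c ∈ ksup X T) : gc c ∈ ksup Y T' := by
  refine map_mem_of gc _ (fun G hG hGT => ?_) hc
  have h1 := hgc.2 G hG
  rw [show gc (KDet.clc X G) = _ from h1]
  refine sum_mem fun i _ => ?_
  refine AddSubgroup.zsmul_mem _ ?_ _
  refine clc_mem fun _ => ?_
  intro y hy
  obtain ⟨x, hx, rfl⟩ := support_Rpush_subset π hG i hy
  exact hTT' (hGT hx)

end K878.PushSup
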