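import Groth.Agent.IntSh.K878.Drop
import Groth.Agent.Sga67.KvbRing

/-!
# Products of `[L] - 1` push classes off a fibre
-/

set_option autoImplicit false
universe v u
open CategoryTheory CategoryTheory.Limits AlgebraicGeometry Opposite TopologicalSpace
open AlgebraicGeometry.Scheme.Modules
open Groth.Agent Groth.Agent.Sga67 Groth.Agent.Sga67.CohBasic

namespace K878.DeltaMem

open K878.KSup K878.Cap

variable {X : Scheme.{u}}

theorem flf {L : X.Modules} (hL : PicF.IsInvertible L) : FlatMod.IsFinLocFree L := by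
  intro x
  obtain ⟨U, hx, ⟨e⟩⟩ := hL x
  exact ⟨U, 1, hx, ⟨e ≪≫ (coproductUniqueIso
    (fun _ : Fin 1 => Coh.structureModule (U : Scheme.{u}))).symm⟩⟩

theorem cl_iso {M N : X.Modules} (e : M ≅ N) (h : FlatMod.IsFinLocFree M) :
    KRR.cl X M = KRR.cl X N :=
  Groth.Agent.Sga67.KvbRing.c_iso e h

section

variable {K : Type v} [CommRing K] [LambdaRing.LambdaOps K] {P : LambdaRing.PosStructure K}
  {φ : SGA6.Kvb X →+ K} {μ : K →+ SGA6.Kcoh X →+ SGA6.Kcoh X}

theorem phi_tensorPow (hK : KRR.IsModel X K P φ) {L : X.Modules} (hL : PicF.IsInvertible L) (k : ℕ) :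
    φ (KRR.cl X (CohB1.tensorPow L k)) = φ (KRR.cl X L) ^ k := by
  induction k with
  | zero => rw [pow_zero]; exact hK.map_one
  | succ k ih =>
    rw [pow_succ, ← ih, hK.map_mul _ _ (flf (Fdesc.LocGen.isInvertible_tensorPow hL k)) (flf hL)]
    rfl

/-- `[L] [M] = 1` for inverse modules. -/
theorem phi_mul_inv (hK : KRR.IsModel X K P φ) {L M : X.Modules} (hL : PicF.IsInvertible L)
    (hM : PicF.IsInvertible M) (h : ClSub.IsInverseOf L M) :
    φ (KRR.cl X L) * φ (KRR.cl X M) = 1 := by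
  obtain ⟨e⟩ := h
  rw [hK.map_mul _ _ (flf hL) (flf hM), ← hK.map_one]
  have h1 : FlatMod.IsFinLocFree (CohB1.tensorMod L M) :=
    Groth.Agent.Sga67.LocBasis.isFinLocFree_tensorMod (flf hL) (flf hM)
  exact congrArg φ (cl_iso e h1)

variable [AlgebraicGeometry.IsNoetherian X]

theorem prod_mem (hK : KRR.IsModel X K P φ) (hμ : KDet.IsCap φ μ) (V : X.Opens) (F₀ : Set X)
    (hF₀ : F₀ ⊆ V) (T : Set X) (hVT : (V : Set X)ᶜ ⊆ T)
    (hT : ∀ G : X.Modules, Coh.IsCoh G → CohB1.support G ∩ F₀ = ∅ → CohB1.support G ⊆ T)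
    (m : ℕ) : ∀ (L : Fin m → X.Modules), (∀ i, PicF.IsInvertible (L i)) →
      (∀ i, Curv2.IsGloballyGenerated ((L i).restrict V.ι)) →
      ∀ G : X.Modules, Coh.IsCoh G →
        topologicalKrullDim ↥(CohB1.support G ∩ F₀) < (m : WithBot ℕ∞) →
        μ (∏ i, (φ (KRR.cl X (L i)) - 1)) (KDet.clc X G) ∈ ksup X T := by
  induction m with
  | zero =>
    intro L _ _ G hG hdim
    rw [Fin.prod_univ_zero, hμ.one_smul]
    exact clc_mem fun _ => hT G hG (DimCut.eq_empty_of_dim_lt_zero hdim)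
  | succ m ih =>
    intro L hL hgen G hG hdim
    rw [Fin.prod_univ_succ]
    set x := φ (KRR.cl X (L 0)) with hx
    set y := ∏ i : Fin m, (φ (KRR.cl X (L i.succ)) - 1) with hy
    obtain ⟨k₀, hk₀⟩ := Drop.exists_drop V (hL 0) (hgen 0) hG F₀ hF₀ m hdim
    have key : ∀ k : ℕ, k₀ ≤ k → μ (y * (x ^ k - 1)) (KDet.clc X G) ∈ ksup X T := by
      intro k hk
      obtain ⟨C, K', hC, hK', hdC, hdK, hrel⟩ := hk₀ k hk
      have h1 : μ (x ^ k - 1) (KDet.clc X G) =
          KDet.clc X (CohB1.tensorMod (CohB1.tensorPow (L 0) k) G) - KDet.clc X G := by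
        rw [map_sub, AddMonoidHom.sub_apply, hμ.one_smul, hx, ← phi_tensorPow hK (hL 0) k,
          hμ.map_cl _ _ (flf (Fdesc.LocGen.isInvertible_tensorPow (hL 0) k)) hG]
        rfl
      have h2 := cap_mem hK.bijective.2 hμ y (ksup_mono hVT hrel)
      rw [← h1, (μ y).map_sub, ← hμ.mul_smul, (μ y).map_sub] at h2
      have h3 := ih (fun i => L i.succ) (fun i => hL _) (fun i => hgen _) C hC hdC
      have h4 := ih (fun i => L i.succ) (fun i => hL _) (fun i => hgen _) K' hK' hdK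
      have h5 := add_mem h2 (sub_mem h3 h4)
      rwa [← hy, sub_add_cancel] at h5
    have e1 : (x - 1) * y = y * (x ^ (k₀ + 1) - 1) - x * (y * (x ^ k₀ - 1)) := by ring
    rw [e1, map_sub, AddMonoidHom.sub_apply, hμ.mul_smul x]
    exact sub_mem (key _ (Nat.le_succ _)) (cap_mem hK.bijective.2 hμ x (key _ le_rfl))

/-- The version with `1 - [M i]`, `M i` inverse to `L i`. -/
theorem delta_mem (hK : KRR.IsModel X K P φ) (hμ : KDet.IsCap φ μ) (V : X.Opens) (F₀ : Set X)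
    (hF₀ : F₀ ⊆ V) (T : Set X) (hVT : (V : Set X)ᶜ ⊆ T)
    (hT : ∀ G : X.Modules, Coh.IsCoh G → CohB1.support G ∩ F₀ = ∅ → CohB1.support G ⊆ T)
    (m : ℕ) (L M : Fin m → X.Modules) (hL : ∀ i, PicF.IsInvertible (L i))
    (hM : ∀ i, PicF.IsInvertible (M i)) (hLM : ∀ i, ClSub.IsInverseOf (L i) (M i))
    (hgen : ∀ i, Curv2.IsGloballyGenerated ((L i).restrict V.ι))
    (G : X.Modules) (hG : Coh.IsCoh G)
    (hdim : topologicalKrullDim ↥(CohB1.support G ∩ F₀) < (m : WithBot ℕ∞)) :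
    μ (KDet.delta φ M) (KDet.clc X G) ∈ ksup X T := by
  have h1 := prod_mem hK hμ V F₀ hF₀ T hVT hT m L hL hgen G hG hdim
  have h2 : KDet.delta φ M = (∏ i, φ (KRR.cl X (M i))) * ∏ i, (φ (KRR.cl X (L i)) - 1) := by
    unfold KDet.delta
    rw [← Finset.prod_mul_distrib]
    refine Finset.prod_congr rfl fun i _ => ?_
    have := phi_mul_inv hK (hL i) (hM i) (hLM i)
    rw [mul_sub, mul_one, mul_comm (φ (KRR.cl X (M i))), this]
  rw [h2, hμ.mul_smul]
  exact cap_mem hK.bijective.2 hμ _ h1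

end

end K878.DeltaMem
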