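import Groth.Agent.IntSh.K878.FilPB
import Groth.Agent.Krr.H490.PBExist

/-!
# The abstract filtration theorem

`gammaFiltration_le`: the `γ`-filtration of `K^•(S)` lowers a filtration `Fil` of `K_•(S)` as soon as for every
projective bundle `π : P ⟶ S` there is a filtration of `K_•(P)` lowered by `1 - [O(1)]`, preserved by `[O(-1)]`,
and compatible with `π^*` (shift by the relative dimension) and `π_*`.
-/

set_option autoImplicit false
universe v u

open CategoryTheory CategoryTheory.Limits AlgebraicGeometry Opposite TopologicalSpace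

namespace K878.FilMain

open Groth.Agent Groth.Agent.Krr.H471.ChartVan Groth.Agent.Krr.H482.PullLambda
  Groth.Agent.Krr.H482.PullFinal K878.CapEx K878.KSup K878.PBPush K878.FilAlg K878.FilPB LambdaRing

variable {S : Scheme.{u}} [AlgebraicGeometry.IsNoetherian S] [ConnectedSpace S]
  {KS : Type v} [CommRing KS] [LambdaOps KS] {PS : PosStructure KS} {φS : SGA6.Kvb S →+ KS}
  {μ : KS →+ SGA6.Kcoh S →+ SGA6.Kcoh S}

/-- A filtration of `K_•(P)` compatible with one of `K_•(S)`. -/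
structure IsLift {P : Scheme.{u}} [AlgebraicGeometry.IsNoetherian P] (π : P ⟶ S) [Flat π] (r : ℕ)
    (O1 N : P.Modules) (Fil : ℤ → AddSubgroup (SGA6.Kcoh S)) (FilP : ℤ → AddSubgroup (SGA6.Kcoh P)) :
    Prop where
  line : ∀ (m : ℤ) (η : SGA6.Kcoh P), η ∈ FilP m → η - capHom P (KRR.cl P O1) η ∈ FilP (m - 1)
  inv : ∀ (m : ℤ) (η : SGA6.Kcoh P), η ∈ FilP m → capHom P (KRR.cl P N) η ∈ FilP m
  pull : ∀ (m : ℤ) (ξ : SGA6.Kcoh S), ξ ∈ Fil m → PBPush.pull π ξ ∈ FilP (m + r)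
  push : ∀ gc : SGA6.Kcoh P →+ SGA6.Kcoh S, KRR.IsPushCoh π r gc →
    ∀ (m : ℤ) (η : SGA6.Kcoh P), η ∈ FilP m → gc η ∈ Fil m

/-- **The filtration theorem.** -/
theorem gammaFiltration_le (hKS : KRR.IsModel S KS PS φS) (hμ : KDet.IsCap φS μ)
    {Fil : ℤ → AddSubgroup (SGA6.Kcoh S)} (hmono : ∀ i j, i ≤ j → Fil i ≤ Fil j)
    (H : ∀ (r : ℕ) (E : S.Modules), FlatMod.IsFinLocFreeOfRank (r + 1) E →
      ∀ (P : Scheme.{u}) [AlgebraicGeometry.IsNoetherian P] (π : P ⟶ S) [Flat π] [IsProper π]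
        (O1 N : P.Modules) (q : (Scheme.Modules.pullback π).obj E ⟶ O1), KRR.IsProjBundle π E O1 q →
        PicF.IsInvertible N → Nonempty (CohB1.tensorMod O1 N ≅ Coh.structureModule P) →
        ∃ FilP : ℤ → AddSubgroup (SGA6.Kcoh P), IsLift π r O1 N Fil FilP) (n : ℕ) :
    gammaFiltration PS n ≤ Low μ Fil n := by
  refine FilAlg.gammaFiltration_le PS hμ.one_smul hμ.mul_smul hmono ?_ n
  intro e he n
  obtain ⟨m, E, hm, hE, rfl⟩ := (hKS.mem_pos_iff e).mp he
  obtain ⟨r, rfl⟩ : ∃ r, m = r + 1 := ⟨m - 1, by omega⟩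
  have haug : (PS.aug (φS (KRR.cl S E))).toNat = r + 1 := by
    rw [hKS.aug_cl (r + 1) E hE]
    rfl
  rw [haug]
  obtain ⟨P, π, O1, q, B⟩ := Krr.H490.PBExist.exists_isProjBundle hE
  have hprop := Krr.H483.PBTop.isProper hE B
  have hnoeth := Krr.H483.PBTop.isNoetherian hE B
  have hconn := Krr.H483.PBTop.connectedSpace hE B
  have hflat := PBUnit.flat hE B
  have hT := Krr.H471.PBTwist.isTwist_of_isProjBundle hE B
  obtain ⟨N, hN, ⟨i⟩⟩ := Grpsch.PicGrp.exists_inverse (PBUnit.isInvertible_O1 B)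
  obtain ⟨FilP, hF⟩ := H r E hE P π O1 N q B hN ⟨i⟩
  obtain ⟨KP, _, _, PP, φP, hKP⟩ := S3796.result P
  obtain ⟨g, hg⟩ := exists_isPull π hKS.bijective φP
  exact gamma_mem_Low hKP hKS hg hμ hE B hT
    (isFinLocFree_of_rank (Ega2.QCohLocal.isFinLocFreeOfRank_one_iff.2 hN)) i hF.line hF.inv hF.pull
    (hF.push _ (isPushCoh_push hT)) n

end K878.FilMain
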