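import Groth.Agent.IntSh.K877.Dev
import Groth.Agent.IntSh.K877.Pts
import Groth.Agent.QGor.K970.InvAt
import Groth.Agent.SDiv.K476.Ref1
import Groth.Agent.KZero.K233.LenK0
import Groth.Agent.CohqA.IdealMod
import Groth.Prelude.Def_KDet2
import Groth.Agent.IntSh.K878.KSup

/-!
# The determinant of classes supported away from a point is invertible at the point
-/

set_option autoImplicit false
universe u
open CategoryTheory CategoryTheory.Limits AlgebraicGeometry Opposite TopologicalSpace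
open AlgebraicGeometry.Scheme.Modules RefHull
open Groth.Agent Groth.Agent.Sga67 Groth.Agent.Sga67.CohBasic

namespace K878.DetLoc

open K878.KSup K970.InvAt

variable {X Y : Scheme.{u}}

/-! ### Classes invertible at a point -/

theorem invertibleAt_of_refTensor {L M : Y.Modules} {y : Y} (hM : IsReflexive M)
    (hL : RelCanon.InvertibleAt L y) (e : RefPow.refTensor L M ≅ Coh.structureModule Y) :
    RelCanon.InvertibleAt M y := by
  obtain ⟨U, hyU, ⟨f⟩⟩ := hL
  refine ⟨U, hyU, ⟨?_⟩⟩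
  have hM' : IsReflexive (M.restrict U.ι) := K476.HomSh5.isReflexive_restrict U.ι hM
  have : IsIso (bidualMap (M.restrict U.ι)) := hM'
  have e1 : M.restrict U.ι ≅ ddual (M.restrict U.ι) := asIso (bidualMap (M.restrict U.ι))
  have e2 : CohB1.tensorMod (L.restrict U.ι) (M.restrict U.ι) ≅ M.restrict U.ι :=
    Groth.Agent.Ega2.Tens.mapTIso f (Iso.refl _) ≪≫ Groth.Agent.Ega2.Tens.lunit _
  have e3 : (CohB1.tensorMod L M).restrict U.ι ≅ M.restrict U.ι :=
    Ega3B.TensRestrict.restrictIso _ L M ≪≫ e2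
  have e4 : (RefPow.refTensor L M).restrict U.ι ≅ ddual (M.restrict U.ι) :=
    K476.HomSh5.restrictDDual U.ι _ ≪≫ K476.HomSh1.dualIso (K476.HomSh1.dualIso e3)
  exact e1 ≪≫ e4.symm ≪≫ (Scheme.Modules.restrictFunctor U.ι).mapIso e ≪≫
    Scheme.Modules.restrictUnitIso _

/-- The subgroup of the classes of the rank one reflexive modules which are invertible at `y`. -/
def invAt (y : Y) [RefFun.Law Y] : Subgroup (RefFun.Ref1Set Y) where
  carrier := {c | ∀ (L : Y.Modules) (hL : IsRef1 L), c = RefFun.cls L hL → RelCanon.InvertibleAt L y}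
  one_mem' := fun L hL h => by
    have h1 := congrArg Subtype.val h
    rw [RefFun.Law.one_val] at h1
    obtain ⟨e⟩ := (PicGrp.cl_eq_cl_iff _ _).mp h1
    exact invertibleAt_of_iso e y (invertibleAt_structure y)
  mul_mem' := fun {a b} ha hb L hL h => by
    obtain ⟨A, hA, rfl⟩ := RefFun.exists_eq_cls a
    obtain ⟨B, hB, rfl⟩ := RefFun.exists_eq_cls b
    have h1 := congrArg Subtype.val h
    rw [RefFun.Law.mul_val] at h1
    obtain ⟨e⟩ := (PicGrp.cl_eq_cl_iff _ _).mp h1
    exact invertibleAt_of_iso e y (invertibleAt_ddual y (invertibleAt_tensor y (ha A hA rfl) (hb B hB rfl)))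
  inv_mem' := fun {a} ha L hL h => by
    obtain ⟨A, hA, rfl⟩ := RefFun.exists_eq_cls a
    have h1 := congrArg Subtype.val (mul_inv_cancel (RefFun.cls A hA))
    rw [h, RefFun.Law.mul_val, RefFun.Law.one_val] at h1
    obtain ⟨e⟩ := (PicGrp.cl_eq_cl_iff _ _).mp h1
    exact invertibleAt_of_refTensor hL.2.1 (ha A hA rfl) e

theorem cls_mem_invAt {y : Y} [RefFun.Law Y] {L : Y.Modules} (hL : IsRef1 L)
    (h : RelCanon.InvertibleAt L y) :
    Additive.ofMul (RefFun.cls L hL) ∈ Subgroup.toAddSubgroup (invAt y) := by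
  intro M hM e
  obtain ⟨e⟩ := (RefFun.cls_eq_cls_iff hL hM).mp e
  exact invertibleAt_of_iso e y h

theorem invertibleAt_of_mem {y : Y} [RefFun.Law Y] {L : Y.Modules} (hL : IsRef1 L)
    (h : Additive.ofMul (RefFun.cls L hL) ∈ Subgroup.toAddSubgroup (invAt y)) :
    RelCanon.InvertibleAt L y := h L hL rfl

/-! ### Prime divisors -/

theorem isIso_kernel_ι_of_isZero {C : Type*} [Category C] [Abelian C] {A B : C} (f : A ⟶ B)
    (h : IsZero B) : IsIso (kernel.ι f) := by
  have : f = 0 := h.eq_of_tgt _ _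
  subst this
  infer_instance

theorem nonempty_restrict_idealMod (x : X) (U : X.Opens) (hU : ∀ z ∈ U, ¬ x ⤳ z) :
    Nonempty ((ClSub.idealMod (IntMult.ptIdeal x)).restrict U.ι ≅ Coh.structureModule U) := by
  have h0 : IsZero ((restrictFunctor U.ι).obj (Cyc.closureStructureSheaf x)) := by
    rw [isZero_restrict_iff, K233.LenK0.support_closureStructureSheaf]
    rintro z hz ⟨v, rfl⟩
    exact hU _ v.2 (specializes_iff_mem_closure.mpr hz)
  let f := ClSub.toSubscheme (IntMult.ptIdeal x)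
  let F := restrictFunctor U.ι
  have h1 : IsIso (kernel.ι (F.map f)) := isIso_kernel_ι_of_isZero _ h0
  exact ⟨PreservesKernel.iso F f ≪≫ asIso (kernel.ι (F.map f)) ≪≫ Scheme.Modules.restrictUnitIso _⟩

theorem invertibleAt_idealMod {x y : X} (h : ¬ x ⤳ y) :
    RelCanon.InvertibleAt (ClSub.idealMod (IntMult.ptIdeal x)) y := by
  let U : X.Opens := ⟨(closure {x})ᶜ, isClosed_closure.isOpen_compl⟩
  refine ⟨U, fun hy => h (specializes_iff_mem_closure.mpr hy), nonempty_restrict_idealMod x U ?_⟩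
  intro z hz hxz
  exact hz (specializes_iff_mem_closure.mp hxz)

theorem isCoh_idealMod [IsLocallyNoetherian X] (D : X.IdealSheafData) :
    Coh.IsCoh (ClSub.idealMod D) := by
  have := CohqA.IdealMod.mono_idealModι D
  exact isCoh_of_mono (ClSub.idealModι D) (Fdesc.StructMod.isCoh_structureModule X)
    (CohqA.IdealMod.isQCoh_idealMod D)

theorem isRef1_primeDivisor [IsNoetherian Y] [IsIntegral Y] {x : Y} (hx : x ≠ genericPoint Y) :
    IsRef1 (dual (ClSub.idealMod (IntMult.ptIdeal x))) := by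
  refine K476.Ref1.isRef1_dual (isCoh_idealMod _) ?_
  let U : Y.Opens := ⟨(closure {x})ᶜ, isClosed_closure.isOpen_compl⟩
  have hU : ∀ z ∈ U, ¬ x ⤳ z := fun z hz hxz => hz (specializes_iff_mem_closure.mp hxz)
  refine ⟨U, ?_, ?_⟩
  · have h1 : genericPoint Y ∈ U := by
      intro h
      exact hx ((specializes_iff_mem_closure.mpr h).antisymm (genericPoint_specializes x)).eq
    exact U.2.dense ⟨_, h1⟩
  · obtain ⟨e⟩ := nonempty_restrict_idealMod x U hU
    exact K476.HomSh6.isInvertible_of_iso e.symm (fun _ => ⟨⊤, trivial, ⟨Scheme.Modules.restrictUnitIso _⟩⟩)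

theorem dim_eq_one [IsNoetherian Y] [IsIntegral Y] {x : Y} (hx : x ≠ genericPoint Y)
    (h : ¬ (2 : WithBot ℕ∞) ≤ ringKrullDim (Y.presheaf.stalk x)) :
    ringKrullDim (Y.presheaf.stalk x) = 1 := by
  have h1 := IntSh.K877.Pts.dim_add_one_le (genericPoint_specializes x) hx.symm
  obtain ⟨n, hn⟩ := IntSh.K877.Pts.exists_dim x
  have h2 := IntSh.K877.Pts.dim_nonneg (genericPoint Y)
  have h3 : (1 : WithBot ℕ∞) ≤ ringKrullDim (Y.presheaf.stalk x) := by
    refine le_trans ?_ h1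
    have := add_le_add_left h2 1
    simp at this ⊢
  rw [hn] at h h3 ⊢
  have h4 : 1 ≤ n := by exact_mod_cast h3
  have h5 : ¬ 2 ≤ n := fun h' => h (by exact_mod_cast h')
  have : n = 1 := by omega
  subst this
  rfl

theorem dh_mem [IsNoetherian Y] [IsIntegral Y] [RefFun.Law Y]
    {dh : SGA6.Kcoh Y →+ Additive (RefFun.Ref1Set Y)} (hdh : KDet.IsDetHat Y dh) (y : Y)
    {ξ : SGA6.Kcoh Y} (hξ : ξ ∈ ksup Y {z | ¬ z ⤳ y}) :
    dh ξ ∈ Subgroup.toAddSubgroup (invAt y) := by
  refine map_mem_of dh _ (fun G hG hGT => ?_) hξ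
  have hST : ∀ x ∈ {z | ¬ z ⤳ y}, x ∉ {x : Y | (2 : WithBot ℕ∞) ≤ ringKrullDim (Y.presheaf.stalk x)} →
      ∀ z, x ⤳ z → z ≠ x → z ∈ {x : Y | (2 : WithBot ℕ∞) ≤ ringKrullDim (Y.presheaf.stalk x)} := by
    intro x hxT hxS z hxz hzx
    have hη : x ≠ genericPoint Y := by
      rintro rfl
      exact hxT (genericPoint_specializes y)
    have h1 : ringKrullDim (Y.presheaf.stalk x) = 1 := dim_eq_one hη hxS
    have h2 := IntSh.K877.Pts.dim_add_one_le hxz hzx.symm
    rw [h1] at h2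
    exact le_trans (by norm_num) h2
  obtain ⟨m, hm, hcl, -⟩ := IntSh.K877.Dev.exists_devissage
    {x : Y | (2 : WithBot ℕ∞) ≤ ringKrullDim (Y.presheaf.stalk x)} {z | ¬ z ⤳ y}
    (fun x hx z hxz => le_trans hx (IntSh.K877.Pts.dim_mono hxz)) hST G hG hGT
  have h2 : dh (IntSh.K877.Dev.cl G -
      m.sum (fun x n => n • IntSh.K877.Dev.cl (Cyc.closureStructureSheaf x))) = 0 := by
    apply hdh.map_coniv_two
    exact hcl
  rw [map_sub, sub_eq_zero, Finsupp.sum, map_sum] at h2
  change dh (IntSh.K877.Dev.cl G) ∈ _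
  rw [h2]
  refine sum_mem fun x hx => ?_
  rw [map_nsmul]
  refine AddSubgroup.nsmul_mem _ ?_ _
  obtain ⟨hxy, hx2⟩ := hm x (Finsupp.mem_support_iff.mp hx)
  have hη : x ≠ genericPoint Y := by
    rintro rfl
    exact hxy (genericPoint_specializes y)
  have h1 : ringKrullDim (Y.presheaf.stalk x) = 1 := dim_eq_one hη hx2
  have h3 := hdh.map_primeDivisor x h1 (isRef1_primeDivisor hη)
  change dh (KDet.clc Y (Cyc.closureStructureSheaf x)) ∈ _
  rw [h3]
  exact cls_mem_invAt _ (invertibleAt_dual y (invertibleAt_idealMod hxy))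

/-- A class supported away from every point (locally) has invertible determinant. -/
theorem exists_invertible [IsNoetherian Y] [IsIntegral Y] [RefFun.Law Y]
    {dh : SGA6.Kcoh Y →+ Additive (RefFun.Ref1Set Y)} (hdh : KDet.IsDetHat Y dh)
    {ξ : SGA6.Kcoh Y} (hξ : ∀ y : Y, ξ ∈ ksup Y {z | ¬ z ⤳ y}) :
    ∃ (I : Y.Modules) (hR : RefHull.IsRef1 I), PicF.IsInvertible I ∧
      dh ξ = Additive.ofMul (RefFun.cls I hR) := by
  obtain ⟨I, hR, h⟩ := RefFun.exists_eq_cls (dh ξ).toMul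
  refine ⟨I, hR, fun y => ?_, ?_⟩
  · exact dh_mem hdh y (hξ y) I hR h
  · exact congrArg Additive.ofMul h

end K878.DetLoc
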