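import Groth.Agent.Models2.BaseChangeSq
import Groth.Agent.PerfB.ModBC
import Groth.Agent.PerfC.RpushSingle
import Groth.Agent.S1027
import Groth.Agent.S0927

/-!
# Base change for `f_* M` when the higher direct images vanish
-/

set_option autoImplicit false
universe u
open CategoryTheory CategoryTheory.Limits AlgebraicGeometry
attribute [local instance] HasDerivedCategory.standard

namespace K878.AcyBC

open Groth.Agent Groth.Agent.PerfB.ModBC Groth.Agent.PerfB.LpullKit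

variable {X S X' S' : Scheme.{u}}

/-- An object with homology only in degree zero. -/
theorem exists_iso_inD (K : DCoh.D X) (h : ∀ n : ℤ, n ≠ 0 → IsZero (DCoh.HD K n)) :
    Nonempty (K ≅ DCoh.inD X (DCoh.HD K 0)) := by
  have h1 : K.IsGE 0 := (DerivedCategory.isGE_iff K 0).2 fun i hi => h i (by omega)
  have h2 : K.IsLE 0 := (DerivedCategory.isLE_iff K 0).2 fun i hi => h i (by omega)
  obtain ⟨Y, ⟨e⟩⟩ := DerivedCategory.exists_iso_singleFunctor_obj_of_isGE_of_isLE K 0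
  have e' : DCoh.HD K 0 ≅ Y := (DerivedCategory.homologyFunctor X.Modules 0).mapIso e ≪≫
    (DerivedCategory.singleFunctorCompHomologyFunctorIso X.Modules 0).app Y
  exact ⟨e ≪≫ (DerivedCategory.singleFunctor X.Modules 0).mapIso e'.symm⟩

theorem isZero_HD_inD (M : X.Modules) (n : ℤ) (hn : n ≠ 0) : IsZero (DCoh.HD (DCoh.inD X M) n) := by
  rcases lt_or_gt_of_ne hn with h | h
  · exact DerivedCategory.isZero_of_isGE (DCoh.inD X M) 0 n h
  · exact DerivedCategory.isZero_of_isLE (DCoh.inD X M) 0 n h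

/-- `Lg^*` of a bundle. -/
theorem lpull_flf (g : S' ⟶ S) [DCoh.HasLpull g] {M : S.Modules} (hM : FlatMod.IsFinLocFree M) :
    Nonempty ((DCoh.Lpull g).obj (DCoh.inD S M) ≅
      DCoh.inD S' ((Scheme.Modules.pullback g).obj M)) :=
  ⟨(DCoh.Lpull g).mapIso (inDQ _) ≪≫ lpullQ g _ (isStrictlyPerfect_cx0 hM) ≪≫
    DerivedCategory.Q.mapIso (mapCx0 (Scheme.Modules.pullback g) _) ≪≫ (inDQ _).symm⟩

theorem baseChange_inD (f : X ⟶ S) [QuasiCompact f] [QuasiSeparated f]
    (g : S' ⟶ S) (g' : X' ⟶ X) (f' : X' ⟶ S') (sq : IsPullback g' f' f g)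
    (G : X.Modules) (hG : Coh.IsQCoh G) (hflat : FlatMod.IsFlatOver f G)
    [DCoh.HasRpush f] [DCoh.HasLpull g] [DCoh.HasRpush f'] :
    Nonempty ((DCoh.Lpull g).obj ((DCoh.Rpush f).obj (DCoh.inD X G)) ≅
      (DCoh.Rpush f').obj (DCoh.inD _ ((Scheme.Modules.pullback g').obj G))) := by
  have := Dcoh.LTMod.hasLTensorMod G
  have := Dcoh.LTMod.hasLTensorMod ((Scheme.Modules.pullback g').obj G)
  have : DCoh.HasLpull g' := Groth.Agent.S0959.result g'
  obtain ⟨e⟩ := Models2.BaseChangeSq.baseChange f g g' f' sq (DCoh.inD X (Coh.structureModule X))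
    (PerfC.RpushCoh.isQCohD_inD (Ega2.QCohLocal.isQCoh_structureModule X)) G hG hflat
  exact ⟨((DCoh.Lpull g).mapIso ((DCoh.Rpush f).mapIso (ltensorInD G))).symm ≪≫ e ≪≫
    (DCoh.Rpush f').mapIso
      ((DCoh.LTensorMod _).mapIso (lpullInD g') ≪≫ ltensorInD _)⟩

theorem main (f : X ⟶ S) [IsProper f] [LocallyOfFinitePresentation f]
    (g : S' ⟶ S) (g' : X' ⟶ X) (f' : X' ⟶ S') (sq : IsPullback g' f' f g)
    [HasInjectiveResolutions X.Modules] [HasInjectiveResolutions X'.Modules]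
    (M : X.Modules) (hM : CohB1.IsFP M) (hfl : FlatMod.IsFlatOver f M)
    (hvan : ∀ i : ℕ, 0 < i → IsZero ((Coh.Rpush f i).obj M)) :
    FlatMod.IsFinLocFree ((Coh.push f).obj M) ∧
    (∀ i : ℕ, 0 < i → IsZero ((Coh.Rpush f' i).obj ((Scheme.Modules.pullback g').obj M))) ∧
    Nonempty ((Scheme.Modules.pullback g).obj ((Coh.push f).obj M) ≅
      (Coh.push f').obj ((Scheme.Modules.pullback g').obj M)) := by
  have hq : Coh.IsQCoh M := Models2.FPCoh.isQCoh_of_isFP hM
  have i1 : DCoh.HasRpush f := Dcoh.DerSch.hasRpush f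
  have i2 : DCoh.HasRpush f' := Dcoh.DerSch.hasRpush f'
  have i3 : DCoh.HasLpull g := Groth.Agent.S0959.result g
  have hff : FlatMod.IsFinLocFree ((Coh.push f).obj M) :=
    S1027.result f M hM hfl (PerfB.StructFlat.isProperOver_support f hM) hvan
  refine ⟨hff, ?_⟩
  obtain ⟨e⟩ := baseChange_inD f g g' f' sq M hq hfl
  obtain ⟨a⟩ := exists_iso_inD ((DCoh.Rpush f).obj (DCoh.inD X M)) (by
    intro n hn
    rcases lt_or_gt_of_ne hn with h | h
    · exact PerfC.RpushSingle.isZero_of_neg f M n h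
    · obtain ⟨m, rfl⟩ : ∃ m : ℕ, n = m := ⟨n.toNat, by omega⟩
      exact (hvan m (by omega)).of_iso (PerfC.RpushSingle.iso f m M))
  let b : DCoh.HD ((DCoh.Rpush f).obj (DCoh.inD X M)) 0 ≅ (Coh.push f).obj M :=
    PerfC.RpushSingle.iso f 0 M ≪≫ (Coh.push f).rightDerivedZeroIsoSelf.app M
  obtain ⟨c⟩ := lpull_flf g hff
  let t : DCoh.inD S' ((Scheme.Modules.pullback g).obj ((Coh.push f).obj M)) ≅
      (DCoh.Rpush f').obj (DCoh.inD _ ((Scheme.Modules.pullback g').obj M)) :=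
    c.symm ≪≫ (DCoh.Lpull g).mapIso (a ≪≫ (DerivedCategory.singleFunctor S.Modules 0).mapIso b).symm ≪≫ e
  refine ⟨fun i hi => ?_, ⟨?_⟩⟩
  · refine IsZero.of_iso ?_ ((PerfC.RpushSingle.iso f' i _).symm ≪≫
      (DerivedCategory.homologyFunctor S'.Modules (i : ℤ)).mapIso t.symm)
    exact isZero_HD_inD _ (i : ℤ) (by omega)
  · exact ((DerivedCategory.singleFunctorCompHomologyFunctorIso S'.Modules 0).app _).symm ≪≫
      (DerivedCategory.homologyFunctor S'.Modules 0).mapIso t ≪≫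
      PerfC.RpushSingle.iso f' 0 _ ≪≫ (Coh.push f').rightDerivedZeroIsoSelf.app _

end K878.AcyBC
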