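import Groth.Agent.Krr.H454.CohVan
import Groth.Agent.Krr.H471.ChartVan
import Groth.Agent.Krr.H471.ChartTwist
import Groth.Agent.Krr.H471.PBTwist
import Groth.Agent.S2297

/-!
# Cohomology of `N ⊗ π^* G` on a projective bundle, `G` coherent
-/

set_option autoImplicit false
universe u

open CategoryTheory CategoryTheory.Limits AlgebraicGeometry Opposite TopologicalSpace

namespace K878.PBVan

open Groth.Agent Groth.Agent.Sga67.CMReg Groth.Agent.Sga67.TwistProj Groth.Agent.Fga.HShift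
open Groth.Agent.Krr.H454.CohVan Groth.Agent.Krr.H471.ChartVan Groth.Agent.Krr.H471.ChartTwist

section aff

variable {r : ℕ} {A : Type u} [CommRing A]

theorem hh_pullback_coh_neg_aux [IsNoetherianRing A] (j : ℤ) (hj : -(r : ℤ) ≤ j) (hj' : j ≤ -1) (k : ℕ) :
    ∀ (q : ℕ) (_ : r < q + k) (M : (Spec (CommRingCat.of A)).Modules) (_ : Coh.IsCoh M),
    Subsingleton (Coh.HH (CohB1.ProjSpace r A)
      ((tA r A j).obj ((Scheme.Modules.pullback (CohB1.ProjSpace.toSpec r A)).obj M)) q) := by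
  have hN : IsNoetherianRing (CommRingCat.of A) := ‹IsNoetherianRing A›
  induction k with
  | zero =>
    intro q hr M hM
    have hq' : Coh.IsQCoh ((Scheme.Modules.pullback (CohB1.ProjSpace.toSpec r A)).obj M) :=
      FormalA.PullbackQC.isQCoh_pullback _ _ hM.1
    exact (hh_iff _ j q).1 (subsingleton_of_gt hq' j q (by omega))
  | succ k ih =>
    intro q hr M hM
    obtain ⟨n, p, hp⟩ := exists_epi_free hM
    let T : ShortComplex (Spec (CommRingCat.of A)).Modules := ShortComplex.mk (kernel.ι p) p (kernel.condition p)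
    have hT : T.ShortExact :=
      { exact := ShortComplex.exact_of_f_is_kernel _ (kernelIsKernel _)
        mono_f := inferInstanceAs (Mono (kernel.ι p))
        epi_g := hp }
    have hfree : Coh.IsCoh (FlatMod.freeMod (Spec (CommRingCat.of A)) n) := PerfA.CohSerre.isCoh_freeMod n
    have hK : Coh.IsCoh T.X₁ := Sga67.CohBasic.isCoh_kernel p hfree hM.1
    have hfl : PreservesFiniteLimits (Scheme.Modules.pullback (CohB1.ProjSpace.toSpec r A)) :=
      Sga67.FlatPre.preservesFiniteLimits_pullback _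
    have hT' : ((T.map (Scheme.Modules.pullback (CohB1.ProjSpace.toSpec r A))).map (tA r A j)).ShortExact :=
      (hT.map_of_exact _).map_of_exact _
    refine subsingleton₃ hT' q ?_ ?_
    · exact hh_freeMod _ n j q (S0844.result A r j q (by omega) (by omega))
    · exact ih (q + 1) (by omega) _ hK

/-- `H^q(P^r_A, O(j) ⊗ g^* M) = 0` for (`q ≥ 1`, `j ≥ -r`) or (`-r ≤ j ≤ -1`), `M` coherent. -/
theorem hh_pullback_coh' [IsNoetherianRing A] {M : (Spec (CommRingCat.of A)).Modules} (hM : Coh.IsCoh M)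
    (j : ℤ) (q : ℕ) (hq : (1 ≤ q ∧ -(r : ℤ) ≤ j) ∨ (-(r : ℤ) ≤ j ∧ j ≤ -1)) :
    Subsingleton (Coh.HH (CohB1.ProjSpace r A)
      ((tA r A j).obj ((Scheme.Modules.pullback (CohB1.ProjSpace.toSpec r A)).obj M)) q) := by
  rcases hq with ⟨h1, h2⟩ | ⟨h1, h2⟩
  · exact hh_pullback_coh hM j h2 q h1
  · exact hh_pullback_coh_neg_aux j h1 h2 (r + 1) q (by omega) M hM

end aff

variable {P S : Scheme.{u}} {r : ℕ} {π : P ⟶ S}

theorem subsingleton_HH [AlgebraicGeometry.IsLocallyNoetherian S] (C : Chart r π) {N : P.Modules} {j : ℤ}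
    (e : (Scheme.Modules.pullback C.c).obj N ≅ Twist.twistProjSpace r C.A j) {G : S.Modules}
    (hG : Coh.IsCoh G) (q : ℕ)
    (hq : (1 ≤ q ∧ -(r : ℤ) ≤ j) ∨ (-(r : ℤ) ≤ j ∧ j ≤ -1)) :
    Subsingleton (Coh.HH (π ⁻¹ᵁ C.h.opensRange).toScheme
      ((((DCoh.tensorBi (X := P)).obj N).obj ((Scheme.Modules.pullback π).obj G)).restrict
        (π ⁻¹ᵁ C.h.opensRange).ι) q) := by
  set M := ((DCoh.tensorBi (X := P)).obj N).obj ((Scheme.Modules.pullback π).obj G) with hM
  have hL : AlgebraicGeometry.IsLocallyNoetherian (Spec (CommRingCat.of C.A)) :=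
    LocallyOfFiniteType.isLocallyNoetherian C.h
  have hA : IsNoetherianRing C.A := by
    have h := (isLocallyNoetherian_Spec (R := CommRingCat.of C.A)).1 hL
    exact h
  have hG' : Coh.IsCoh ((Scheme.Modules.pullback C.h).obj G) :=
    FormalA.PullbackQC.isCoh_pullback C.h G hG
  have h1 : Subsingleton (Coh.HH (CohB1.ProjSpace r C.A) (M.restrict C.c) q) := by
    refine Fga.HShift.subsingleton_of_iso (C.restrictIso e G).symm q ?_
    exact hh_pullback_coh' hG' j q hq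
  have e1 := CohqA.HOpen.HHEquiv C.c M (π ⁻¹ᵁ C.h.opensRange) C.image_top q
  have e2 := CohqA.HOpen.HHonEquiv M (π ⁻¹ᵁ C.h.opensRange) q
  have h2 := e1.toEquiv.subsingleton
  exact e2.symm.toEquiv.subsingleton

theorem isCoh_tensor [AlgebraicGeometry.IsLocallyNoetherian P] {N F : P.Modules} (hN : Coh.IsCoh N)
    (hF : Coh.IsCoh F) : Coh.IsCoh (((DCoh.tensorBi (X := P)).obj N).obj F) := by
  have := hN.1
  have := hF.1
  exact ⟨(Groth.Agent.S2297.result N F).1, (Groth.Agent.S2297.result N F).2 hN.2 hF.2⟩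

/-- `R^q π_* (N ⊗ π^* G) = 0` for `N` locally `O(j)`, `G` coherent and (`q ≥ 1`, `j ≥ -r`) or (`-r ≤ j ≤ -1`). -/
theorem isZero_Rpush [AlgebraicGeometry.IsLocallyNoetherian S] [QuasiCompact π] [QuasiSeparated π]
    {N : P.Modules} {j : ℤ} (hN : IsTwist r π N j)
    (hNf : FlatMod.IsFinLocFree N) {G : S.Modules} (hG : Coh.IsCoh G) (q : ℕ)
    (hq : (1 ≤ q ∧ -(r : ℤ) ≤ j) ∨ (-(r : ℤ) ≤ j ∧ j ≤ -1)) :
    IsZero ((Coh.Rpush π q).obj
      (((DCoh.tensorBi (X := P)).obj N).obj ((Scheme.Modules.pullback π).obj G))) := by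
  have hM : Coh.IsQCoh (((DCoh.tensorBi (X := P)).obj N).obj ((Scheme.Modules.pullback π).obj G)) := by
    have := PerfA.QCohEpi.isQCoh_of_isFinLocFree hNf
    have := FormalA.PullbackQC.isQCoh_pullback π _ hG.1
    exact (Groth.Agent.S2297.result N ((Scheme.Modules.pullback π).obj G)).1
  refine CohqB.RelVan.isZero_Rpush_of_cover π _ hM q fun x => ?_
  obtain ⟨C, hx, ⟨e⟩⟩ := hN x
  exact ⟨C.h.opensRange, hx, isAffineOpen_opensRange C.h, subsingleton_HH C e hG q hq⟩

/-- `R^q π_* F = 0` for `q > r`. -/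
theorem isZero_Rpush_gt [QuasiCompact π] [QuasiSeparated π] {O1 : P.Modules} (hN : IsTwist r π O1 1)
    {F : P.Modules} (hF : Coh.IsQCoh F) (q : ℕ) (hq : r < q) :
    IsZero ((Coh.Rpush π q).obj F) := by
  refine CohqB.RelVan.isZero_Rpush_of_cover π _ hF q fun x => ?_
  obtain ⟨C, hx, -⟩ := hN x
  refine ⟨C.h.opensRange, hx, isAffineOpen_opensRange C.h, ?_⟩
  have h1 : Subsingleton (Coh.HH (CohB1.ProjSpace r C.A) (F.restrict C.c) q) := by
    have hq' : Coh.IsQCoh (F.restrict C.c) := @Groth.Agent.Ega1.QCohLoc.isQCoh_restrict _ _ F hF C.c _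
    exact (hh_tA_zero q).1 ((hh_iff _ 0 q).1 (subsingleton_of_gt hq' 0 q hq))
  have e1 := CohqA.HOpen.HHEquiv C.c F (π ⁻¹ᵁ C.h.opensRange) C.image_top q
  have e2 := CohqA.HOpen.HHonEquiv F (π ⁻¹ᵁ C.h.opensRange) q
  have h2 := e1.toEquiv.subsingleton
  exact e2.symm.toEquiv.subsingleton

end K878.PBVan
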