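import Groth.Agent.IntSh.K878.AcyBC
import Groth.Agent.IntSh.K937.ProjDet
import Groth.Agent.VarietyB.TensStalk
import Groth.Agent.Models2.FlatIso
import Groth.Agent.Htor.H255.ThetaIso
import Groth.Agent.IntSh.K878.PBVan
import Groth.Agent.Krr.H496.PullK0
import Groth.Agent.Krr.H487.KerRank
import Groth.Agent.IntSh.K877.ProjEmb

/-!
# Generation of `K^•(X)` by the classes of `F`-acyclic bundles

* `mem_of_acyclic`: in a bounded acyclic complex of bundles `C` the class of `C⁰` is in the subgroup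
  generated by the classes of the `Cⁱ`, `i ≥ 1`.
* `good_of_van`: `E` is `Good` as soon as `Rᵖ π_*(F ⊗ E) = 0` for `p > 0`.
* `gen`: the classes of good bundles generate `K^•(X)`, given the acyclic resolutions.
-/

set_option autoImplicit false
universe u
open CategoryTheory CategoryTheory.Limits AlgebraicGeometry

namespace K878.AcyGen

/-- Tensoring with a finite locally free module preserves flatness over the base. -/
theorem isFlatOver_tensor {X Y : Scheme.{u}} (f : X ⟶ Y) {F E : X.Modules}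
    (hE : FlatMod.IsFinLocFree E) (hF : FlatMod.IsFlatOver f F) :
    FlatMod.IsFlatOver f (CohB1.tensorMod F E) := by
  refine Groth.Agent.Models2.FlatIso.isFlatOver_of_iso f (Groth.Agent.Ega2.Tens.swap E F) ?_
  intro x
  obtain ⟨n, U, hx, e, he⟩ := Groth.Agent.VarietyB.ExactLoc.hasBasis_of_isFinLocFree hE x
  let eq := Groth.Agent.VarietyB.TensStalk.stalkEquiv he F hx
  let a1 : Module (Y.presheaf.stalk (f x)) (F.presheaf.stalk x) := FlatMod.moduleStalkOver f F x
  let a2 : Module (Y.presheaf.stalk (f x)) ((CohB1.tensorMod E F).presheaf.stalk x) :=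
    FlatMod.moduleStalkOver f (CohB1.tensorMod E F) x
  have h1 : Module.Flat (Y.presheaf.stalk (f x)) (F.presheaf.stalk x) := hF x
  have h3 : Module.Flat (Y.presheaf.stalk (f x)) (Π₀ _ : Fin n, F.presheaf.stalk x) :=
    Module.Flat.dfinsupp_iff.mpr fun _ => h1
  have h2 : Module.Flat (Y.presheaf.stalk (f x)) (Fin n → F.presheaf.stalk x) :=
    Module.Flat.of_linearEquiv (DFinsupp.linearEquivFunOnFintype
      (R := Y.presheaf.stalk (f x)) (M := fun _ : Fin n => F.presheaf.stalk x)).symm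
  let e' : (CohB1.tensorMod E F).presheaf.stalk x ≃ₗ[Y.presheaf.stalk (f x)]
      (Fin n → F.presheaf.stalk x) :=
    { eq with
      map_smul' := fun r m => eq.map_smul ((f.stalkMap x).hom r) m }
  exact Module.Flat.of_linearEquiv e'

section Acyclic

variable {X : Scheme.{u}} (C : CochainComplex X.Modules ℕ)

/-- The cycles. -/
noncomputable def Z (i : ℕ) : X.Modules := kernel (C.d i (i + 1))

/-- The inclusion of the cycles. -/
noncomputable def ιZ (i : ℕ) : Z C i ⟶ C.X i := kernel.ι (C.d i (i + 1))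

instance mono_ιZ (i : ℕ) : Mono (ιZ C i) := inferInstanceAs (Mono (kernel.ι (C.d i (i + 1))))

/-- The differential onto the cycles. -/
noncomputable def toZ (i : ℕ) : C.X i ⟶ Z C (i + 1) :=
  kernel.lift (C.d (i + 1) (i + 2)) (C.d i (i + 1)) (C.d_comp_d _ _ _)

theorem toZ_ιZ (i : ℕ) : toZ C i ≫ ιZ C (i + 1) = C.d i (i + 1) := kernel.lift_ι _ _ _

theorem ιZ_toZ (i : ℕ) : ιZ C i ≫ toZ C i = 0 := by
  rw [← cancel_mono (ιZ C (i + 1)), Category.assoc, toZ_ιZ, zero_comp]
  exact kernel.condition _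

noncomputable def seqZ (i : ℕ) : ShortComplex X.Modules :=
  ShortComplex.mk (ιZ C i) (toZ C i) (ιZ_toZ C i)

variable {C}

theorem seqZ_shortExact (hC : C.Acyclic) (i : ℕ) : (seqZ C i).ShortExact := by
  have hep : Epi (toZ C i) := by
    have h := (C.exactAt_iff' i (i + 1) (i + 2) (by simp) (by simp)).1 (hC (i + 1))
    exact h.epi_kernelLift
  have h1 : (seqZ C i).Exact := by
    apply ShortComplex.exact_of_f_is_kernel
    exact isKernelOfComp (f := toZ C i) (ιZ C (i + 1)) (C.d i (i + 1))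
      (kernelIsKernel _) (ιZ_toZ C i) (toZ_ιZ C i)
  have h2 : Mono (seqZ C i).f := inferInstanceAs (Mono (ιZ C i))
  exact { exact := h1, mono_f := h2, epi_g := hep }

theorem isZero_Z_zero (hC : C.Acyclic) : IsZero (Z C 0) := by
  have h := (C.exactAt_iff' 0 0 1 (by simp) (by simp)).1 (hC 0)
  have hm : Mono (C.d 0 1) := (ShortComplex.exact_iff_mono _ (C.shape 0 0 (by simp))).1 h
  exact (isZero_kernel_of_mono (C.d 0 1))

theorem mem_of_acyclic (hC : C.Acyclic) (n : ℕ) (hn : ∀ i, n < i → IsZero (C.X i))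
    (hflf : ∀ i, FlatMod.IsFinLocFree (C.X i))
    (H : AddSubgroup (SGA6.Kvb X)) (hH : ∀ i, 1 ≤ i → KRR.cl X (C.X i) ∈ H) :
    KRR.cl X (C.X 0) ∈ H := by
  have hzero : ∀ M : X.Modules, IsZero M → FlatMod.IsFinLocFree M ∧ KRR.cl X M = 0 := by
    intro M hM
    have hf : FlatMod.IsFinLocFree M := by
      have := Groth.Agent.Dcoh.Spread.isFinLocFree_kernel (𝟙 (C.X 0)) (hflf 0) (hflf 0)
      exact Groth.Agent.Dcoh.FinLocFree.isFinLocFree_of_iso
        ((isZero_kernel_of_mono (𝟙 (C.X 0))).iso hM) this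
    refine ⟨hf, ?_⟩
    have hS : (ShortComplex.mk (𝟙 M) (𝟙 M) (hM.eq_of_src _ _)).ShortExact := by
      have hsplit : (ShortComplex.mk (𝟙 M) (𝟙 M) (hM.eq_of_src _ _)).Splitting :=
        { r := 𝟙 M
          s := 𝟙 M
          f_r := hM.eq_of_src _ _
          s_g := hM.eq_of_src _ _
          id := hM.eq_of_src _ _ }
      exact hsplit.shortExact
    have := Groth.Agent.Krr.H496.PullK0.cl_ses hS hf hf hf
    have h2 : KRR.cl X M = KRR.cl X M + KRR.cl X M := this
    exact (left_eq_add.1 h2)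
  have key : ∀ k i : ℕ, 1 ≤ i → n + 1 ≤ i + k →
      FlatMod.IsFinLocFree (Z C i) ∧ KRR.cl X (Z C i) ∈ H := by
    intro k
    induction k with
    | zero =>
      intro i hi hk
      obtain ⟨h1, h2⟩ := hzero (Z C i) (IsZero.of_mono (ιZ C i) (hn i (by omega)))
      exact ⟨h1, by rw [h2]; exact H.zero_mem⟩
    | succ k ih =>
      intro i hi hk
      obtain ⟨h1, h2⟩ := ih (i + 1) (by omega) (by omega)
      have hS := seqZ_shortExact hC i
      have hf : FlatMod.IsFinLocFree (Z C i) :=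
        Groth.Agent.Krr.H487.KerRank.isFinLocFree_left hS (hflf i) h1
      refine ⟨hf, ?_⟩
      have h3 : KRR.cl X (C.X i) = KRR.cl X (Z C i) + KRR.cl X (Z C (i + 1)) :=
        Groth.Agent.Krr.H496.PullK0.cl_ses hS hf (hflf i) h1
      have h4 : KRR.cl X (Z C i) = KRR.cl X (C.X i) - KRR.cl X (Z C (i + 1)) := by
        rw [h3]; abel
      rw [h4]
      exact H.sub_mem (hH i hi) h2
  obtain ⟨h1, h2⟩ := key (n + 1) 1 le_rfl (by omega)
  obtain ⟨h3, h4⟩ := hzero (Z C 0) (isZero_Z_zero hC)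
  have h5 : KRR.cl X (C.X 0) = KRR.cl X (Z C 0) + KRR.cl X (Z C 1) :=
    Groth.Agent.Krr.H496.PullK0.cl_ses (seqZ_shortExact hC 0) h3 (hflf 0) h1
  rw [h5, h4, zero_add]
  exact h2

end Acyclic

section Good

open K937.ProjDet

variable {X Y : Scheme.{u}} [AlgebraicGeometry.IsNoetherian X] [AlgebraicGeometry.IsNoetherian Y]
  {π : X ⟶ Y} (hπ : RelProj.IsProjective π) [HasInjectiveResolutions X.Modules]
  {F : X.Modules} (hF : Coh.IsCoh F) (hFf : FlatMod.IsFlatOver π F)

include hπ hF hFf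

theorem good_of_van {E : X.Modules} (hE : FlatMod.IsFinLocFree E)
    (hvan : ∀ p : ℕ, 0 < p → IsZero ((Coh.Rpush π p).obj (((DCoh.tensorBi (X := X)).obj F).obj E))) :
    Good π F E := by
  have : IsProper π := Groth.Agent.IntSh.K877.ProjEmb.isProper_of_isProjective π hπ
  have hEc : Coh.IsCoh E := Groth.Agent.PerfA.CohSerre.isCoh_of_isFinLocFree hE
  have hFE : Coh.IsCoh (CohB1.tensorMod F E) := K878.PBVan.isCoh_tensor hF hEc
  have hfp : CohB1.IsFP (CohB1.tensorMod F E) := Groth.Agent.Htor.H255.ThetaIso.isFP_of_isCoh hFE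
  have hfl := isFlatOver_tensor π hE hFf
  refine ⟨hE, hvan, ?_⟩
  have : LocallyOfFinitePresentation π := inferInstance
  exact Groth.Agent.S1027.result π (CohB1.tensorMod F E) hfp hfl
    (Groth.Agent.PerfB.StructFlat.isProperOver_support π hfp) hvan

omit hπ hF hFf in
/-- The property given by S15977: every bundle has a bounded co-resolution by `F`-acyclic bundles. -/
def HasRes (π : X ⟶ Y) (F : X.Modules) : Prop :=
  ∀ E : X.Modules, FlatMod.IsFinLocFree E →
    ∃ (n : ℕ) (C : CochainComplex X.Modules ℕ) (_ : C.X 0 ≅ E),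
      C.Acyclic ∧ (∀ i, n < i → IsZero (C.X i)) ∧ (∀ i, FlatMod.IsFinLocFree (C.X i)) ∧
      ∀ i, 1 ≤ i → ∀ p, 0 < p →
        IsZero ((Coh.Rpush π p).obj (((DCoh.tensorBi (X := X)).obj F).obj (C.X i)))

/-- The classes of good bundles generate `K^•(X)`. -/
theorem gen (hres : HasRes π F) {KX : Type u} [CommRing KX] [LambdaRing.LambdaOps KX]
    {PX : LambdaRing.PosStructure KX} {φX : SGA6.Kvb X →+ KX} (hKX : KRR.IsModel X KX PX φX)
    (x : KX) : x ∈ AddSubgroup.closure {x | ∃ E, Good π F E ∧ x = φX (KRR.cl X E)} := by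
  refine Groth.Agent.Krr.H446.ProjFormula.model_induction hKX
    (C := fun x => x ∈ AddSubgroup.closure {x | ∃ E, Good π F E ∧ x = φX (KRR.cl X E)})
    (AddSubgroup.zero_mem _) ?_ (fun _ hx => AddSubgroup.neg_mem _ hx)
    (fun _ _ hx hy => AddSubgroup.add_mem _ hx hy) x
  intro E hE
  obtain ⟨n, C, e, hC, hn, hflf, hvan⟩ := hres E hE
  have h1 := mem_of_acyclic hC n hn hflf
    ((AddSubgroup.closure {x | ∃ E, Good π F E ∧ x = φX (KRR.cl X E)}).comap φX) (by
      intro i hi
      exact AddSubgroup.subset_closure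
        ⟨C.X i, good_of_van hπ hF hFf (hflf i) (hvan i hi), rfl⟩)
  have h2 : KRR.cl X (C.X 0) = KRR.cl X E :=
    Groth.Agent.Krr.H446.ProjFormula.cl_iso e (hflf 0)
  rw [h2] at h1
  exact h1

end Good

end K878.AcyGen
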