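import Groth.Agent.Books.Lambda2

/-!
# The `γ`-filtration lowers a filtration as soon as the `γ^i(e - ε(e))`, `e` positive, do

`Low μ Fil n`: the elements `a` with `a · Fil m ⊆ Fil (m - n)` for all `m`.
-/

set_option autoImplicit false
universe u v

open LambdaRing Finset Groth.Agent.Books.Lambda2

namespace K878.FilAlg

variable {K : Type u} [CommRing K] {M : Type v} [AddCommGroup M]

/-- The elements lowering the filtration by `n`. -/
def Low (μ : K →+ M →+ M) (Fil : ℤ → AddSubgroup M) (n : ℕ) : AddSubgroup K where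
  carrier := {a | ∀ (m : ℤ) (ξ : M), ξ ∈ Fil m → μ a ξ ∈ Fil (m - n)}
  zero_mem' := fun m ξ _ => by
    rw [map_zero]
    exact (Fil _).zero_mem
  add_mem' := fun {a b} ha hb m ξ hξ => by
    rw [map_add]
    exact (Fil _).add_mem (ha m ξ hξ) (hb m ξ hξ)
  neg_mem' := fun {a} ha m ξ hξ => by
    rw [map_neg]
    exact (Fil _).neg_mem (ha m ξ hξ)

variable {μ : K →+ M →+ M} {Fil : ℤ → AddSubgroup M}

theorem Low_mul (hmul : ∀ x y ξ, μ (x * y) ξ = μ x (μ y ξ)) {i j : ℕ} {a b : K} (ha : a ∈ Low μ Fil i)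
    (hb : b ∈ Low μ Fil j) : a * b ∈ Low μ Fil (i + j) := by
  intro m ξ hξ
  rw [hmul]
  have h := ha _ _ (hb m ξ hξ)
  have e : m - ((i + j : ℕ) : ℤ) = m - j - i := by push_cast; ring
  rw [e]
  exact h

theorem one_mem_Low (hone : ∀ ξ, μ 1 ξ = ξ) : (1 : K) ∈ Low μ Fil 0 := by
  intro m ξ hξ
  rw [hone]
  simpa using hξ

theorem Low_anti (hmono : ∀ i j, i ≤ j → Fil i ≤ Fil j) {i j : ℕ} (h : i ≤ j) :
    Low μ Fil j ≤ Low μ Fil i := by
  intro a ha m ξ hξ
  exact hmono _ _ (by omega) (ha m ξ hξ)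

/-- A power series whose `n`-th coefficient lowers the filtration by `n`. -/
def Good (μ : K →+ M →+ M) (Fil : ℤ → AddSubgroup M) (f : PowerSeries K) : Prop :=
  ∀ n, PowerSeries.coeff n f ∈ Low μ Fil n

theorem Good.mul (hmul : ∀ x y ξ, μ (x * y) ξ = μ x (μ y ξ)) {f g : PowerSeries K} (hf : Good μ Fil f)
    (hg : Good μ Fil g) : Good μ Fil (f * g) := by
  intro n
  rw [PowerSeries.coeff_mul]
  refine sum_mem fun p hp => ?_
  rw [mem_antidiagonal] at hp
  rw [← hp]
  exact Low_mul hmul (hf _) (hg _)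

theorem Good.inv (hone : ∀ ξ, μ 1 ξ = ξ) (hmul : ∀ x y ξ, μ (x * y) ξ = μ x (μ y ξ))
    {f g : PowerSeries K} (hf : Good μ Fil f) (h0 : PowerSeries.constantCoeff f = 1) (hfg : f * g = 1) :
    Good μ Fil g := by
  intro n
  induction n using Nat.strong_induction_on with
  | _ n ih =>
    have h1 := congrArg (PowerSeries.coeff n) hfg
    rw [PowerSeries.coeff_mul, Finset.Nat.sum_antidiagonal_eq_sum_range_succ_mk,
      Finset.sum_range_succ'] at h1
    simp only [Nat.sub_zero, PowerSeries.coeff_zero_eq_constantCoeff, h0, one_mul] at h1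
    have h2 : PowerSeries.coeff n (1 : PowerSeries K) ∈ Low μ Fil n := by
      rw [PowerSeries.coeff_one]
      split_ifs with h
      · subst h
        exact one_mem_Low hone
      · exact (Low μ Fil n).zero_mem
    have h3 : ∑ k ∈ range n, PowerSeries.coeff (k + 1) f * PowerSeries.coeff (n - (k + 1)) g ∈
        Low μ Fil n := by
      refine sum_mem fun k hk => ?_
      rw [Finset.mem_range] at hk
      have h4 := Low_mul hmul (hf (k + 1)) (ih (n - (k + 1)) (by omega))
      rwa [Nat.add_sub_cancel' (by omega : k + 1 ≤ n)] at h4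
    have h5 : PowerSeries.coeff n g = PowerSeries.coeff n (1 : PowerSeries K) -
        ∑ k ∈ range n, PowerSeries.coeff (k + 1) f * PowerSeries.coeff (n - (k + 1)) g := by
      rw [← h1]
      ring
    rw [h5]
    exact (Low μ Fil n).sub_mem h2 h3

variable [LambdaOps K]

/-- The `γ`-filtration lowers the filtration. -/
theorem gammaFiltration_le (P : PosStructure K) (hone : ∀ ξ, μ 1 ξ = ξ)
    (hmul : ∀ x y ξ, μ (x * y) ξ = μ x (μ y ξ)) (hmono : ∀ i j, i ≤ j → Fil i ≤ Fil j)
    (h : ∀ e ∈ P.pos, ∀ n, gamma n (e - ((P.aug e).toNat : K)) ∈ Low μ Fil n) (n : ℕ) :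
    gammaFiltration P n ≤ Low μ Fil n := by
  have hnat : ∀ m : ℕ, (m : K) ∈ Low μ Fil 0 := by
    intro m
    have := (Low μ Fil 0).nsmul_mem (one_mem_Low hone) m
    rwa [nsmul_one] at this
  have h0' : ∀ e ∈ P.pos, e ∈ Low μ Fil 0 := by
    intro e he
    have h1 := Low_anti hmono (Nat.zero_le 1) (h e he 1)
    rw [gamma_one] at h1
    have h2 := (Low μ Fil 0).add_mem h1 (hnat (P.aug e).toNat)
    rwa [sub_add_cancel] at h2
  have h0 : ∀ a : K, a ∈ Low μ Fil 0 := by
    intro a
    obtain ⟨e, f, he, hf, rfl⟩ := P.exists_sub a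
    exact (Low μ Fil 0).sub_mem (h0' e he) (h0' f hf)
  have hgood : ∀ e ∈ P.pos, Good μ Fil (gammaSeries (e - ((P.aug e).toNat : K))) := by
    intro e he n
    rw [coeff_gammaSeries]
    exact h e he n
  have hx : ∀ x : K, P.aug x = 0 → ∀ n, gamma n x ∈ Low μ Fil n := by
    intro x hx n
    obtain ⟨e, f, he, hf, rfl⟩ := P.exists_sub x
    have h1 : P.aug e = P.aug f := by
      rw [map_sub, sub_eq_zero] at hx
      exact hx
    have h2 : e - f = (e - ((P.aug e).toNat : K)) + -(f - ((P.aug f).toNat : K)) := by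
      rw [h1]
      ring
    rw [h2, ← coeff_gammaSeries, gammaSeries_add]
    refine Good.mul hmul (hgood e he) ?_ n
    exact Good.inv hone hmul (hgood f hf) (constantCoeff_gammaSeries _) (gammaSeries_mul_neg _)
  unfold gammaFiltration
  split_ifs with hn
  · subst hn
    intro a _
    exact h0 a
  · rw [AddSubgroup.closure_le]
    rintro y ⟨l, hl, hsum, rfl⟩
    refine Low_anti hmono hsum ?_
    clear hsum
    induction l with
    | nil => exact one_mem_Low hone
    | cons p l ih =>
      simp only [List.map_cons, List.sum_cons, List.prod_cons]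
      exact Low_mul hmul (hx _ (hl p (List.mem_cons_self ..)) _)
        (ih fun q hq => hl q (List.mem_cons_of_mem _ hq))

/-- `γ^n(e - ε(e)) = 0` for `n > ε(e)`. -/
theorem gamma_eq_zero (P : PosStructure K) {e : K} (he : e ∈ P.pos) {n : ℕ} (hn : (P.aug e).toNat < n) :
    gamma n (e - ((P.aug e).toNat : K)) = 0 := by
  rw [← coeff_gammaSeries, gammaSeries_pos_sub P e he, map_sum]
  refine Finset.sum_eq_zero fun i hi => ?_
  rw [Finset.mem_range] at hi
  rw [PowerSeries.coeff_C_mul]
  have h1 : (PowerSeries.X ^ i * (1 - PowerSeries.X) ^ ((P.aug e).toNat - i) : PowerSeries K) =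
      ((Polynomial.X ^ i * (1 - Polynomial.X) ^ ((P.aug e).toNat - i) : Polynomial K) : PowerSeries K) := by
    simp
  rw [h1, Polynomial.coeff_coe, Polynomial.coeff_eq_zero_of_natDegree_lt, mul_zero]
  refine lt_of_le_of_lt (Polynomial.natDegree_mul_le.trans (add_le_add
    (Polynomial.natDegree_X_pow_le _) (Polynomial.natDegree_pow_le))) ?_
  have h2 : (1 - Polynomial.X : Polynomial K).natDegree ≤ 1 := by
    refine (Polynomial.natDegree_sub_le _ _).trans ?_
    simp [Polynomial.natDegree_X_le]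
  have h3 : ((P.aug e).toNat - i) * (1 - Polynomial.X : Polynomial K).natDegree ≤
      ((P.aug e).toNat - i) * 1 := Nat.mul_le_mul_left _ h2
  omega

end K878.FilAlg
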