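import Groth.Agent.IntSh.K878.KSup
import Groth.Agent.IntSh.K878.Cap
import Groth.Agent.IntSh.K878.CapEx
import Groth.Agent.Ega3B.TensRestrict
import Groth.Agent.Dcoh.ResFree

/-!
# Classes with support and restriction to an open; the action of bundles
-/

set_option autoImplicit false
universe u
open CategoryTheory CategoryTheory.Limits AlgebraicGeometry Opposite TopologicalSpace
open AlgebraicGeometry.Scheme.Modules
open Groth.Agent Groth.Agent.Sga67 Groth.Agent.Sga67.CohBasic Groth.Agent.Sga67.K0Basic

namespace K878.SupRes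

open K878.KSup K878.Cap K878.CapEx

variable {X : Scheme.{u}}

theorem capHom_mem [AlgebraicGeometry.IsLocallyNoetherian X] {E : X.Modules}
    (hE : FlatMod.IsFinLocFree E) {T : Set X} {c : SGA6.Kcoh X} (hc : c ∈ ksup X T) :
    capHom X (KRR.cl X E) c ∈ ksup X T := by
  refine map_mem_of (capHom X (KRR.cl X E)) _ (fun G hG hGT => ?_) hc
  rw [capHom_cl hE hG]
  exact clc_mem fun _ => (support_tensor_right E G).trans hGT

section

variable {V : Scheme.{u}} (j : V ⟶ X) [IsOpenImmersion j]

theorem isFinLocFree_restrict {E : X.Modules} (hE : FlatMod.IsFinLocFree E) :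
    FlatMod.IsFinLocFree ((restrictFunctor j).obj E) :=
  Dcoh.ResFree.isFinLocFree_restrict hE j

theorem res_capHom [AlgebraicGeometry.IsLocallyNoetherian X] [AlgebraicGeometry.IsLocallyNoetherian V]
    {E : X.Modules} (hE : FlatMod.IsFinLocFree E) (c : SGA6.Kcoh X) :
    res j (capHom X (KRR.cl X E) c) = capHom V (KRR.cl V ((restrictFunctor j).obj E)) (res j c) := by
  have h : (res j).comp (capHom X (KRR.cl X E)) =
      (capHom V (KRR.cl V ((restrictFunctor j).obj E))).comp (res j) := by
    refine hom_ext_sub fun G hG => ?_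
    change res j (capHom X (KRR.cl X E) (KDet.clc X G)) =
      capHom V (KRR.cl V ((restrictFunctor j).obj E)) (res j (KDet.clc X G))
    rw [capHom_cl hE hG, res_clc j hG, res_clc j (isCoh_tb (isCoh_flf hE) hG),
      capHom_cl (isFinLocFree_restrict j hE) (isCoh_restrict j G hG)]
    exact clc_congr (Ega3B.TensRestrict.restrictIso (j := j) (M := E) (N := G))
  exact DFunLike.congr_fun h c

theorem mem_of_res [AlgebraicGeometry.IsNoetherian X] {T : Set X} (hT : (Set.range j)ᶜ ⊆ T)
    {c : SGA6.Kcoh X} (hc : res j c ∈ ksup V (j ⁻¹' T)) : c ∈ ksup X T := by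
  have h1 : ksup V (j ⁻¹' T) ≤ (ksup X T).map (res j) := by
    refine ksup_le fun G hG hGT => ?_
    have : IsNoetherian V := isNoetherian_of_isOpenImmersion j
    obtain ⟨G', hG', ⟨e⟩⟩ := CohLoc.exists_extension j _ hG
    refine ⟨KDet.clc X G', ?_, ?_⟩
    · refine clc_mem fun _ => ?_
      intro x hx
      by_cases hxV : x ∈ Set.range j
      · obtain ⟨v, rfl⟩ := hxV
        have hv : v ∈ CohB1.support ((restrictFunctor j).obj G') := by
          have : CohB1.support ((restrictFunctor j).obj G') = j ⁻¹' CohB1.support G' :=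
            Groth.Agent.PerfC.Supp.support_restrict j G'
          rw [this]; exact hx
        exact hGT (Ega3B.Devissage.support_subset_of_mono e.hom hv)
      · exact hT hxV
    · rw [res_clc j hG', clc_congr e]
  obtain ⟨c', hc', he⟩ := h1 hc
  have h2 : c - c' ∈ (res j).ker := by
    rw [AddMonoidHom.mem_ker, map_sub, he, sub_self]
  rw [ker_res j] at h2
  have h3 := add_mem (ksup_mono hT h2) hc'
  rwa [sub_add_cancel] at h3

theorem res_mem {T : Set X} {c : SGA6.Kcoh X} (hc : c ∈ ksup X T) :
    res j c ∈ ksup V (j ⁻¹' T) := by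
  refine map_mem_of (res j) _ (fun G hG hGT => ?_) hc
  rw [res_clc j hG]
  refine clc_mem fun _ => ?_
  have : CohB1.support ((restrictFunctor j).obj G) = j ⁻¹' CohB1.support G :=
    Groth.Agent.PerfC.Supp.support_restrict j G
  rw [this]
  exact Set.preimage_mono hGT

end

end K878.SupRes
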