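import Groth.Agent.IntSh.K878.LocGen
import Groth.Agent.IntSh.K878.SupRes
import Groth.Agent.Ega2.AmpleGlobGen
import Groth.Agent.Krr.H482.PullTens
import Groth.Agent.Ega2.TensMon
import Groth.Agent.S2329
import Groth.Agent.Sga2.PicThick

/-!
# Twisting a quotient of an inverse image into a globally generated module
-/

set_option autoImplicit false
universe u
open CategoryTheory CategoryTheory.Limits AlgebraicGeometry Opposite TopologicalSpace
open AlgebraicGeometry.Scheme.Modules
open Groth.Agent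

namespace K878.RelGen

variable {X P : Scheme.{u}}

/-- Restriction of an inverse image. -/
noncomputable def pullRestrict (π : P ⟶ X) (N : X.Modules) (W : X.Opens) :
    (Scheme.Modules.pullback (π ∣_ W)).obj (N.restrict W.ι) ≅
      ((Scheme.Modules.pullback π).obj N).restrict (π ⁻¹ᵁ W).ι :=
  (Scheme.Modules.pullback (π ∣_ W)).mapIso ((Scheme.Modules.restrictFunctorIsoPullback W.ι).app N) ≪≫
    (Scheme.Modules.pullbackComp (π ∣_ W) W.ι).app N ≪≫
      (Scheme.Modules.pullbackCongr (morphismRestrict_ι π W)).app N ≪≫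
      ((Scheme.Modules.pullbackComp (π ⁻¹ᵁ W).ι π).app N).symm ≪≫
      ((Scheme.Modules.restrictFunctorIsoPullback (π ⁻¹ᵁ W).ι).app _).symm

theorem exists_twist [AlgebraicGeometry.IsNoetherian X] (π : P ⟶ X) (W : X.Opens)
    {H : W.toScheme.Modules} (hH : CohB1.IsAmple H) {E : X.Modules} (hE : Coh.IsCoh E) {O1 : P.Modules}
    (q : (Scheme.Modules.pullback π).obj E ⟶ O1) [Epi q] :
    ∃ A : (π ⁻¹ᵁ W).toScheme.Modules, PicF.IsInvertible A ∧ Curv2.IsGloballyGenerated A ∧
      Curv2.IsGloballyGenerated (CohB1.tensorMod (O1.restrict (π ⁻¹ᵁ W).ι) A) := by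
  have hWn : IsNoetherian W.toScheme :=
    Sga67.CohBasic.isNoetherian_of_isOpenImmersion W.ι
  have hEW : Coh.IsCoh (E.restrict W.ι) := KSup.isCoh_restrict W.ι E hE
  have hO : Coh.IsCoh (Coh.structureModule W.toScheme) :=
    CapEx.isCoh_flf Sga67.TensorOps.isFinLocFree_structureModule
  obtain ⟨n₀, h₀⟩ := Ega2.AmpleGlobGen.exists_globGen hH hEW
  obtain ⟨n₁, h₁⟩ := Ega2.AmpleGlobGen.exists_globGen hH hO
  let n := max n₀ n₁
  have hinv : PicF.IsInvertible (CohB1.tensorPow H n) := Fdesc.LocGen.isInvertible_tensorPow hH.1 n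
  have g1 : Curv2.IsGloballyGenerated (CohB1.tensorPow H n) :=
    S2329.isGloballyGenerated_of_iso (Ega2.Tens.lunit (CohB1.tensorPow H n)) (h₁ n (le_max_right _ _))
  have g2 : Curv2.IsGloballyGenerated (CohB1.tensorMod (CohB1.tensorPow H n) (E.restrict W.ι)) :=
    S2329.isGloballyGenerated_of_iso (Ega2.Tens.swap _ _) (h₀ n (le_max_left _ _))
  let A := (Scheme.Modules.pullback (π ∣_ W)).obj (CohB1.tensorPow H n)
  refine ⟨A, ?_, VarietyB.GGStalk.isGloballyGenerated_pullback (π ∣_ W) _ g1, ?_⟩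
  · exact Sga2.PicThick.isInvertible_pullback (π ∣_ W) hinv
  · have g3 := VarietyB.GGStalk.isGloballyGenerated_pullback (π ∣_ W) _ g2
    have g4 : Curv2.IsGloballyGenerated
        (CohB1.tensorMod A ((Scheme.Modules.pullback (π ∣_ W)).obj (E.restrict W.ι))) :=
      S2329.isGloballyGenerated_of_iso
        (Groth.Agent.Krr.H482.PullTens.pullTensorIso (π ∣_ W) (CohB1.tensorPow H n) (E.restrict W.ι)) g3
    have hq : Epi ((Scheme.Modules.restrictFunctor (π ⁻¹ᵁ W).ι).map q) := inferInstance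
    let g : (Scheme.Modules.pullback (π ∣_ W)).obj (E.restrict W.ι) ⟶ O1.restrict (π ⁻¹ᵁ W).ι :=
      (pullRestrict π E W).hom ≫ (Scheme.Modules.restrictFunctor (π ⁻¹ᵁ W).ι).map q
    have hg : Epi g := epi_comp _ _
    have hgA : Epi (Sga67.ExtSheaf.tmap A g) := Sga67.TensorOps.epi_tmap A g
    have g5 := LocGen.globGen_of_epi g4 (Sga67.ExtSheaf.tmap A g)
    exact S2329.isGloballyGenerated_of_iso (Ega2.Tens.swap _ _) g5

end K878.RelGen
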