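import Groth.Agent.IntSh.K878.DeltaLoc
import Groth.Agent.IntSh.K878.RelGen
import Groth.Agent.IntSh.K878.FilAlg
import Groth.Agent.Krr.H487.KerRank
import Groth.Agent.Krr.H482.PullFinal
import Groth.Agent.Dual.H366.ExtQCoh

/-!
# Elements of augmentation zero of `K^•(Y)` act trivially locally on `Y`
-/

set_option autoImplicit false
universe v w u

open CategoryTheory CategoryTheory.Limits AlgebraicGeometry Opposite TopologicalSpace

namespace K878.AugGam

open Groth.Agent Groth.Agent.Krr.H482 Groth.Agent.Krr.H482.PullLambda K878.KSup K878.CapEx K878.DeltaLoc LambdaRing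
  Groth.Agent.Books.Lambda2

section aug

variable {Y : Scheme.{u}} {KY : Type v} [CommRing KY] [LambdaOps KY] {PY : PosStructure KY}
  {φY : SGA6.Kvb Y →+ KY}

theorem aug_lam (hKY : KRR.IsModel Y KY PY φY) {n : ℕ} {G : Y.Modules}
    (hG : FlatMod.IsFinLocFreeOfRank n G) (i : ℕ) :
    PY.aug (LambdaOps.lam i (φY (KRR.cl Y G))) = (n.choose i : ℤ) := by
  have hGf := isFinLocFree_of_rank hG
  obtain ⟨L, hL⟩ := Dual.H366.ExtQCoh.exists_isExtPow i (Ega2.QCohLocal.isQCoh_of_isFinLocFree hGf)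
  have hLr : FlatMod.IsFinLocFreeOfRank (n.choose i) L := Krr.H487.KerRank.isFinLocFreeOfRank_extPow hG hL
  rw [hKY.map_lam i G L hGf (isFinLocFree_of_rank hLr) hL, hKY.aug_cl _ L hLr]

theorem aug_gamma (hKY : KRR.IsModel Y KY PY φY) {n : ℕ} {G : Y.Modules}
    (hG : FlatMod.IsFinLocFreeOfRank n G) (hn : 1 ≤ n) {j : ℕ} (hj : 1 ≤ j) :
    PY.aug (gamma j (φY (KRR.cl Y G) - (n : KY))) = 0 := by
  have hpos : φY (KRR.cl Y G) ∈ PY.pos := (hKY.mem_pos_iff _).mpr ⟨n, G, hn, hG, rfl⟩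
  have haug : (PY.aug (φY (KRR.cl Y G))).toNat = n := by
    rw [hKY.aug_cl n G hG]
    rfl
  have h1 := gammaSeries_pos_sub PY (φY (KRR.cl Y G)) hpos
  rw [haug] at h1
  have h2 := congrArg (PowerSeries.map PY.aug) h1
  rw [map_sum] at h2
  have h3 : ∀ i ∈ Finset.range (n + 1), PowerSeries.map PY.aug
      (PowerSeries.C (LambdaOps.lam i (φY (KRR.cl Y G))) * (PowerSeries.X ^ i *
        (1 - PowerSeries.X) ^ (n - i))) =
      (PowerSeries.X ^ i * (1 - PowerSeries.X) ^ (n - i)) * ((n.choose i : ℕ) : PowerSeries ℤ) := by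
    intro i _
    rw [map_mul, map_mul, map_pow, map_pow, map_sub, map_one, PowerSeries.map_X, PowerSeries.map_C,
      aug_lam hKY hG]
    rw [mul_comm]
    congr 1
  rw [Finset.sum_congr rfl h3, ← add_pow, add_sub_cancel, one_pow] at h2
  have h4 := congrArg (PowerSeries.coeff j) h2
  rw [PowerSeries.coeff_map, coeff_gammaSeries, PowerSeries.coeff_one, if_neg (by omega)] at h4
  exact h4

end aug

section away

variable {X Y : Scheme.{u}} [AlgebraicGeometry.IsNoetherian X]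
  {KY : Type v} [CommRing KY] [LambdaOps KY] {PY : PosStructure KY} {φY : SGA6.Kvb Y →+ KY}
  {KX : Type w} [CommRing KX] [LambdaOps KX] {PX : PosStructure KX} {φX : SGA6.Kvb X →+ KX}
  {μ : KX →+ SGA6.Kcoh X →+ SGA6.Kcoh X} {pX : KY →+ KX}

theorem aug_zero_mem (hKY : KRR.IsModel Y KY PY φY) (hμ : KDet.IsCap φX μ) (π : X ⟶ Y)
    (hp : KRR.IsPull π φY φX pX) (y : Y) {b : KY} (hb : PY.aug b = 0) (ξ : SGA6.Kcoh X) :
    μ (pX b) ξ ∈ ksup X (away π y) := by
  obtain ⟨m, n, A, B, hm, hn, hA, hB, rfl⟩ := exists_eq_sub hKY b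
  have hmn : m = n := by
    rw [map_sub, hKY.aug_cl m A hA, hKY.aug_cl n B hB] at hb
    omega
  subst hmn
  obtain ⟨U, hyU, eU⟩ := hA y
  obtain ⟨U', hyU', eU'⟩ := hB y
  let V : Y.Opens := U ⊓ U'
  have hyV : y ∈ V := ⟨hyU, hyU'⟩
  obtain ⟨a⟩ := Dcoh.ResFree.free_restrict (Y.homOfLE (inf_le_left : V ≤ U)) U.ι V.ι
    (Scheme.homOfLE_ι _ _) eU
  obtain ⟨b⟩ := Dcoh.ResFree.free_restrict (Y.homOfLE (inf_le_right : V ≤ U')) U'.ι V.ι
    (Scheme.homOfLE_ι _ _) eU'
  let Z : X.Opens := π ⁻¹ᵁ V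
  have hZn : AlgebraicGeometry.IsNoetherian Z.toScheme :=
    Sga67.CohBasic.isNoetherian_of_isOpenImmersion Z.ι
  have hAf := isFinLocFree_pullback π (isFinLocFree_of_rank hA)
  have hBf := isFinLocFree_pullback π (isFinLocFree_of_rank hB)
  have e : (Scheme.Modules.restrictFunctor Z.ι).obj ((Scheme.Modules.pullback π).obj A) ≅
      (Scheme.Modules.restrictFunctor Z.ι).obj ((Scheme.Modules.pullback π).obj B) :=
    (RelGen.pullRestrict π A V).symm ≪≫ (Scheme.Modules.pullback (π ∣_ V)).mapIso (a ≪≫ b.symm) ≪≫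
      RelGen.pullRestrict π B V
  have h1 : res Z.ι (μ (pX (φY (KRR.cl Y A) - φY (KRR.cl Y B))) ξ) = 0 := by
    rw [map_sub, map_sub, AddMonoidHom.sub_apply, map_sub, hp A (isFinLocFree_of_rank hA),
      hp B (isFinLocFree_of_rank hB), cap_eq hμ, cap_eq hμ, SupRes.res_capHom Z.ι hAf,
      SupRes.res_capHom Z.ι hBf, sub_eq_zero]
    have h2 : KRR.cl Z.toScheme ((Scheme.Modules.restrictFunctor Z.ι).obj
        ((Scheme.Modules.pullback π).obj A)) = KRR.cl Z.toScheme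
        ((Scheme.Modules.restrictFunctor Z.ι).obj ((Scheme.Modules.pullback π).obj B)) :=
      PullLambda.cl_iso e (SupRes.isFinLocFree_restrict Z.ι hAf)
    rw [h2]
  have h3 : μ (pX (φY (KRR.cl Y A) - φY (KRR.cl Y B))) ξ ∈ (res Z.ι).ker := h1
  rw [ker_res Z.ι, Scheme.Opens.range_ι] at h3
  exact ksup_mono (compl_subset_away π hyV) h3

end away

end K878.AugGam
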