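import Groth.Agent.IntSh.K878.ChernPos

/-!
# Non-negativity of `c^d(E) · [F]`, `E` of rank `d + 1` a quotient of an inverse image
-/

set_option autoImplicit false
universe v u

open CategoryTheory CategoryTheory.Limits AlgebraicGeometry Opposite TopologicalSpace

namespace K878.ChernMain

open Groth.Agent Groth.Agent.Krr.H471.ChartVan Groth.Agent.Krr.H482.PullLambda
  Groth.Agent.Krr.H482.PullFinal K878.CapEx K878.KSup K878.PBPush K878.FilAlg K878.FilPB LambdaRing
  K878.FibFil K878.DropPt Groth.Agent.Books.Lambda2 K878.ChernPos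

variable {X Y : Scheme.{u}} [AlgebraicGeometry.IsNoetherian X] [AlgebraicGeometry.IsNoetherian Y]
  [ConnectedSpace X] [ConnectedSpace Y] (π : X ⟶ Y) [IsProper π] (y : Y)
  {KX : Type v} [CommRing KX] [LambdaOps KX] {PX : PosStructure KX} {φX : SGA6.Kvb X →+ KX}
  {μ : KX →+ SGA6.Kcoh X →+ SGA6.Kcoh X}

theorem away_subset_T {X Y : Scheme.{u}} (π : X ⟶ Y) (y : Y) (δ : X → ℕ) (m : ℤ) :
    DeltaLoc.away π y ⊆ T π y δ m := by
  intro x hx hxy
  exact absurd (by rw [hxy]) hx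

omit [ConnectedSpace X] [IsProper π] in
/-- Chern operators of inverse images are trivial near the fibre. -/
theorem pull_gamma_mem (hKX : KRR.IsModel X KX PX φX) (hμ : KDet.IsCap φX μ) {m : ℕ} (hm : 1 ≤ m)
    {G : Y.Modules} (hG : FlatMod.IsFinLocFreeOfRank m G) {j : ℕ} (hj : 1 ≤ j) (s : ℤ)
    (ξ : SGA6.Kcoh X) :
    μ (gamma j (φX (KRR.cl X ((Scheme.Modules.pullback π).obj G)) - (m : KX))) ξ ∈ Fil π y s := by
  obtain ⟨KY, _, _, PY, φY, hKY⟩ := S3796.result Y
  obtain ⟨g, hg⟩ := exists_isPull π hKY.bijective φX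
  have h1 : gamma j (φX (KRR.cl X ((Scheme.Modules.pullback π).obj G)) - (m : KX)) =
      g (gamma j (φY (KRR.cl Y G) - (m : KY))) := by
    rw [pull_gamma hKX hKY hg, map_sub, hg G (isFinLocFree_of_rank hG)]
    congr 2
    exact (map_natCast (pullRingHom hKX hKY hg) m).symm
  rw [h1]
  exact ksup_mono (away_subset_T π y _ s)
    (AugGam.aug_zero_mem hKY hμ π hg y (AugGam.aug_gamma hKY hG hm hj) ξ)

theorem chern_pos [HasInjectiveResolutions X.Modules]
    (hKX : KRR.IsModel X KX PX φX) (hμ : KDet.IsCap φX μ)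
    {F : X.Modules} (hF : Coh.IsCoh F) {d : ℕ} (hFT : CohB1.support F ⊆ T π y (FibDelta.dl π) d)
    {M : ℕ} {gc : SGA6.Kcoh X →+ SGA6.Kcoh Y} (hgc : KRR.IsPushCoh π M gc)
    {rk : SGA6.Kcoh Y →+ ℤ} (hrk : Kills rk y)
    (h0 : ∀ G : Y.Modules, Coh.IsCoh G → 0 ≤ rk (KDet.clc Y G))
    {n : ℕ} {G : Y.Modules} (hG : FlatMod.IsFinLocFreeOfRank n G) {E : X.Modules}
    (hE : FlatMod.IsFinLocFreeOfRank (d + 1) E) (t : (Scheme.Modules.pullback π).obj G ⟶ E) [Epi t] :
    0 ≤ rk (gc (μ (gamma d (φX (KRR.cl X E) - ((d + 1 : ℕ) : KX))) (KDet.clc X F))) := by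
  -- enlarge `G`
  let G₂ : Y.Modules := G ⊞ FlatMod.freeMod Y (d + 2)
  have hG₂ : FlatMod.IsFinLocFreeOfRank (n + (d + 2)) G₂ :=
    Krr.H495.Rank.rank_biprod hG (isFinLocFreeOfRank_freeMod Y (d + 2))
  let t₂ : (Scheme.Modules.pullback π).obj G₂ ⟶ E := (Scheme.Modules.pullback π).map biprod.fst ≫ t
  have hfst : Epi ((Scheme.Modules.pullback π).map (biprod.fst : G₂ ⟶ G)) := inferInstance
  have ht₂ : Epi t₂ := epi_comp _ _
  have hπG₂ : FlatMod.IsFinLocFreeOfRank ((n + 1) + (d + 1)) ((Scheme.Modules.pullback π).obj G₂) := by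
    have := isFinLocFreeOfRank_pullback π hG₂
    rwa [show n + (d + 2) = (n + 1) + (d + 1) by omega] at this
  have hK : FlatMod.IsFinLocFreeOfRank (n + 1) (kernel t₂) :=
    Krr.H487.KerRank.isFinLocFreeOfRank_kernel t₂ hπG₂ hE
  set K := kernel t₂ with hKdef
  have hKf := isFinLocFree_of_rank hK
  have hEf := isFinLocFree_of_rank hE
  have hcl : KRR.cl X ((Scheme.Modules.pullback π).obj G₂) = KRR.cl X K + KRR.cl X E :=
    Groth.Agent.Krr.H496.PullK0.cl_ses (Krr.H487.KerRank.shortExact_kernel t₂) hKf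
      (isFinLocFree_of_rank hπG₂) hEf
  set e : KX := φX (KRR.cl X E) - ((d + 1 : ℕ) : KX) with he
  set k : KX := φX (KRR.cl X K) - ((n + 1 : ℕ) : KX) with hk
  set gg : KX := φX (KRR.cl X ((Scheme.Modules.pullback π).obj G₂)) - ((n + (d + 2) : ℕ) : KX) with hgg
  have hsum : gg = k + e := by
    rw [hgg, hk, he, hcl, map_add]
    push_cast
    ring
  have hser : gammaSeries gg = gammaSeries k * gammaSeries e := by rw [hsum, gammaSeries_add]
  have hgj : ∀ j, 1 ≤ j → ∀ (s : ℤ) (ξ : SGA6.Kcoh X), μ (gamma j gg) ξ ∈ Fil π y s :=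
    fun j hj s ξ => pull_gamma_mem π y hKX hμ (by omega) hG₂ hj s ξ
  have goodE : Good μ (Fil π y) (gammaSeries e) := by
    intro i
    rw [coeff_gammaSeries]
    exact FilOne.gamma_mem_of_quot π y hKX hμ hE
      (Ega2.QCohLocal.isQCoh_of_isFinLocFree (isFinLocFree_of_rank hG)) t i
  have goodG : Good μ (Fil π y) (gammaSeries gg) := by
    intro i
    rw [coeff_gammaSeries]
    rcases Nat.eq_zero_or_pos i with rfl | hi
    · have : gamma 0 gg = 1 := by simp [gamma]
      rw [this]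
      exact one_mem_Low hμ.one_smul
    · exact fun m ξ _ => hgj i hi _ ξ
  have goodK : Good μ (Fil π y) (gammaSeries k) := by
    have h1 : gammaSeries k = gammaSeries gg * gammaSeries (-e) := by
      rw [hser, mul_assoc, gammaSeries_mul_neg, mul_one]
    rw [h1]
    exact Good.mul hμ.mul_smul goodG (Good.inv hμ.one_smul hμ.mul_smul goodE
      (constantCoeff_gammaSeries _) (gammaSeries_mul_neg _))
  -- the projective bundle
  have hdK : FlatMod.IsFinLocFreeOfRank (n + 1) (Groth.Agent.Krr.H492.DualK.dl K) :=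
    DualPB.isFinLocFreeOfRank_dl hK
  obtain ⟨P, p, O1, q, B⟩ := Krr.H490.PBExist.exists_isProjBundle hdK
  have hprop := Krr.H483.PBTop.isProper hdK B
  have hnoeth := Krr.H483.PBTop.isNoetherian hdK B
  have hconn := Krr.H483.PBTop.connectedSpace hdK B
  have hflat := PBUnit.flat hdK B
  have hT := Krr.H471.PBTwist.isTwist_of_isProjBundle hdK B
  obtain ⟨N, hN, hi⟩ := Grpsch.PicGrp.exists_inverse (PBUnit.isInvertible_O1 B)
  obtain ⟨KP, _, _, PP, φP, hKP⟩ := S3796.result P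
  obtain ⟨g, hg⟩ := exists_isPull p hKX.bijective φP
  have hcong := SegCong.congruence hKP hKX hg hμ hK B hT hN hi (Fil := Fil π y) (Fil_mono π y)
    (fun i => by
      have := goodK i
      rwa [coeff_gammaSeries] at this)
    (fun i => gamma i e) (by simp [gamma]) (fun j hj m ξ => by
      have h1 : ∑ i ∈ Finset.range (j + 1), gamma (j - i) e *
          gamma i (φX (KRR.cl X K) - ((n + 1 : ℕ) : KX)) = gamma j gg := by
        rw [← coeff_gammaSeries gg, hser, PowerSeries.coeff_mul,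
          Finset.Nat.sum_antidiagonal_eq_sum_range_succ_mk]
        refine Finset.sum_congr rfl fun i _ => ?_
        rw [coeff_gammaSeries, coeff_gammaSeries, mul_comm]
      rw [h1]
      exact hgj j hj m ξ) d d (KDet.clc X F) (clc_mem fun _ => hFT)
  have h1 : rk (gc (beta hKP hT ((1 - φP (KRR.cl P N)) ^ (n + d)) (KDet.clc X F) -
      μ (gamma d e) (KDet.clc X F))) = 0 :=
    rk_Fil_neg π hrk hgc (by
      have h2 : ((d : ℤ) - (d : ℕ) - 1) = -1 := by ring
      rw [← h2]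
      exact hcong)
  rw [map_sub, map_sub, sub_eq_zero] at h1
  rw [← h1]
  have h3 : beta hKP hT ((1 - φP (KRR.cl P N)) ^ (n + d)) (KDet.clc X F) =
      push hT (((1 - opE N) ^ (n + d) : AddMonoid.End (SGA6.Kcoh P)) (pull p (KDet.clc X F))) := by
    unfold beta
    rw [capK_pow hKP N]
  rw [h3]
  obtain ⟨V, hyV, hV⟩ := DualGen.globGen_dl π hG₂ hEf t₂
    (Ega2.QCohLocal.isQCoh_of_isFinLocFree hKf) y
  have hq : Epi q := B.epi
  exact seg_nonneg π y hF hFT hgc hrk h0 p hdK B hN hi hyV (DualGen.globGen_pull p (π ⁻¹ᵁ V) hV q) hT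

end K878.ChernMain
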