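import Groth.Agent.IntSh.K878.LinePos
import Groth.Agent.IntSh.K878.FilMain

/-!
# The elements `γ^n([E] - rank)` for a single quotient `E` of an inverse image
-/

set_option autoImplicit false
universe v u

open CategoryTheory CategoryTheory.Limits AlgebraicGeometry Opposite TopologicalSpace

namespace K878.FilOne

open Groth.Agent Groth.Agent.Krr.H471.ChartVan Groth.Agent.Krr.H482.PullLambda
  Groth.Agent.Krr.H482.PullFinal K878.CapEx K878.KSup K878.PBPush K878.FilAlg K878.FilPB LambdaRing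
  K878.FibFil K878.FibDelta K878.DropPt

/-- The key theorem for one bundle. -/
theorem gamma_mem {S : Scheme.{u}} [AlgebraicGeometry.IsNoetherian S] [ConnectedSpace S]
    {KS : Type v} [CommRing KS] [LambdaOps KS] {PS : PosStructure KS} {φS : SGA6.Kvb S →+ KS}
    {μ : KS →+ SGA6.Kcoh S →+ SGA6.Kcoh S}
    (hKS : KRR.IsModel S KS PS φS) (hμ : KDet.IsCap φS μ)
    {Fil : ℤ → AddSubgroup (SGA6.Kcoh S)} {r : ℕ} {E : S.Modules}
    (hE : FlatMod.IsFinLocFreeOfRank (r + 1) E)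
    (H : ∀ (P : Scheme.{u}) [AlgebraicGeometry.IsNoetherian P] (π : P ⟶ S) [Flat π] [IsProper π]
        (O1 N : P.Modules) (q : (Scheme.Modules.pullback π).obj E ⟶ O1), KRR.IsProjBundle π E O1 q →
        PicF.IsInvertible N → Nonempty (CohB1.tensorMod O1 N ≅ Coh.structureModule P) →
        ∃ FilP : ℤ → AddSubgroup (SGA6.Kcoh P), FilMain.IsLift π r O1 N Fil FilP) (n : ℕ) :
    gamma n (φS (KRR.cl S E) - ((r + 1 : ℕ) : KS)) ∈ Low μ Fil n := by
  obtain ⟨P, π, O1, q, B⟩ := Krr.H490.PBExist.exists_isProjBundle hE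
  have hprop := Krr.H483.PBTop.isProper hE B
  have hnoeth := Krr.H483.PBTop.isNoetherian hE B
  have hconn := Krr.H483.PBTop.connectedSpace hE B
  have hflat := PBUnit.flat hE B
  have hT := Krr.H471.PBTwist.isTwist_of_isProjBundle hE B
  obtain ⟨N, hN, ⟨i⟩⟩ := Grpsch.PicGrp.exists_inverse (PBUnit.isInvertible_O1 B)
  obtain ⟨FilP, hF⟩ := H P π O1 N q B hN ⟨i⟩
  obtain ⟨KP, _, _, PP, φP, hKP⟩ := S3796.result P
  obtain ⟨g, hg⟩ := exists_isPull π hKS.bijective φP
  exact gamma_mem_Low hKP hKS hg hμ hE B hT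
    (isFinLocFree_of_rank (Ega2.QCohLocal.isFinLocFreeOfRank_one_iff.2 hN)) i hF.line hF.inv hF.pull
    (hF.push _ (isPushCoh_push hT)) n

section

variable {X Y : Scheme.{u}} [AlgebraicGeometry.IsNoetherian X] (π : X ⟶ Y) [LocallyOfFiniteType π] (y : Y)

/-- `O(1)` is generated by sections over the inverse images of affine opens. -/
theorem globGen_O1 {X Y P : Scheme.{u}} (π : X ⟶ Y) (p : P ⟶ X) {E : X.Modules} {O1 : P.Modules}
    {G : Y.Modules} (hG : Coh.IsQCoh G) (t : (Scheme.Modules.pullback π).obj G ⟶ E) [ht : Epi t]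
    (q : (Scheme.Modules.pullback p).obj E ⟶ O1) (hq : Epi q) {V : Y.Opens} (hV : IsAffineOpen V) :
    Curv2.IsGloballyGenerated (O1.restrict ((p ≫ π) ⁻¹ᵁ V).ι) := by
  let f : (Scheme.Modules.pullback (p ≫ π)).obj G ⟶ O1 :=
    ((Scheme.Modules.pullbackComp p π).app G).inv ≫ (Scheme.Modules.pullback p).map t ≫ q
  have h1 : Epi ((Scheme.Modules.pullback p).map t) := inferInstance
  have h2 : Epi ((Scheme.Modules.pullback p).map t ≫ q) := epi_comp _ _
  have hf : Epi f := epi_comp _ _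
  exact LocGen.globGen_restrict (p ≫ π) hG f hV

/-- The lift for a quotient of an inverse image from `Y`. -/
theorem isLift_of_quot {P : Scheme.{u}} [AlgebraicGeometry.IsNoetherian P] (p : P ⟶ X) [Flat p] [IsProper p]
    {r : ℕ} {E : X.Modules} (hE : FlatMod.IsFinLocFreeOfRank (r + 1) E)
    {O1 N : P.Modules} {q : (Scheme.Modules.pullback p).obj E ⟶ O1} (B : KRR.IsProjBundle p E O1 q)
    (hN : PicF.IsInvertible N) {G : Y.Modules} (hG : Coh.IsQCoh G)
    (t : (Scheme.Modules.pullback π).obj G ⟶ E) [Epi t] :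
    FilMain.IsLift p r O1 N (Fil π y) (Fil (p ≫ π) y) := by
  refine isLift_of_line π y p hE B hN fun m η hη => ?_
  obtain ⟨V, hV, hyV, -⟩ := exists_isAffineOpen_mem_and_subset (x := y) (U := (⊤ : Y.Opens)) trivial
  have h1 := globGen_O1 π p hG t q B.epi hV
  have h2 := LinePos.line_lower (p ≫ π) y ((p ≫ π) ⁻¹ᵁ V) (fun x hx => by rw [← hx] at hyV; exact hyV)
    (PBUnit.isInvertible_O1 B) h1 m hη
  have h3 := neg_mem h2
  rw [neg_sub] at h3
  exact h3

theorem gamma_mem_of_quot [ConnectedSpace X]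
    {KX : Type v} [CommRing KX] [LambdaOps KX] {PX : PosStructure KX} {φX : SGA6.Kvb X →+ KX}
    {μ : KX →+ SGA6.Kcoh X →+ SGA6.Kcoh X}
    (hKX : KRR.IsModel X KX PX φX) (hμ : KDet.IsCap φX μ) {r : ℕ} {E : X.Modules}
    (hE : FlatMod.IsFinLocFreeOfRank (r + 1) E) {G : Y.Modules} (hG : Coh.IsQCoh G)
    (t : (Scheme.Modules.pullback π).obj G ⟶ E) [Epi t] (n : ℕ) :
    gamma n (φX (KRR.cl X E) - ((r + 1 : ℕ) : KX)) ∈ Low μ (Fil π y) n :=
  gamma_mem hKX hμ hE (fun _ _ p _ _ _ _ _ B hN _ => ⟨_, isLift_of_quot π y p hE B hN hG t⟩) n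

end

end K878.FilOne
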