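import Groth.Agent.IntSh.K878.FibFil
import Groth.Agent.IntSh.K879.SuppVan

/-!
# Push-forward of classes of relative dimension zero
-/

set_option autoImplicit false
universe u
open CategoryTheory CategoryTheory.Limits AlgebraicGeometry Opposite TopologicalSpace
open Groth.Agent

namespace K878.PushZero

open K878.KSup K878.FibDelta K878.DropPt K878.FibFil

theorem finite_fibre {P Y : Scheme.{u}} [AlgebraicGeometry.IsNoetherian P] {ψ : P ⟶ Y} {y : Y}
    {δ : P → ℕ} (hδ : Dec ψ y δ) {C : Set P} (hC : IsClosed C) (h : C ⊆ T ψ y δ 0) :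
    (C ∩ ψ.base ⁻¹' {y}).Finite := by
  obtain ⟨S, hS, hS'⟩ := exists_finset (B := Y) (fun z : P => ψ z) ψ.continuous y hC
  refine S.finite_toSet.subset ?_
  rintro z ⟨hz, hzy⟩
  obtain ⟨s, hs, hsz⟩ := hS' z hz hzy
  obtain ⟨hsC, hsy⟩ := hS s hs
  by_cases hne : s = z
  · rw [← hne]; exact hs
  · have h1 := hδ z s hzy hsy hsz hne
    have h2 := h hsC hsy
    omega

variable {P X Y : Scheme.{u}} [AlgebraicGeometry.IsNoetherian P] [AlgebraicGeometry.IsNoetherian X]
  [HasInjectiveResolutions P.Modules] (f : P ⟶ X) [IsProper f] (ψ : X ⟶ Y) [LocallyOfFiniteType ψ] (y : Y)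

theorem push_zero {N : ℕ} {gc : SGA6.Kcoh P →+ SGA6.Kcoh X} (hgc : KRR.IsPushCoh f N gc)
    {G : P.Modules} (hG : Coh.IsCoh G) (hGT : CohB1.support G ⊆ T (f ≫ ψ) y (dl (f ≫ ψ)) 0) :
    ∃ G' : X.Modules, Coh.IsCoh G' ∧ CohB1.support G' ⊆ T ψ y (dl ψ) 0 ∧
      gc (KDet.clc P G) - KDet.clc X G' ∈ Fil ψ y (-1) := by
  have hfin := finite_fibre (dec (f ≫ ψ) y) (Ega3B.Devissage.isClosed_support hG) hGT
  have hcoh : ∀ i, Coh.IsCoh ((Coh.Rpush f i).obj G) := fun i => S0036.result f G hG i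
  have hvan : ∀ i, KDet.clc X ((Coh.Rpush f (i + 1)).obj G) ∈ Fil ψ y (-1) := by
    intro i
    refine clc_mem fun _ x hx hxy => ?_
    exfalso
    have h1 : (CohB1.support G ∩ f.base ⁻¹' {x}).Finite := by
      refine hfin.subset ?_
      rintro p ⟨hp, hpx⟩
      refine ⟨hp, ?_⟩
      have h2 : f p = x := hpx
      change ψ (f p) = y
      rw [h2]
      exact hxy
    exact hx (K879.SuppVan.subsingleton_stalk_Rpush f hG x h1 (i + 1) (Nat.succ_pos i))
  refine ⟨(Coh.Rpush f 0).obj G, hcoh 0, ?_, ?_⟩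
  · intro x hx hxy
    obtain ⟨p, hp, rfl⟩ := PushSup.support_Rpush_subset f hG 0 hx
    have h1 := hGT hp hxy
    rw [dl_comp] at h1
    push_cast at h1
    omega
  · have h1 := hgc.2 G hG
    rw [Finset.sum_range_succ'] at h1
    have h2 : gc (KDet.clc P G) - KDet.clc X ((Coh.Rpush f 0).obj G) =
        ∑ i ∈ Finset.range N, (-1 : ℤ) ^ (i + 1) • KDet.clc X ((Coh.Rpush f (i + 1)).obj G) := by
      rw [sub_eq_iff_eq_add]
      refine Eq.trans h1 ?_
      rw [pow_zero, one_smul]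
    rw [h2]
    exact sum_mem fun i _ => AddSubgroup.zsmul_mem _ (hvan i) _

end K878.PushZero
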