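import Groth.Agent.IntSh.K878.DualPB

/-!
# The Segre operators of `P(K^∨)` compute the Chern operators of `1/K`
-/

set_option autoImplicit false
universe v w u

open CategoryTheory CategoryTheory.Limits AlgebraicGeometry Opposite TopologicalSpace

namespace K878.SegCong

open Groth.Agent Groth.Agent.Krr.H471.ChartVan Groth.Agent.Krr.H482.PullLambda
  Groth.Agent.Krr.H482.PullFinal K878.CapEx K878.KSup K878.PBPush K878.FilAlg K878.FilPB LambdaRing
open Groth.Agent.Krr.H492.DualK (dl)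

variable {P S : Scheme.{u}} [AlgebraicGeometry.IsNoetherian S] [AlgebraicGeometry.IsNoetherian P]
  {π : P ⟶ S} [Flat π] [IsProper π]
  {KS : Type v} [CommRing KS] [LambdaOps KS] {PS : PosStructure KS} {φS : SGA6.Kvb S →+ KS}
  {KP : Type w} [CommRing KP] [LambdaOps KP] {PP : PosStructure KP} {φP : SGA6.Kvb P →+ KP}
  {g : KS →+ KP} {μ : KS →+ SGA6.Kcoh S →+ SGA6.Kcoh S} {r : ℕ} {O1 N : P.Modules} {K : S.Modules}

theorem beta_pow_low (hKP : KRR.IsModel P KP PP φP) (hE : FlatMod.IsFinLocFreeOfRank (r + 1) (dl K))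
    {q : (Scheme.Modules.pullback π).obj (dl K) ⟶ O1}
    (B : KRR.IsProjBundle π (dl K) O1 q) (hT : IsTwist r π O1 1) (hN : FlatMod.IsFinLocFree N)
    (i : ((DCoh.tensorBi (X := P)).obj O1).obj N ≅ Coh.structureModule P)
    (k : ℕ) (hk : k ≤ r) (ξ : SGA6.Kcoh S) :
    beta hKP hT ((1 - φP (KRR.cl P N)) ^ k) ξ = ξ := by
  set ν := φP (KRR.cl P N) with hν
  have h1 : (1 - ν) ^ k = ∑ j ∈ Finset.range (k + 1), ((-1 : ℤ) ^ j * (k.choose j : ℤ)) • ν ^ j := by
    have h3 : (1 - ν) = (-ν) + 1 := by ring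
    rw [h3, add_pow]
    refine Finset.sum_congr rfl fun j _ => ?_
    rw [zsmul_eq_mul, neg_pow]
    push_cast
    ring
  rw [h1, beta_sum, Finset.sum_range_succ']
  have h2 : ∀ j ∈ Finset.range k,
      beta hKP hT (((-1 : ℤ) ^ (j + 1) * (k.choose (j + 1) : ℤ)) • ν ^ (j + 1)) ξ = 0 := by
    intro j hj
    rw [Finset.mem_range] at hj
    rw [beta_zsmul, beta_neg hKP hT hN i (j + 1) (by omega) (by omega), smul_zero]
  rw [Finset.sum_eq_zero h2, zero_add]
  simp only [pow_zero, Nat.choose_zero_right, Nat.cast_one, mul_one, one_smul]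
  exact beta_one hKP hE B hT ξ

theorem beta_rel (hKP : KRR.IsModel P KP PP φP) (hKS : KRR.IsModel S KS PS φS)
    (hg : KRR.IsPull π φS φP g) (hμ : KDet.IsCap φS μ) (hK : FlatMod.IsFinLocFreeOfRank (r + 1) K)
    {q : (Scheme.Modules.pullback π).obj (dl K) ⟶ O1}
    (B : KRR.IsProjBundle π (dl K) O1 q) (hT : IsTwist r π O1 1) (hN : PicF.IsInvertible N)
    (hi : Nonempty (CohB1.tensorMod O1 N ≅ Coh.structureModule P)) (j : ℕ) (ξ : SGA6.Kcoh S) :
    ∑ i ∈ Finset.range (r + (j + 1) + 1), beta hKP hT ((1 - φP (KRR.cl P N)) ^ (r + (j + 1) - i))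
      (μ (gamma i (φS (KRR.cl S K) - ((r + 1 : ℕ) : KS))) ξ) = 0 := by
  have hq : Epi q := B.epi
  have h1 := DualPB.gamma_relation hKP hKS hg hK B.invertible hN hi q (r + (j + 1)) (by omega)
  have h2 := congrArg (fun z => beta hKP hT z ξ) h1
  simp only [beta_sum, beta_zero] at h2
  rw [← h2]
  refine Finset.sum_congr rfl fun i _ => ?_
  rw [← beta_mul hKP hKS hg hμ hT]
  congr 1
  ring

theorem one_sub_pow (hKP : KRR.IsModel P KP PP φP) (hO1 : FlatMod.IsFinLocFree O1)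
    (hN : FlatMod.IsFinLocFree N) (i : ((DCoh.tensorBi (X := P)).obj O1).obj N ≅ Coh.structureModule P)
    (b : ℕ) : (1 - φP (KRR.cl P N)) ^ b =
      ((-1 : ℤ) ^ b) • (φP (KRR.cl P N) ^ b * (1 - φP (KRR.cl P O1)) ^ b) := by
  have h1 : φP (KRR.cl P O1) * φP (KRR.cl P N) = 1 := by
    rw [hKP.map_mul O1 N hO1 hN, ← hKP.map_one]
    exact congrArg φP (Groth.Agent.Sga67.KvbRing.c_iso i
      (Groth.Agent.Sga67.LocBasis.isFinLocFree_tensorMod hO1 hN))
  have h2 : (1 - φP (KRR.cl P N)) = (-1) * (φP (KRR.cl P N) * (1 - φP (KRR.cl P O1))) := by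
    linear_combination (-1 : KP) * h1
  rw [h2, mul_pow, mul_pow, zsmul_eq_mul]
  push_cast
  ring

theorem congruence (hKP : KRR.IsModel P KP PP φP) (hKS : KRR.IsModel S KS PS φS)
    (hg : KRR.IsPull π φS φP g) (hμ : KDet.IsCap φS μ) (hK : FlatMod.IsFinLocFreeOfRank (r + 1) K)
    {q : (Scheme.Modules.pullback π).obj (dl K) ⟶ O1}
    (B : KRR.IsProjBundle π (dl K) O1 q) (hT : IsTwist r π O1 1) (hN : PicF.IsInvertible N)
    (hi : Nonempty (CohB1.tensorMod O1 N ≅ Coh.structureModule P))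
    {Fil : ℤ → AddSubgroup (SGA6.Kcoh S)} (hmono : ∀ i j, i ≤ j → Fil i ≤ Fil j)
    (hx : ∀ i, gamma i (φS (KRR.cl S K) - ((r + 1 : ℕ) : KS)) ∈ Low μ Fil i)
    (c : ℕ → KS) (hc0 : c 0 = 1)
    (hrel : ∀ (j : ℕ), 1 ≤ j → ∀ (m : ℤ) (ξ : SGA6.Kcoh S),
      μ (∑ i ∈ Finset.range (j + 1), c (j - i) *
        gamma i (φS (KRR.cl S K) - ((r + 1 : ℕ) : KS))) ξ ∈ Fil m) (j : ℕ) :
    ∀ (s : ℤ) (ξ : SGA6.Kcoh S), ξ ∈ Fil s →
      beta hKP hT ((1 - φP (KRR.cl P N)) ^ (r + j)) ξ - μ (c j) ξ ∈ Fil (s - j - 1) := by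
  obtain ⟨i0⟩ := hi
  have hNf : FlatMod.IsFinLocFree N :=
    isFinLocFree_of_rank (Ega2.QCohLocal.isFinLocFreeOfRank_one_iff.2 hN)
  have hE : FlatMod.IsFinLocFreeOfRank (r + 1) (dl K) := DualPB.isFinLocFreeOfRank_dl hK
  set x : ℕ → KS := fun i => gamma i (φS (KRR.cl S K) - ((r + 1 : ℕ) : KS)) with hxdef
  have hx0 : x 0 = 1 := by rw [hxdef]; simp [gamma]
  induction j using Nat.strong_induction_on with
  | _ j ih =>
    intro s ξ hξ
    rcases Nat.eq_zero_or_pos j with rfl | hj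
    · rw [Nat.add_zero, beta_pow_low hKP hE B hT hNf i0 r le_rfl, hc0, hμ.one_smul, sub_self]
      exact zero_mem _
    obtain ⟨j, rfl⟩ : ∃ j', j = j' + 1 := ⟨j - 1, by omega⟩
    have h1 := beta_rel hKP hKS hg hμ hK B hT hN ⟨i0⟩ j ξ
    let t : ℕ → SGA6.Kcoh S := fun i => beta hKP hT ((1 - φP (KRR.cl P N)) ^ (r + (j + 1) - i)) (μ (x i) ξ)
    let t' : ℕ → SGA6.Kcoh S := fun i => if i ≤ j + 1 then μ (c (j + 1 - i) * x i) ξ else 0
    have h2 : ∑ i ∈ Finset.range (r + (j + 1) + 1), t i = 0 := h1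
    have h3 : ∑ i ∈ Finset.range (r + (j + 1) + 1), t' i =
        μ (∑ i ∈ Finset.range (j + 1 + 1), c (j + 1 - i) * x i) ξ := by
      rw [map_sum, AddMonoidHom.finsetSum_apply]
      have h4 : r + (j + 1) + 1 = (j + 1 + 1) + r := by omega
      rw [h4, Finset.sum_range_add]
      have h5 : ∑ k ∈ Finset.range r, t' (j + 1 + 1 + k) = 0 :=
        Finset.sum_eq_zero fun k _ => if_neg (by omega)
      rw [h5, add_zero]
      refine Finset.sum_congr rfl fun i hi => ?_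
      rw [Finset.mem_range] at hi
      exact if_pos (by omega)
    have h4 : ∀ i ∈ Finset.range (r + (j + 1)), t (i + 1) - t' (i + 1) ∈ Fil (s - (j + 1 : ℕ) - 1) := by
      intro i hi
      rw [Finset.mem_range] at hi
      have hxi := hx (i + 1) s ξ hξ
      by_cases h : i + 1 ≤ j + 1
      · have h5 := ih (j + 1 - (i + 1)) (by omega) _ _ hxi
        have h6 : r + (j + 1) - (i + 1) = r + (j + 1 - (i + 1)) := by omega
        have h7 : t' (i + 1) = μ (c (j + 1 - (i + 1))) (μ (x (i + 1)) ξ) := by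
          rw [← hμ.mul_smul]
          exact if_pos h
        rw [h7]
        change beta hKP hT ((1 - φP (KRR.cl P N)) ^ (r + (j + 1) - (i + 1))) (μ (x (i + 1)) ξ) - _ ∈ _
        rw [h6]
        have h8 : s - ((i + 1 : ℕ) : ℤ) - ((j + 1 - (i + 1) : ℕ) : ℤ) - 1 = s - ((j + 1 : ℕ) : ℤ) - 1 := by
          omega
        rw [h8] at h5
        exact h5
      · have h7 : t' (i + 1) = 0 := if_neg h
        rw [h7, sub_zero]
        change beta hKP hT ((1 - φP (KRR.cl P N)) ^ (r + (j + 1) - (i + 1))) (μ (x (i + 1)) ξ) ∈ _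
        rw [beta_pow_low hKP hE B hT hNf i0 _ (by omega)]
        exact hmono _ _ (by omega) hxi
    have h5 := sum_mem h4
    have h6 := hrel (j + 1) (by omega) (s - ((j + 1 : ℕ) : ℤ) - 1) ξ
    rw [Finset.sum_sub_distrib] at h5
    rw [Finset.sum_range_succ'] at h2 h3
    have h7 : t 0 - t' 0 = beta hKP hT ((1 - φP (KRR.cl P N)) ^ (r + (j + 1))) ξ - μ (c (j + 1)) ξ := by
      change beta hKP hT ((1 - φP (KRR.cl P N)) ^ (r + (j + 1) - 0)) (μ (x 0) ξ) -
        (if 0 ≤ j + 1 then μ (c (j + 1 - 0) * x 0) ξ else 0) = _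
      rw [if_pos (Nat.zero_le _), hx0, mul_one, hμ.one_smul, Nat.sub_zero, Nat.sub_zero]
    rw [← h7]
    have h8 : t 0 - t' 0 = -(∑ i ∈ Finset.range (r + (j + 1)), t (i + 1) -
        ∑ i ∈ Finset.range (r + (j + 1)), t' (i + 1)) -
        μ (∑ i ∈ Finset.range (j + 1 + 1), c (j + 1 - i) * x i) ξ := by
      rw [← h3]
      have h9 : t 0 = -∑ i ∈ Finset.range (r + (j + 1)), t (i + 1) := by
        rw [eq_neg_iff_add_eq_zero, add_comm]
        exact h2
      rw [h9]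
      abel
    rw [h8]
    exact sub_mem (neg_mem h5) h6

end K878.SegCong
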