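import Groth.Agent.IntSh.K878.DualGen
import Groth.Agent.IntSh.K878.SegCong
import Groth.Agent.IntSh.K878.AugGam
import Groth.Agent.IntSh.K878.PushZero
import Groth.Agent.IntSh.K878.FilOne

/-!
# Non-negativity of `c^d(E) · [F]` for `E` of rank `d + 1` a quotient of an inverse image
-/

set_option autoImplicit false
universe v u

open CategoryTheory CategoryTheory.Limits AlgebraicGeometry Opposite TopologicalSpace

namespace K878.ChernPos

open Groth.Agent Groth.Agent.Krr.H471.ChartVan Groth.Agent.Krr.H482.PullLambda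
  Groth.Agent.Krr.H482.PullFinal K878.CapEx K878.KSup K878.PBPush K878.FilAlg K878.FilPB LambdaRing
  K878.FibFil K878.DropPt Groth.Agent.Books.Lambda2

section rk

variable {X Y : Scheme.{u}}

/-- A functional on `K_•(Y)` killing the classes without `y` in their support. -/
def Kills (rk : SGA6.Kcoh Y →+ ℤ) (y : Y) : Prop :=
  ∀ G : Y.Modules, Coh.IsCoh G → y ∉ CohB1.support G → rk (KDet.clc Y G) = 0

theorem kills_ksup {rk : SGA6.Kcoh Y →+ ℤ} {y : Y} (h : Kills rk y) {T' : Set Y} (hT : y ∉ T')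
    {c : SGA6.Kcoh Y} (hc : c ∈ ksup Y T') : rk c = 0 := by
  have h1 : rk c ∈ (⊥ : AddSubgroup ℤ) :=
    map_mem_of rk ⊥ (fun G hG hGT => by
      rw [AddSubgroup.mem_bot]
      exact h G hG fun hy => hT (hGT hy)) hc
  exact AddSubgroup.mem_bot.1 h1

variable [AlgebraicGeometry.IsNoetherian X] (π : X ⟶ Y) [IsProper π] [HasInjectiveResolutions X.Modules]

theorem rk_Fil_neg {rk : SGA6.Kcoh Y →+ ℤ} {y : Y} (h : Kills rk y) {M : ℕ}
    {gc : SGA6.Kcoh X →+ SGA6.Kcoh Y} (hgc : KRR.IsPushCoh π M gc) {c : SGA6.Kcoh X}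
    (hc : c ∈ Fil π y (-1)) : rk (gc c) = 0 := by
  have h1 := Fil_neg π y (by omega) hc
  have h2 := PushSup.push_mem π hgc (T' := {z | ¬ z ⤳ y}) (T := DeltaLoc.away π y)
    (fun x hx => hx) h1
  exact kills_ksup h (T' := {z | ¬ z ⤳ y}) (fun hy => hy specializes_rfl) h2

theorem rk_zero_nonneg [AlgebraicGeometry.IsNoetherian Y] {rk : SGA6.Kcoh Y →+ ℤ} {y : Y}
    (h : Kills rk y) (h0 : ∀ G : Y.Modules, Coh.IsCoh G → 0 ≤ rk (KDet.clc Y G)) {M : ℕ}
    {gc : SGA6.Kcoh X →+ SGA6.Kcoh Y} (hgc : KRR.IsPushCoh π M gc) {G : X.Modules} (hG : Coh.IsCoh G)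
    (hGT : CohB1.support G ⊆ T π y (FibDelta.dl π) 0) : 0 ≤ rk (gc (KDet.clc X G)) := by
  have hGT' : CohB1.support G ⊆ T (π ≫ 𝟙 Y) y (FibDelta.dl (π ≫ 𝟙 Y)) 0 := by
    rw [Category.comp_id]
    exact hGT
  obtain ⟨G', hG', -, hd⟩ := PushZero.push_zero π (𝟙 Y) y hgc hG hGT'
  have h1 : rk (gc (KDet.clc X G) - KDet.clc Y G') = 0 := by
    refine kills_ksup h ?_ hd
    intro hy
    have := hy rfl
    omega
  rw [map_sub, sub_eq_zero] at h1
  rw [h1]
  exact h0 G' hG'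

end rk

section lower

variable {X Y P : Scheme.{u}} [AlgebraicGeometry.IsNoetherian P]

theorem push_Fil (p : P ⟶ X) [IsProper p] (π : X ⟶ Y) [LocallyOfFiniteType π] (y : Y)
    {M : ℕ} [HasInjectiveResolutions P.Modules]
    {gc : SGA6.Kcoh P →+ SGA6.Kcoh X} (hgc : KRR.IsPushCoh p M gc) {m : ℤ} {c : SGA6.Kcoh P}
    (hc : c ∈ Fil (p ≫ π) y m) : gc c ∈ Fil π y m := by
  refine PushSup.push_mem p hgc ?_ hc
  intro x hx hxy
  have h2 := hx hxy
  rw [FibDelta.dl_comp] at h2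
  push_cast at h2
  omega

end lower

theorem capK_pow {P : Scheme.{u}} [AlgebraicGeometry.IsNoetherian P] {KP : Type v} [CommRing KP]
    [LambdaOps KP] {PP : PosStructure KP} {φP : SGA6.Kvb P →+ KP} (hKP : KRR.IsModel P KP PP φP)
    (N : P.Modules) (k : ℕ) (η : SGA6.Kcoh P) :
    capK hKP ((1 - φP (KRR.cl P N)) ^ k) η = ((1 - opE N) ^ k : AddMonoid.End (SGA6.Kcoh P)) η := by
  induction k with
  | zero =>
    rw [pow_zero, pow_zero, (isCap hKP).one_smul]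
    rfl
  | succ k ih =>
    rw [pow_succ', (isCap hKP).mul_smul, ih, map_sub, AddMonoidHom.sub_apply, (isCap hKP).one_smul,
      capK_apply, pow_succ']
    rfl

theorem isFinLocFreeOfRank_freeMod (Y : Scheme.{u}) (n : ℕ) :
    FlatMod.IsFinLocFreeOfRank n (FlatMod.freeMod Y n) :=
  fun _ => ⟨⊤, trivial, ⟨Dcoh.ResFree.restrictFreeMod (⊤ : Y.Opens).ι n⟩⟩

/-- Positivity on `P(K^∨)`. -/
theorem seg_nonneg {X Y P : Scheme.{u}} [AlgebraicGeometry.IsNoetherian X]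
    [AlgebraicGeometry.IsNoetherian Y] [AlgebraicGeometry.IsNoetherian P] (π : X ⟶ Y) [IsProper π]
    [HasInjectiveResolutions X.Modules] (y : Y) {F : X.Modules} (hF : Coh.IsCoh F) {d : ℕ}
    (hFT : CohB1.support F ⊆ T π y (FibDelta.dl π) d)
    {M : ℕ} {gc : SGA6.Kcoh X →+ SGA6.Kcoh Y} (hgc : KRR.IsPushCoh π M gc)
    {rk : SGA6.Kcoh Y →+ ℤ} (hrk : Kills rk y)
    (h0 : ∀ G : Y.Modules, Coh.IsCoh G → 0 ≤ rk (KDet.clc Y G))
    (p : P ⟶ X) [Flat p] [IsProper p] {r : ℕ} {K' : X.Modules}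
    (hK : FlatMod.IsFinLocFreeOfRank (r + 1) K') {O1 N : P.Modules}
    {q : (Scheme.Modules.pullback p).obj K' ⟶ O1} (B : KRR.IsProjBundle p K' O1 q)
    (hN : PicF.IsInvertible N) (hi : Nonempty (CohB1.tensorMod O1 N ≅ Coh.structureModule P))
    {V : Y.Opens} (hyV : y ∈ V)
    (hgen : Curv2.IsGloballyGenerated (O1.restrict (p ⁻¹ᵁ (π ⁻¹ᵁ V)).ι)) (hT : IsTwist r p O1 1) :
    0 ≤ rk (gc (push hT (((1 - opE N) ^ (r + d) : AddMonoid.End (SGA6.Kcoh P))
      (pull p (KDet.clc X F))))) := by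
  have hPi : HasInjectiveResolutions P.Modules := Dcoh.DerSch.hasInjectiveResolutions _
  rw [pull_clc p hF]
  refine LinePos.pos_inv (p ≫ π) y (p ⁻¹ᵁ (π ⁻¹ᵁ V)) ?_ (PBUnit.isInvertible_O1 B) hN hi hgen
    (rk.comp (gc.comp (push hT))) ?_ ?_ (r + d) _ (FormalA.PullbackQC.isCoh_pullback p F hF) ?_
  · rintro x rfl
    exact hyV
  · intro G hG hGT
    obtain ⟨G', hG', hGT', hd⟩ := PushZero.push_zero p π y (isPushCoh_push hT) hG hGT
    have h1 := rk_Fil_neg π hrk hgc hd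
    rw [map_sub, map_sub, sub_eq_zero] at h1
    change 0 ≤ rk (gc (push hT (KDet.clc P G)))
    rw [h1]
    exact rk_zero_nonneg π hrk h0 hgc hG' hGT'
  · intro c hc
    exact rk_Fil_neg π hrk hgc (push_Fil p π y (isPushCoh_push hT) hc)
  · intro x hx hxy
    have h1 : p x ∈ CohB1.support F := (Ega1.SuppTensorMod.mem_support_pullback p F hF.2 x).1 hx
    have h2 := hFT h1 hxy
    have h3 := FibDelta.dl_projBundle hK B x
    rw [FibDelta.dl_comp]
    push_cast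
    have h4 : (FibDelta.dl p x : ℤ) ≤ r := by exact_mod_cast h3
    omega

end K878.ChernPos
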