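import Groth.Agent.S0042
import Groth.Agent.IntSh.K879.SuppVan
import Groth.Agent.Dcoh.StalkMod

/-!
# Higher direct images vanish above the fibre dimension of the support

* `isZero_Rpush`: `R^p π_* G = 0` for `p > d` when the support of `G` meets every fibre of `π` in a set of
  Krull dimension at most `d`.
-/

set_option autoImplicit false
universe u
open CategoryTheory CategoryTheory.Limits AlgebraicGeometry TopologicalSpace

namespace K878.SupVan

open Groth.Agent K879.FibDim

variable {X Y : Scheme.{u}} (π : X ⟶ Y) [IsProper π] [IsLocallyNoetherian Y]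
  [HasInjectiveResolutions X.Modules]

theorem dim_fiber_le {G : X.Modules} (hG : Coh.IsCoh G) (d : ℕ) (y : Y)
    (hd : topologicalKrullDim ↥{x : X | x ∈ CohB1.support G ∧ π.base x = y} ≤ d) :
    topologicalKrullDim ↥((inc hG ≫ π).fiber y) ≤ d := by
  refine le_trans ?_ hd
  let e := (inc hG ≫ π).fiberHomeo y
  rw [IsHomeomorph.topologicalKrullDim_eq e e.isHomeomorph]
  let f : ((inc hG ≫ π).base ⁻¹' {y}) → ↥{x : X | x ∈ CohB1.support G ∧ π.base x = y} :=
    fun z => ⟨(inc hG).base z.1, by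
      refine ⟨?_, z.2⟩
      rw [← range_inc hG]
      exact ⟨z.1, rfl⟩⟩
  have hf : Topology.IsInducing f := by
    have h1 : Topology.IsInducing (Subtype.val ∘ f) :=
      (inc hG).isEmbedding.isInducing.comp Topology.IsInducing.subtypeVal
    exact Topology.IsInducing.of_comp (by
      refine Continuous.subtype_mk ?_ _
      exact (inc hG).continuous.comp continuous_subtype_val) continuous_subtype_val h1
  exact hf.topologicalKrullDim_le

theorem subsingleton_stalk_Rpush {G : X.Modules} (hG : Coh.IsCoh G) (d : ℕ) (y : Y)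
    (hd : topologicalKrullDim ↥{x : X | x ∈ CohB1.support G ∧ π.base x = y} ≤ d)
    (p : ℕ) (hp : d < p) : Subsingleton (((Coh.Rpush π p).obj G).presheaf.stalk y) := by
  have hZ : HasInjectiveResolutions (Sup hG).Modules := Krr.H485.LerayCl.hasInjectiveResolutions _
  let M := (Scheme.Modules.pullback (inc hG)).obj G
  have hM : Coh.IsCoh M := ⟨FormalA.PullbackQC.isQCoh_pullback _ G hG.1,
    FormalA.PullbackQC.isFT_pullback _ G hG.2⟩
  have h1 := Groth.Agent.S0042.result (inc hG ≫ π) y d (dim_fiber_le π hG d y hd) M hM p hp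
  obtain ⟨e1⟩ := Ega3B.RpushAbCmp.nonempty_toAb_Rpush_iso (inc hG ≫ π) M p
  obtain ⟨e2⟩ := Krr.H485.LerayCl.nonempty_iso (inc hG) π M p
  have e3 : (Coh.Rpush π p).obj ((Scheme.Modules.pushforward (inc hG)).obj M) ≅
    (Coh.Rpush π p).obj G := (Coh.Rpush π p).mapIso (FormalA.AnnIdeal.pushPullIso G hG.1 hG.2)
  have e4 : (Coh.toAb ((Coh.Rpush π p).obj G)).obj ≅
      ((Coh.RpushAb (inc hG ≫ π) p).obj (Coh.toAb M)).obj :=
    (sheafToPresheaf _ _).mapIso ((SheafOfModules.toSheaf Y.ringCatSheaf).mapIso (e2 ≪≫ e3).symm ≪≫ e1)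
  have e5 := (TopCat.Presheaf.stalkFunctor AddCommGrpCat.{u} y).mapIso e4
  have h2 := h1.of_iso e5
  exact AddCommGrpCat.subsingleton_of_isZero h2

theorem isZero_Rpush {G : X.Modules} (hG : Coh.IsCoh G) (d : ℕ)
    (hd : ∀ y : Y, topologicalKrullDim ↥{x : X | x ∈ CohB1.support G ∧ π.base x = y} ≤ d)
    (p : ℕ) (hp : d < p) : IsZero ((Coh.Rpush π p).obj G) :=
  Dcoh.StalkMod.isZero_of_subsingleton _ fun y => subsingleton_stalk_Rpush π hG d y (hd y) p hp

end K878.SupVan
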