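import Groth.Agent.Ega2.GlobGenCrit
import Groth.Agent.VarietyB.GGStalk
import Groth.Agent.Ega1.QCohLoc
import Groth.Agent.VarietyB.GenLocusTensor

/-!
# Quotients of inverse images are generated by sections over affine opens of the base
-/

set_option autoImplicit false
universe u
open CategoryTheory CategoryTheory.Limits AlgebraicGeometry Opposite TopologicalSpace
open Groth.Agent

namespace K878.LocGen

open Groth.Agent.Fdesc.LocGen

variable {X Y : Scheme.{u}}

theorem globGen_of_affine [IsAffine X] {M : X.Modules} (hM : Coh.IsQCoh M) :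
    Curv2.IsGloballyGenerated M := by
  refine Ega2.GlobGenCrit.isGloballyGenerated_of_span hM (fun _ : Unit => (⊤ : X.Opens))
    (fun _ => isAffineOpen_top X) (by simp) fun _ => ?_
  rw [eq_top_iff]
  intro s _
  refine Submodule.subset_span ⟨s, ?_⟩
  exact res_refl _ _

theorem globGen_of_epi {M N : X.Modules} (h : Curv2.IsGloballyGenerated M) (f : M ⟶ N) [hf : Epi f] :
    Curv2.IsGloballyGenerated N := by
  obtain ⟨ι, p, hp⟩ := h
  exact ⟨ι, p ≫ f, @epi_comp X.Modules _ _ _ _ p hp f hf⟩

/-- If `L` is a quotient of the inverse image of a quasi-coherent module, then `L` is generated by sections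
over the inverse image of every affine open. -/
theorem globGen_restrict (π : X ⟶ Y) {N : Y.Modules} (hN : Coh.IsQCoh N) {L : X.Modules}
    (f : (Scheme.Modules.pullback π).obj N ⟶ L) [Epi f] {U : Y.Opens} (hU : IsAffineOpen U) :
    Curv2.IsGloballyGenerated (L.restrict (π ⁻¹ᵁ U).ι) := by
  have : IsAffine U := hU
  have h1 : Curv2.IsGloballyGenerated (N.restrict U.ι) :=
    globGen_of_affine (@Groth.Agent.Ega1.QCohLoc.isQCoh_restrict _ _ N hN U.ι _)
  have h2 : Curv2.IsGloballyGenerated ((Scheme.Modules.pullback U.ι).obj N) :=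
    globGen_of_epi h1 ((Scheme.Modules.restrictFunctorIsoPullback U.ι).app N).hom
  have h3 := VarietyB.GGStalk.isGloballyGenerated_pullback (π ∣_ U) _ h2
  have e : (Scheme.Modules.pullback (π ∣_ U)).obj ((Scheme.Modules.pullback U.ι).obj N) ≅
      ((Scheme.Modules.pullback π).obj N).restrict (π ⁻¹ᵁ U).ι :=
    (Scheme.Modules.pullbackComp (π ∣_ U) U.ι).app N ≪≫
      (Scheme.Modules.pullbackCongr (morphismRestrict_ι π U)).app N ≪≫
      ((Scheme.Modules.pullbackComp (π ⁻¹ᵁ U).ι π).app N).symm ≪≫
      ((Scheme.Modules.restrictFunctorIsoPullback (π ⁻¹ᵁ U).ι).app _).symm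
  have h4 := globGen_of_epi h3 e.hom
  have : Epi ((Scheme.Modules.restrictFunctor (π ⁻¹ᵁ U).ι).map f) := inferInstance
  exact globGen_of_epi h4 ((Scheme.Modules.restrictFunctor (π ⁻¹ᵁ U).ι).map f)

end K878.LocGen
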