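import Groth.Agent.IntSh.K878.DeltaMem
import Groth.Agent.IntSh.K878.LocGen
import Groth.Agent.IntSh.K878.PushSup
import Groth.Agent.IntSh.K878.DetLoc

/-!
# Intersection sheaves of relatively generated invertible modules are invertible
-/

set_option autoImplicit false
universe u
open CategoryTheory CategoryTheory.Limits AlgebraicGeometry Opposite TopologicalSpace
open AlgebraicGeometry.Scheme.Modules
open Groth.Agent Groth.Agent.Sga67 Groth.Agent.Sga67.CohBasic

namespace K878.DeltaLoc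

open K878.KSup K878.DeltaMem

variable {X Y : Scheme.{u}}

/-- The points of `X` whose image does not specialize to `y`. -/
def away (π : X ⟶ Y) (y : Y) : Set X := {x | ¬ π x ⤳ y}

theorem compl_subset_away (π : X ⟶ Y) {y : Y} {U : Y.Opens} (hy : y ∈ U) :
    ((π ⁻¹ᵁ U : X.Opens) : Set X)ᶜ ⊆ away π y := by
  intro x hx h
  exact hx (h.mem_open U.isOpen hy)

theorem subset_away (π : X ⟶ Y) [IsProper π] [AlgebraicGeometry.IsLocallyNoetherian X] {y : Y}
    {G : X.Modules} (hG : Coh.IsCoh G) (h : CohB1.support G ∩ π.base ⁻¹' {y} = ∅) :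
    CohB1.support G ⊆ away π y := by
  intro x hx hxy
  have hcl : IsClosed (CohB1.support G) := Ega3B.Devissage.isClosed_support hG
  have himg : IsClosed (π '' CohB1.support G) := π.isClosedMap _ hcl
  obtain ⟨x', hx', e⟩ := hxy.mem_closed himg ⟨x, hx, rfl⟩
  have : x' ∈ CohB1.support G ∩ π.base ⁻¹' {y} := ⟨hx', e⟩
  rw [h] at this
  exact this

theorem delta_mem_away {K : Type u} [CommRing K] [LambdaRing.LambdaOps K]
    {P : LambdaRing.PosStructure K} {φ : SGA6.Kvb X →+ K} {μ : K →+ SGA6.Kcoh X →+ SGA6.Kcoh X}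
    [AlgebraicGeometry.IsNoetherian X] (π : X ⟶ Y) [IsProper π]
    (hK : KRR.IsModel X K P φ) (hμ : KDet.IsCap φ μ) (y : Y)
    (m : ℕ) (L M : Fin m → X.Modules) (hL : ∀ i, PicF.IsInvertible (L i))
    (hM : ∀ i, PicF.IsInvertible (M i)) (hLM : ∀ i, ClSub.IsInverseOf (L i) (M i))
    (hgen : ∀ i, Epi ((Scheme.Modules.pullbackPushforwardAdjunction π).counit.app (L i)))
    (G : X.Modules) (hG : Coh.IsCoh G)
    (hdim : topologicalKrullDim ↥(CohB1.support G ∩ π.base ⁻¹' {y}) < (m : WithBot ℕ∞)) :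
    μ (KDet.delta φ M) (KDet.clc X G) ∈ ksup X (away π y) := by
  obtain ⟨U, hU, hyU, -⟩ := exists_isAffineOpen_mem_and_subset (x := y) (U := (⊤ : Y.Opens)) trivial
  refine delta_mem hK hμ (π ⁻¹ᵁ U) (π.base ⁻¹' {y}) ?_ (away π y) (compl_subset_away π hyU)
    (fun G hG h => subset_away π hG h) m L M hL hM hLM (fun i => ?_) G hG hdim
  · rintro x rfl
    exact hyU
  · have := hgen i
    exact LocGen.globGen_restrict π (isQCoh_push π (Groth.Agent.Ega2.QCohLocal.isQCoh_of_isInvertible (hL i)))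
      ((Scheme.Modules.pullbackPushforwardAdjunction π).counit.app (L i)) hU

end K878.DeltaLoc
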