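import Groth.Agent.Fga.DimCut

/-!
# Dimension drop of a subspace missing a point of every irreducible component
-/

set_option autoImplicit false
open TopologicalSpace Order

namespace K878.DimCut

variable {X : Type*} [TopologicalSpace X]

theorem dim_lt_of_forall {W W' O : Set X} (hO : IsOpen O) (hW' : W' ⊆ W \ O)
    (h : ∀ Z ∈ irreducibleComponents W, ∃ z ∈ Z, (z : X) ∈ O) (m : ℕ)
    (hm : topologicalKrullDim W < ((m + 1 : ℕ) : WithBot ℕ∞)) :
    topologicalKrullDim W' < (m : WithBot ℕ∞) := by
  let D : Set W := Subtype.val ⁻¹' Oᶜ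
  have hD : IsClosed D := hO.isClosed_compl.preimage continuous_subtype_val
  have hnot : ∀ Z ∈ irreducibleComponents W, ¬ Z ⊆ D := by
    intro Z hZ hZD
    obtain ⟨z, hz, hzO⟩ := h Z hZ
    exact hZD hz hzO
  let f : W' → D := fun w => ⟨⟨w.1, (hW' w.2).1⟩, (hW' w.2).2⟩
  have hf : Topology.IsInducing f := by
    have h1 : Topology.IsInducing (fun d : D => (d.1.1 : X)) :=
      Topology.IsInducing.subtypeVal.comp Topology.IsInducing.subtypeVal
    have h2 : Topology.IsInducing ((fun d : D => (d.1.1 : X)) ∘ f) := Topology.IsInducing.subtypeVal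
    exact (h1.of_comp_iff).1 h2
  refine lt_of_le_of_lt hf.topologicalKrullDim_le ?_
  have key : ∀ p : LTSeries (IrreducibleCloseds D), p.length + 1 ≤ m := by
    intro p
    have h1 := (Groth.Agent.Fga.DimCut.length_succ_le_of_forall_not_subset D hD hnot p).trans_lt hm
    have h2 : p.length + 1 < m + 1 := by exact_mod_cast h1
    omega
  cases m with
  | zero =>
    have : IsEmpty (LTSeries (IrreducibleCloseds D)) := ⟨fun p => by have := key p; omega⟩
    have h0 : topologicalKrullDim D = ⊥ := by
      unfold topologicalKrullDim krullDim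
      exact iSup_of_empty _
    rw [h0]
    exact WithBot.bot_lt_coe _
  | succ m =>
    have : topologicalKrullDim D ≤ (m : WithBot ℕ∞) := by
      refine iSup_le fun p => ?_
      have := key p
      have : p.length ≤ m := by omega
      exact_mod_cast this
    refine lt_of_le_of_lt this ?_
    exact_mod_cast Nat.lt_succ_self m

theorem eq_empty_of_dim_lt_zero {W : Set X}
    (hm : topologicalKrullDim W < ((0 : ℕ) : WithBot ℕ∞)) : W = ∅ := by
  by_contra hne
  obtain ⟨w, hw⟩ := Set.nonempty_iff_ne_empty.2 hne
  have : Nonempty (IrreducibleCloseds W) :=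
    ⟨⟨closure {⟨w, hw⟩}, isIrreducible_singleton.closure, isClosed_closure⟩⟩
  have h0 : (0 : WithBot ℕ∞) ≤ topologicalKrullDim W := krullDim_nonneg
  exact absurd hm (not_lt.2 (by exact_mod_cast h0))

theorem dim_mono {W W' : Set X} (h : W' ⊆ W) : topologicalKrullDim W' ≤ topologicalKrullDim W := by
  have hf : Topology.IsInducing (Set.inclusion h) := by
    have h2 : Topology.IsInducing ((Subtype.val : W → X) ∘ Set.inclusion h) :=
      Topology.IsInducing.subtypeVal
    exact (Topology.IsInducing.subtypeVal.of_comp_iff).1 h2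
  exact hf.topologicalKrullDim_le

end K878.DimCut
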