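import Groth.Agent.Ega2.FiniteSet
import Groth.Agent.Ega2.AmpleWeight

/-!
# Sections of all large powers non-vanishing at a finite set of points
-/

set_option autoImplicit false
universe u
open CategoryTheory CategoryTheory.Limits AlgebraicGeometry Opposite TopologicalSpace
open Groth.Agent.Fdesc.LocGen

namespace K878.SecAvoid

open Groth.Agent.Ega2 Groth.Agent.Ega2.SecCalc

variable {X : Scheme.{u}} {L : X.Modules}

/-- Homogeneous prime avoidance, step: a section vanishing at finitely many points but not at `x`. -/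
theorem exists_vanish (hL : PicF.IsInvertible L) (x : X) (Z : Finset X)
    (h : ∀ z ∈ Z, ∃ (k : ℕ) (s : Coh.structureModule X ⟶ CohB1.tensorPow L k),
      x ∈ CohB1.genLocus _ s ∧ z ∉ CohB1.genLocus _ s) :
    ∃ (c : ℕ) (g : Coh.structureModule X ⟶ CohB1.tensorPow L c),
      x ∈ CohB1.genLocus _ g ∧ ∀ z ∈ Z, z ∉ CohB1.genLocus _ g := by
  classical
  induction Z using Finset.induction_on with
  | empty =>
    refine ⟨0, (𝟙 (Coh.structureModule X) : Coh.structureModule X ⟶ CohB1.tensorPow L 0), ?_, by simp⟩
    have : x ∈ (⊤ : X.Opens) := trivial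
    refine (le_genLocus_iff (M := CohB1.tensorPow L 0) _ (⊤ : X.Opens)).2 ?_ this
    exact isGen_one ⊤
  | insert z Z _ ih =>
    obtain ⟨c, g, hxg, hg⟩ := ih (fun w hw => h w (Finset.mem_insert_of_mem hw))
    obtain ⟨k, s, hxs, hzs⟩ := h z (Finset.mem_insert_self _ _)
    refine ⟨c + k, mulSec g s, ?_, ?_⟩
    · rw [genLocus_mulSec hL]
      exact ⟨hxg, hxs⟩
    · intro w hw hwg
      rw [genLocus_mulSec hL] at hwg
      rcases Finset.mem_insert.1 hw with rfl | hw
      · exact hzs hwg.2
      · exact hg w hw hwg.1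

/-- If `L` has, at each point of a finite set, a section not vanishing there, then all large powers of
`L` have a section non-vanishing at every point of the set. -/
theorem exists_sec_pow (hL : PicF.IsInvertible L) (Z : Finset X)
    (hZ : ∀ x ∈ Z, ∃ a : Coh.structureModule X ⟶ L, x ∈ CohB1.genLocus L a) :
    ∃ k₀ : ℕ, ∀ k : ℕ, k₀ ≤ k → ∃ s : Coh.structureModule X ⟶ CohB1.tensorPow L k,
      (Z : Set X) ⊆ CohB1.genLocus _ s := by
  classical
  induction hn : Z.card generalizing Z with
  | zero =>
    rw [Finset.card_eq_zero] at hn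
    subst hn
    exact ⟨0, fun k _ => ⟨0, by simp⟩⟩
  | succ n ih =>
    have hne : Z.Nonempty := by
      rw [← Finset.card_pos, hn]; exact Nat.succ_pos n
    -- `x ≤ z` iff every section non-vanishing at `z` does not vanish at `x`
    let _ : Preorder X :=
      { le := fun x z => ∀ (k : ℕ) (s : Coh.structureModule X ⟶ CohB1.tensorPow L k),
          z ∈ CohB1.genLocus _ s → x ∈ CohB1.genLocus _ s
        lt := fun x z => (∀ (k : ℕ) (s : Coh.structureModule X ⟶ CohB1.tensorPow L k),
          z ∈ CohB1.genLocus _ s → x ∈ CohB1.genLocus _ s) ∧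
          ¬ (∀ (k : ℕ) (s : Coh.structureModule X ⟶ CohB1.tensorPow L k),
          x ∈ CohB1.genLocus _ s → z ∈ CohB1.genLocus _ s)
        le_refl := fun x k s h => h
        le_trans := fun x y z h1 h2 k s h => h1 k s (h2 k s h)
        lt_iff_le_not_ge := fun _ _ => Iff.rfl }
    obtain ⟨x, hxZ, hx⟩ := Z.exists_minimal hne
    obtain ⟨k₀, hk₀⟩ := ih (Z.erase x) (fun z hz => hZ z (Finset.mem_of_mem_erase hz))
      (by rw [Finset.card_erase_of_mem hxZ, hn]; rfl)
    by_cases hcase : ∃ z ∈ Z.erase x, z ≤ x
    · obtain ⟨z, hz, hzx⟩ := hcase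
      have hxz : x ≤ z := hx (Finset.mem_of_mem_erase hz) hzx
      refine ⟨k₀, fun k hk => ?_⟩
      obtain ⟨s, hs⟩ := hk₀ k hk
      refine ⟨s, fun w hw => ?_⟩
      by_cases hwx : w = x
      · subst hwx
        exact hxz k s (hs hz)
      · exact hs (Finset.mem_erase.2 ⟨hwx, hw⟩)
    · push Not at hcase
      have hv : ∀ z ∈ Z.erase x, ∃ (k : ℕ) (s : Coh.structureModule X ⟶ CohB1.tensorPow L k),
          x ∈ CohB1.genLocus _ s ∧ z ∉ CohB1.genLocus _ s := by
        intro z hz
        have := hcase z hz
        by_contra hcon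
        push Not at hcon
        exact this (fun k s hs => hcon k s hs)
      obtain ⟨c, g, hxg, hg⟩ := exists_vanish hL x (Z.erase x) hv
      obtain ⟨a, ha⟩ := hZ x hxZ
      refine ⟨max k₀ c, fun k hk => ?_⟩
      obtain ⟨t, ht⟩ := hk₀ k (le_trans (le_max_left _ _) hk)
      have hck : c + (k - c) = k := Nat.add_sub_cancel' (le_trans (le_max_right _ _) hk)
      by_cases hxt : x ∈ CohB1.genLocus _ t
      · refine ⟨t, fun w hw => ?_⟩
        by_cases hwx : w = x
        · subst hwx; exact hxt
        · exact ht (Finset.mem_erase.2 ⟨hwx, hw⟩)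
      · let b : Coh.structureModule X ⟶ CohB1.tensorPow L k :=
          castSec hck (mulSec g (Weight.powHom a (k - c)))
        have hb : CohB1.genLocus _ b = CohB1.genLocus _ g ⊓ CohB1.genLocus _ (Weight.powHom a (k - c)) := by
          rw [genLocus_castSec, genLocus_mulSec hL]
        have hxa : x ∈ CohB1.genLocus _ (Weight.powHom a (k - c)) := by
          rcases Nat.eq_zero_or_pos (k - c) with h0 | h0
          · rw [h0]
            have : x ∈ (⊤ : X.Opens) := trivial
            refine (le_genLocus_iff (M := CohB1.tensorPow L 0) _ (⊤ : X.Opens)).2 ?_ this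
            rw [Weight.sec_powHom]
            exact isGen_one ⊤
          · rw [Weight.genLocus_powHom hL a h0]
            exact ha
        have hxb : x ∈ CohB1.genLocus _ b := by rw [hb]; exact ⟨hxg, hxa⟩
        have hinv := isInvertible_tensorPow hL k
        refine ⟨b + t, fun w hw => ?_⟩
        by_cases hwx : w = x
        · subst hwx
          exact FiniteSet.mem_genLocus_add hinv b t hxb hxt
        · have hw' : w ∈ Z.erase x := Finset.mem_erase.2 ⟨hwx, hw⟩
          have h1 : w ∈ CohB1.genLocus _ t := ht hw'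
          have h2 : w ∉ CohB1.genLocus _ b := by
            rw [hb]; exact fun h => hg w hw' h.1
          rw [add_comm]
          exact FiniteSet.mem_genLocus_add hinv t b h1 h2

end K878.SecAvoid
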