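import Groth.Agent.IntSh.K878.KSup
import Groth.Agent.IntSh.K878.Cap
import Groth.Agent.IntSh.K878.SecAvoid
import Groth.Agent.IntSh.K878.DimCut
import Groth.Agent.IntSh.K878.LocGen
import Groth.Agent.Fga.RegSec
import Groth.Agent.Ega3B.TensRestrict
import Groth.Agent.Fga.SnapperTwist

/-!
# Multiplication by sections of high powers lowers the dimension of supports
-/

set_option autoImplicit false
universe u
open CategoryTheory CategoryTheory.Limits AlgebraicGeometry Opposite TopologicalSpace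
open AlgebraicGeometry.Scheme.Modules
open Groth.Agent Groth.Agent.Sga67 Groth.Agent.Sga67.CohBasic
open Groth.Agent.CohqB.DevSupport

namespace K878.Drop

open K878.KSup K878.Cap

variable {X : Scheme.{u}}

open Fdesc.LocGen in
theorem isInvertible_restrict {A : Scheme.{u}} (j : A ⟶ X) [IsOpenImmersion j] {L : X.Modules}
    (hL : PicF.IsInvertible L) : PicF.IsInvertible (L.restrict j) := by
  rw [isInvertible_iff] at hL ⊢
  intro a
  obtain ⟨W, e, haW, he⟩ := hL (j a)
  exact ⟨j ⁻¹ᵁ W, toRestrict j (res L (j.image_preimage_le W) e), haW,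
    (isGen_toRestrict_iff j _).mpr (he.res _)⟩

variable [AlgebraicGeometry.IsNoetherian X]

theorem exists_drop (V : X.Opens) {L : X.Modules} (hL : PicF.IsInvertible L)
    (hgen : Curv2.IsGloballyGenerated (L.restrict V.ι)) {G : X.Modules} (hG : Coh.IsCoh G)
    (F₀ : Set X) (hF₀ : F₀ ⊆ V) (m : ℕ)
    (hm : topologicalKrullDim ↥(CohB1.support G ∩ F₀) < ((m + 1 : ℕ) : WithBot ℕ∞)) :
    ∃ k₀ : ℕ, ∀ k : ℕ, k₀ ≤ k → ∃ C K : X.Modules, Coh.IsCoh C ∧ Coh.IsCoh K ∧
      topologicalKrullDim ↥(CohB1.support C ∩ F₀) < (m : WithBot ℕ∞) ∧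
      topologicalKrullDim ↥(CohB1.support K ∩ F₀) < (m : WithBot ℕ∞) ∧
      (KDet.clc X (CohB1.tensorMod (CohB1.tensorPow L k) G) - KDet.clc X G) -
        (KDet.clc X C - KDet.clc X K) ∈ ksup X (V : Set X)ᶜ := by
  classical
  let W : Set X := CohB1.support G ∩ F₀
  have hfin : (irreducibleComponents W).Finite := NoetherianSpace.finite_irreducibleComponents
  have hpt : ∀ Z : Set W, Z ∈ irreducibleComponents W → ∃ v : V, ∃ z ∈ Z, V.ι v = (z : X) := by
    intro Z hZ
    obtain ⟨z, hz⟩ := hZ.1.nonempty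
    exact ⟨⟨z.1, hF₀ z.2.2⟩, z, hz, rfl⟩
  have : Finite (irreducibleComponents W) := hfin
  choose v hv using (fun Z : irreducibleComponents W => hpt Z.1 Z.2)
  let Z : Finset V := (Set.finite_range v).toFinset
  have hLV : PicF.IsInvertible (L.restrict V.ι) := isInvertible_restrict V.ι hL
  obtain ⟨k₀, hk₀⟩ := SecAvoid.exists_sec_pow (X := V.toScheme) hLV Z
    (fun x _ => VarietyB.GenLocusTensor.exists_mem_genLocus hLV hgen x)
  refine ⟨k₀, fun k hk => ?_⟩
  obtain ⟨s, hs⟩ := hk₀ k hk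
  obtain ⟨e⟩ := Ega3B.TensRestrict.restrictPowIso (j := V.ι) L k
  have hT : Coh.IsCoh (CohB1.tensorMod (CohB1.tensorPow L k) G) :=
    Fga.SnapperTwist.isCoh_tensor' (Fdesc.LocGen.isInvertible_tensorPow hL k) hG
  let i : (restrictFunctor V.ι).obj (CohB1.tensorMod (CohB1.tensorPow L k) G) ≅
      CohB1.tensorMod (CohB1.tensorPow (L.restrict V.ι) k) (G.restrict V.ι) :=
    Ega3B.TensRestrict.restrictIso (j := V.ι) (M := CohB1.tensorPow L k) (N := G) ≪≫
      PicGrp.tensorModIso e (Iso.refl _)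
  let f : (restrictFunctor V.ι).obj G ⟶
      (restrictFunctor V.ι).obj (CohB1.tensorMod (CohB1.tensorPow L k) G) :=
    Fga.RegSec.mulS s (G.restrict V.ι) ≫ i.inv
  obtain ⟨C, K, hC, hK, ⟨eC⟩, ⟨eK⟩, hrel⟩ := exists_rel V.ι hG hT f
  have hrange : Set.range V.ι = (V : Set X) := V.range_ι
  rw [hrange] at hrel
  let O : Set X := V.ι '' (CohB1.genLocus _ s : Set V)
  have hO : IsOpen O := V.ι.isOpenEmbedding.isOpenMap _ (CohB1.genLocus _ s).isOpen
  have hcomp : ∀ Z' ∈ irreducibleComponents W, ∃ z ∈ Z', (z : X) ∈ O := by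
    intro Z' hZ'
    obtain ⟨z, hz, hz'⟩ := hv ⟨Z', hZ'⟩
    refine ⟨z, hz, v ⟨Z', hZ'⟩, ?_, hz'⟩
    exact hs (by
      have h0 : v ⟨Z', hZ'⟩ ∈ Z := (Set.finite_range v).mem_toFinset.2 ⟨⟨Z', hZ'⟩, rfl⟩
      exact h0)
  have hstalk : ∀ w : V, w ∈ CohB1.genLocus _ s → IsIso ((stalkF V.toScheme w).map f) := by
    intro w hw
    have h1 := Fga.RegSec.isIso_stalk_mulS s (G.restrict V.ι) hw
    have h2 : (stalkF V.toScheme w).map f =
      (stalkF V.toScheme w).map (Fga.RegSec.mulS s (G.restrict V.ι)) ≫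
        (stalkF V.toScheme w).map i.inv := Functor.map_comp _ _ _
    rw [h2]
    infer_instance
  have hsuppG : ∀ w : V, w ∈ CohB1.support (G.restrict V.ι) → V.ι w ∈ CohB1.support G := by
    intro w hw
    rw [Groth.Agent.PerfC.Supp.support_restrict V.ι G] at hw
    exact hw
  have key : ∀ (M : X.Modules) (N : V.toScheme.Modules), ((restrictFunctor V.ι).obj M ≅ N) →
      (∀ w : V, w ∈ CohB1.support N → w ∈ CohB1.support (G.restrict V.ι) ∧ w ∉ CohB1.genLocus _ s) →
      CohB1.support M ∩ F₀ ⊆ W \ O := by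
    rintro M N eM hN x ⟨hxM, hxF⟩
    have hxV : x ∈ V := hF₀ hxF
    let w : V := ⟨x, hxV⟩
    have hw : w ∈ CohB1.support ((restrictFunctor V.ι).obj M) := by
      have : CohB1.support ((restrictFunctor V.ι).obj M) = V.ι ⁻¹' CohB1.support M :=
        Groth.Agent.PerfC.Supp.support_restrict V.ι M
      rw [this]; exact hxM
    have hw' : w ∈ CohB1.support N := Ega3B.Devissage.support_subset_of_mono eM.hom hw
    obtain ⟨h1, h2⟩ := hN w hw'
    refine ⟨⟨hsuppG w h1, hxF⟩, ?_⟩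
    rintro ⟨w', hw', hww⟩
    have : w' = w := Subtype.ext hww
    subst this
    exact h2 hw'
  have hCsub : CohB1.support C ∩ F₀ ⊆ W \ O := by
    refine key C _ eC fun w hw => ⟨?_, fun hg => ?_⟩
    · have h1 := Ega3B.Devissage.support_subset_of_epi (cokernel.π f) hw
      have h2 := Ega3B.Devissage.support_subset_of_mono i.hom h1
      exact support_tensor_right _ _ h2
    · have := hstalk w hg
      exact Fga.RegSec.not_mem_support_cokernel f inferInstance hw
  have hKsub : CohB1.support K ∩ F₀ ⊆ W \ O := by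
    refine key K _ eK fun w hw => ⟨?_, fun hg => ?_⟩
    · exact Ega3B.Devissage.support_subset_of_mono (kernel.ι f) hw
    · exact Fga.RegSec.not_mem_support_kernel f (hstalk w hg) hw
  exact ⟨C, K, hC, hK, DimCut.dim_lt_of_forall hO hCsub hcomp m hm,
    DimCut.dim_lt_of_forall hO hKsub hcomp m hm, hrel⟩

end K878.Drop
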