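import Groth.Agent.IntSh.K878.FibFil
import Groth.Agent.Fdesc.SubFilt

/-!
# Regular sections of powers of a relatively generated module; lowering by `[L] - 1`
-/

set_option autoImplicit false
universe u
open CategoryTheory CategoryTheory.Limits AlgebraicGeometry Opposite TopologicalSpace
open AlgebraicGeometry.Scheme.Modules
open Groth.Agent Groth.Agent.Sga67 Groth.Agent.Sga67.CohBasic
open Groth.Agent.CohqB.DevSupport

namespace K878.DropMono

open K878.KSup K878.Cap K878.FibDelta K878.CapEx K878.DeltaMem K878.DropPt K878.FibFil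

variable {P Y : Scheme.{u}} [AlgebraicGeometry.IsNoetherian P]

theorem exists_drop_mono (ψ : P ⟶ Y) [LocallyOfFiniteType ψ] (y : Y) (V : P.Opens)
    (hV : ∀ x, ψ x = y → x ∈ V) {L : P.Modules} (hL : PicF.IsInvertible L)
    (hgen : Curv2.IsGloballyGenerated (L.restrict V.ι)) {G : P.Modules} (hG : Coh.IsCoh G) {m : ℤ}
    (hm : CohB1.support G ⊆ T ψ y (dl ψ) m) :
    ∃ k₀ : ℕ, ∀ k : ℕ, k₀ ≤ k → ∃ C : P.Modules, Coh.IsCoh C ∧
      CohB1.support C ⊆ T ψ y (dl ψ) (m - 1) ∧
      (KDet.clc P (CohB1.tensorMod (CohB1.tensorPow L k) G) - KDet.clc P G) - KDet.clc P C ∈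
        ksup P (V : Set P)ᶜ := by
  classical
  have hVn : IsNoetherian V.toScheme := isNoetherian_of_isOpenImmersion V.ι
  have hGV : Coh.IsCoh (G.restrict V.ι) := isCoh_restrict V.ι G hG
  obtain ⟨S, hS, hS'⟩ := exists_finset (B := Y) (fun z : V.toScheme => ψ (V.ι z))
    (ψ.continuous.comp V.ι.continuous) y (C := (V.ι : V.toScheme → P) ⁻¹' CohB1.support G)
    ((Ega3B.Devissage.isClosed_support hG).preimage V.ι.continuous)
  have hfin : (AssSch.Ass (G.restrict V.ι)).Finite := Fdesc.SubFilt.finite_ass hGV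
  let Z : Finset V.toScheme := S ∪ hfin.toFinset
  have hLV : PicF.IsInvertible (L.restrict V.ι) := Drop.isInvertible_restrict V.ι hL
  obtain ⟨k₀, hk₀⟩ := SecAvoid.exists_sec_pow (X := V.toScheme) hLV Z
    (fun x _ => VarietyB.GenLocusTensor.exists_mem_genLocus hLV hgen x)
  refine ⟨k₀, fun k hk => ?_⟩
  obtain ⟨s, hs⟩ := hk₀ k hk
  obtain ⟨e⟩ := Ega3B.TensRestrict.restrictPowIso (j := V.ι) L k
  have hT : Coh.IsCoh (CohB1.tensorMod (CohB1.tensorPow L k) G) :=
    Fga.SnapperTwist.isCoh_tensor' (Fdesc.LocGen.isInvertible_tensorPow hL k) hG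
  have hTV : Coh.IsCoh (CohB1.tensorMod (CohB1.tensorPow (L.restrict V.ι) k) (G.restrict V.ι)) :=
    Fga.SnapperTwist.isCoh_tensor' (Fdesc.LocGen.isInvertible_tensorPow hLV k) hGV
  let i : (restrictFunctor V.ι).obj (CohB1.tensorMod (CohB1.tensorPow L k) G) ≅
      CohB1.tensorMod (CohB1.tensorPow (L.restrict V.ι) k) (G.restrict V.ι) :=
    Ega3B.TensRestrict.restrictIso (j := V.ι) (M := CohB1.tensorPow L k) (N := G) ≪≫
      PicGrp.tensorModIso e (Iso.refl _)
  let f : (restrictFunctor V.ι).obj G ⟶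
      (restrictFunctor V.ι).obj (CohB1.tensorMod (CohB1.tensorPow L k) G) :=
    Fga.RegSec.mulS s (G.restrict V.ι) ≫ i.inv
  have hmono : Mono (Fga.RegSec.mulS s (G.restrict V.ι)) := by
    refine Fga.RegSec.mulS_mono s _ hGV (isCoh_kernel _ hGV hTV.1).1 ?_
    intro x hx
    refine hs ?_
    exact Finset.mem_coe.2 (Finset.mem_union_right _ (hfin.mem_toFinset.2 hx))
  have hf : Mono f := mono_comp _ _
  obtain ⟨C, K, hC, hK, ⟨eC⟩, ⟨eK⟩, hrel⟩ := exists_rel V.ι hG hT f
  have hrange : Set.range V.ι = (V : Set P) := V.range_ι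
  rw [hrange] at hrel
  have hK0 : KDet.clc P K ∈ ksup P (V : Set P)ᶜ := by
    refine clc_mem fun _ => ?_
    rw [← hrange]
    refine (isZero_restrict_iff V.ι K).1 ?_
    exact IsZero.of_iso (isZero_kernel_of_mono f) eK
  refine ⟨C, hC, ?_, ?_⟩
  · intro x hxC hxy
    have hxV : x ∈ V := hV x hxy
    let w : V.toScheme := ⟨x, hxV⟩
    have hw : w ∈ CohB1.support ((restrictFunctor V.ι).obj C) := by
      have : CohB1.support ((restrictFunctor V.ι).obj C) = V.ι ⁻¹' CohB1.support C :=
        Groth.Agent.PerfC.Supp.support_restrict V.ι C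
      rw [this]; exact hxC
    have hw' : w ∈ CohB1.support (cokernel f) := Ega3B.Devissage.support_subset_of_mono eC.hom hw
    have hwG : w ∈ CohB1.support (G.restrict V.ι) := by
      have h1 := Ega3B.Devissage.support_subset_of_epi (cokernel.π f) hw'
      have h2 := Ega3B.Devissage.support_subset_of_mono i.hom h1
      exact support_tensor_right _ _ h2
    have hwG' : w ∈ (V.ι : V.toScheme → P) ⁻¹' CohB1.support G := by
      rw [Groth.Agent.PerfC.Supp.support_restrict V.ι G] at hwG
      exact hwG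
    have hwg : w ∉ CohB1.genLocus _ s := by
      intro hg
      have h1 := Fga.RegSec.isIso_stalk_mulS s (G.restrict V.ι) hg
      have h2 : (stalkF V.toScheme w).map f =
        (stalkF V.toScheme w).map (Fga.RegSec.mulS s (G.restrict V.ι)) ≫
          (stalkF V.toScheme w).map i.inv := Functor.map_comp _ _ _
      have h3 : IsIso ((stalkF V.toScheme w).map f) := by
        rw [h2]
        infer_instance
      exact Fga.RegSec.not_mem_support_cokernel f inferInstance hw'
    obtain ⟨z, hz, hzw⟩ := hS' w hwG' hxy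
    obtain ⟨hzG, hzy⟩ := hS z hz
    have hne : z ≠ w := by
      rintro rfl
      exact hwg (hs (Finset.mem_coe.2 (Finset.mem_union_left _ hz)))
    have h3 := dec ψ y (V.ι w) (V.ι z) hxy hzy (hzw.map V.ι.continuous)
      (fun e => hne (V.ι.isOpenEmbedding.injective e))
    have h4 := hm hzG hzy
    change (dl ψ (V.ι w) : ℤ) ≤ m - 1
    omega
  · have h5 := add_mem hrel (neg_mem hK0)
    have h6 : (KDet.clc P (CohB1.tensorMod (CohB1.tensorPow L k) G) - KDet.clc P G) - KDet.clc P C =
        KDet.clc P (CohB1.tensorMod (CohB1.tensorPow L k) G) - KDet.clc P G -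
          (KDet.clc P C - KDet.clc P K) + -KDet.clc P K := by abel
    rw [h6]
    exact h5

end K878.DropMono
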