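import Groth.Agent.IntSh.K878.PBUnit
import Groth.Agent.IntSh.K878.CapEx
import Groth.Agent.Krr.H485.PushCoh
import Groth.Agent.Krr.H483.PBTop

/-!
# `π^*` and `π_*` on `K_•` for a projective bundle
-/

set_option autoImplicit false
universe u

open CategoryTheory CategoryTheory.Limits AlgebraicGeometry Opposite TopologicalSpace

namespace K878.PBPush

open Groth.Agent Groth.Agent.Krr.H471.ChartVan Groth.Agent.Krr.H471.ChartTwist
  Groth.Agent.Krr.H471.PBTwist K878.CapEx K878.KSup Groth.Agent.Sga67.K0Basic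

/-! ### Flat pull-back -/

section pull

variable {P S : Scheme.{u}} (π : P ⟶ S) [hf : Flat π]

/-- Flat pull-back on `K_•`. -/
noncomputable def pull : SGA6.Kcoh S →+ SGA6.Kcoh P :=
  have : PreservesFiniteLimits (Scheme.Modules.pullback π) :=
    Sga67.FlatPre.preservesFiniteLimits_pullback _
  SGA6.mapSub (Scheme.Modules.pullback π) (fun M : S.Modules => Coh.IsCoh M)
    (fun M : P.Modules => Coh.IsCoh M) (fun M hM => FormalA.PullbackQC.isCoh_pullback π M hM)

theorem pull_clc {G : S.Modules} (hG : Coh.IsCoh G) :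
    pull π (KDet.clc S G) = KDet.clc P ((Scheme.Modules.pullback π).obj G) := by
  rw [clc_eq_mk hG, clc_eq_mk (FormalA.PullbackQC.isCoh_pullback π G hG)]
  unfold pull
  rw [Groth.Agent.Sga67.K0Loc.mapSub_mk]

variable [AlgebraicGeometry.IsLocallyNoetherian P] [AlgebraicGeometry.IsLocallyNoetherian S]

/-- `π^* (V · ξ) = π^* V · π^* ξ`. -/
theorem pull_cap {V : S.Modules} (hV : FlatMod.IsFinLocFree V) (ξ : SGA6.Kcoh S) :
    pull π (capHom S (KRR.cl S V) ξ) =
      capHom P (KRR.cl P ((Scheme.Modules.pullback π).obj V)) (pull π ξ) := by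
  have h : (pull π).comp (capHom S (KRR.cl S V)) =
      (capHom P (KRR.cl P ((Scheme.Modules.pullback π).obj V))).comp (pull π) := by
    refine hom_ext_sub fun G hG => ?_
    change pull π (capHom S (KRR.cl S V) (KDet.clc S G)) = capHom P _ (pull π (KDet.clc S G))
    rw [capHom_cl hV hG, pull_clc π hG, pull_clc π (isCoh_tb (isCoh_flf hV) hG),
      capHom_cl (PerfB.FlatPull.isFinLocFree_pullback π hV) (FormalA.PullbackQC.isCoh_pullback π G hG)]
    exact clc_congr (Groth.Agent.Krr.H482.PullTens.pullTensorIso π V G)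
  exact DFunLike.congr_fun h ξ

end pull

/-! ### Push-forward -/

section push

variable {P S : Scheme.{u}} [AlgebraicGeometry.IsLocallyNoetherian S] {r : ℕ} {π : P ⟶ S} [IsProper π]
  {O1 : P.Modules}

/-- `π_*` on `K_•` for a projective bundle. -/
noncomputable def push (hT : IsTwist r π O1 1) : SGA6.Kcoh P →+ SGA6.Kcoh S :=
  Groth.Agent.Krr.H485.PushCoh.pushCoh π r fun _ hF q hq => PBVan.isZero_Rpush_gt hT hF.1 q hq

theorem isPushCoh_push (hT : IsTwist r π O1 1) : KRR.IsPushCoh π r (push hT) :=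
  Groth.Agent.Krr.H485.PushCoh.isPushCoh_pushCoh _ _ _

/-- `π_* π^* ξ = ξ`. -/
theorem push_pull [CompactSpace S] [Flat π] {E : S.Modules} (hE : FlatMod.IsFinLocFreeOfRank (r + 1) E)
    {q : (Scheme.Modules.pullback π).obj E ⟶ O1} (B : KRR.IsProjBundle π E O1 q)
    (hT : IsTwist r π O1 1) (ξ : SGA6.Kcoh S) : push hT (pull π ξ) = ξ := by
  have h : (push hT).comp (pull π) = AddMonoidHom.id _ := by
    refine hom_ext_sub fun G hG => ?_
    change push hT (pull π (KDet.clc S G)) = KDet.clc S G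
    rw [pull_clc π hG]
    have h1 := Groth.Agent.Krr.H485.PushCoh.pushCoh_clSub_of_acyclic π r
      (fun _ hF q hq => PBVan.isZero_Rpush_gt hT hF.1 q hq) (FormalA.PullbackQC.isCoh_pullback π G hG)
      (fun q hq => PBUnit.isZero_Rpush_pullback (PBUnit.isInvertible_O1 B) hT hG q hq)
    refine Eq.trans h1 ?_
    have := PBUnit.isIso_unit hE B hG
    exact (clc_congr (asIso ((Scheme.Modules.pullbackPushforwardAdjunction π).unit.app G))).symm
  exact DFunLike.congr_fun h ξ

/-- The action of a class of bundles as an endomorphism. -/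
noncomputable def opE {P : Scheme.{u}} [AlgebraicGeometry.IsLocallyNoetherian P] (N : P.Modules) :
    AddMonoid.End (SGA6.Kcoh P) := capHom P (KRR.cl P N)

theorem opE_pow [AlgebraicGeometry.IsLocallyNoetherian P] {N : P.Modules} (hN : FlatMod.IsFinLocFree N)
    {F : P.Modules} (hF : Coh.IsCoh F) (k : ℕ) :
    (opE N ^ k) (KDet.clc P F) = KDet.clc P ((tb (W N k)).obj F) := by
  induction k with
  | zero =>
    rw [pow_zero]
    exact (clc_congr (Groth.Agent.Ega2.Tens.lunit F)).symm
  | succ k ih =>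
    rw [pow_succ']
    change opE N ((opE N ^ k) (KDet.clc P F)) = _
    rw [ih]
    change capHom P (KRR.cl P N) _ = _
    rw [capHom_cl hN (isCoh_tb (isCoh_flf (isFinLocFree_W hN k)) hF)]
    exact (clc_congr (Groth.Agent.Ega2.Tens.assoc N (W N k) F)).symm

/-- `π_* (O(-k) · π^* ξ) = 0` for `1 ≤ k ≤ r`. -/
theorem push_neg [AlgebraicGeometry.IsLocallyNoetherian P] [Flat π] (hT : IsTwist r π O1 1) {N : P.Modules}
    (hN : FlatMod.IsFinLocFree N)
    (i : ((DCoh.tensorBi (X := P)).obj O1).obj N ≅ Coh.structureModule P) (k : ℕ) (h1 : 1 ≤ k) (h2 : k ≤ r)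
    (ξ : SGA6.Kcoh S) : push hT ((opE N ^ k) (pull π ξ)) = 0 := by
  have h : (push hT).comp ((show SGA6.Kcoh P →+ SGA6.Kcoh P from opE N ^ k).comp (pull π)) = 0 := by
    refine hom_ext_sub fun G hG => ?_
    change push hT ((opE N ^ k) (pull π (KDet.clc S G))) = 0
    rw [pull_clc π hG, opE_pow hN (FormalA.PullbackQC.isCoh_pullback π G hG)]
    have h3 := (isPushCoh_push hT).2 _ (isCoh_tb (isCoh_flf (isFinLocFree_W hN k))
      (FormalA.PullbackQC.isCoh_pullback π G hG))
    refine Eq.trans h3 (Finset.sum_eq_zero fun p _ => ?_)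
    have h4 := PBVan.isZero_Rpush (isTwist_W hT i k) (isFinLocFree_W hN k) hG p (Or.inr ⟨by omega, by omega⟩)
    have h5 : KDet.clc S ((Coh.Rpush π p).obj ((tb (W N k)).obj ((Scheme.Modules.pullback π).obj G))) = 0 :=
      clc_isZero h4
    exact (congrArg ((-1 : ℤ) ^ p • ·) h5).trans (smul_zero _)
  exact DFunLike.congr_fun h ξ

end push

end K878.PBPush
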