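import Groth.Agent.IntSh.K878.SupRes
import Groth.Agent.IntSh.K878.SecAvoid
import Groth.Agent.IntSh.K878.PBPush
import Groth.Agent.IntSh.K878.DeltaMem
import Groth.Agent.VarietyB.GenLocusTensor
import Groth.Agent.Fga.RegSec
import Groth.Agent.Fga.SnapperTwist

/-!
# `[L] - 1` lowers the support filtration of a fibre for `L` globally generated
-/

set_option autoImplicit false
universe u
open CategoryTheory CategoryTheory.Limits AlgebraicGeometry Opposite TopologicalSpace
open AlgebraicGeometry.Scheme.Modules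
open Groth.Agent Groth.Agent.Sga67 Groth.Agent.Sga67.CohBasic
open Groth.Agent.CohqB.DevSupport

namespace K878.DropPt

/-- Finitely many maximal points of `C ∩ q⁻¹(b)`. -/
theorem exists_finset {Z B : Type*} [TopologicalSpace Z] [TopologicalSpace B] [NoetherianSpace Z]
    [QuasiSober Z] [T0Space B] (q : Z → B) (hq : Continuous q) (b : B) {C : Set Z} (hC : IsClosed C) :
    ∃ S : Finset Z, (∀ s ∈ S, s ∈ C ∧ q s = b) ∧ ∀ z ∈ C, q z = b → ∃ s ∈ S, s ⤳ z := by
  classical
  let W : Set Z := C ∩ q ⁻¹' {b}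
  have hfin : (irreducibleComponents W).Finite := NoetherianSpace.finite_irreducibleComponents
  have hpt : ∀ Z' : Set W, Z' ∈ irreducibleComponents W →
      ∃ s : Z, (s ∈ C ∧ q s = b) ∧ ∀ z ∈ Z', s ⤳ (z : Z) := by
    intro Z' hZ'
    have hirr : IsIrreducible (closure ((Subtype.val : W → Z) '' Z')) :=
      (hZ'.1.image _ continuous_subtype_val.continuousOn).closure
    obtain ⟨s, hs⟩ := QuasiSober.sober hirr isClosed_closure
    have hsp : ∀ z ∈ Z', s ⤳ (z : Z) := by
      intro z hz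
      refine hs.specializes ?_
      exact subset_closure ⟨z, hz, rfl⟩
    have hmem : s ∈ closure ((Subtype.val : W → Z) '' Z') := hs.mem
    have hsC : s ∈ C := by
      refine closure_minimal ?_ hC hmem
      rintro _ ⟨z, _, rfl⟩
      exact z.2.1
    have h1 : b ⤳ q s := by
      rw [specializes_iff_mem_closure]
      have : s ∈ q ⁻¹' (closure {b}) := by
        refine closure_minimal ?_ (isClosed_closure.preimage hq) hmem
        rintro _ ⟨z, _, rfl⟩
        exact subset_closure z.2.2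
      exact this
    obtain ⟨z, hz⟩ := hZ'.1.nonempty
    have h2 : q s ⤳ b := by
      have := (hsp z hz).map hq
      rwa [z.2.2] at this
    exact ⟨s, ⟨hsC, (h2.antisymm h1).eq⟩, hsp⟩
  have : Finite (irreducibleComponents W) := hfin
  choose v hv hv' using (fun Z' : irreducibleComponents W => hpt Z'.1 Z'.2)
  refine ⟨(Set.finite_range v).toFinset, ?_, ?_⟩
  · intro s hs
    obtain ⟨Z', rfl⟩ := (Set.finite_range v).mem_toFinset.1 hs
    exact hv Z'
  · intro z hz hzb
    let w : W := ⟨z, hz, hzb⟩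
    obtain ⟨Z', hZ', hle⟩ := exists_mem_irreducibleComponents_subset_of_isIrreducible
      ({w} : Set W) isIrreducible_singleton
    exact ⟨v ⟨Z', hZ'⟩, (Set.finite_range v).mem_toFinset.2 ⟨_, rfl⟩, hv' ⟨Z', hZ'⟩ w (hle rfl)⟩

open K878.KSup K878.Cap K878.CapEx K878.DeltaMem

variable {Z B : Scheme.{u}} (q : Z ⟶ B) (b : B) (δ : Z → ℕ)

/-- The sets of the support filtration of the fibre over `b`. -/
def T (m : ℤ) : Set Z := {z | q z = b → (δ z : ℤ) ≤ m}

/-- `δ` is strictly decreasing under proper specialization in the fibre over `b`. -/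
def Dec : Prop := ∀ x x' : Z, q x = b → q x' = b → x' ⤳ x → x' ≠ x → δ x < δ x'

variable {q b δ} [AlgebraicGeometry.IsNoetherian Z]

theorem exists_pow_sub_mem (hδ : Dec q b δ) {L : Z.Modules} (hL : PicF.IsInvertible L)
    (hgen : Curv2.IsGloballyGenerated L) {G : Z.Modules} (hG : Coh.IsCoh G) {m : ℤ}
    (hm : CohB1.support G ⊆ T q b δ m) :
    ∃ k₀ : ℕ, ∀ k : ℕ, k₀ ≤ k →
      KDet.clc Z (CohB1.tensorMod (CohB1.tensorPow L k) G) - KDet.clc Z G ∈ ksup Z (T q b δ (m - 1)) := by
  classical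
  obtain ⟨S, hS, hS'⟩ := exists_finset (B := B) (fun z : Z => q z) q.continuous b
    (Ega3B.Devissage.isClosed_support hG)
  obtain ⟨k₀, hk₀⟩ := SecAvoid.exists_sec_pow (X := Z) hL S
    (fun x _ => VarietyB.GenLocusTensor.exists_mem_genLocus hL hgen x)
  refine ⟨k₀, fun k hk => ?_⟩
  obtain ⟨s, hs⟩ := hk₀ k hk
  have hT : Coh.IsCoh (CohB1.tensorMod (CohB1.tensorPow L k) G) :=
    Fga.SnapperTwist.isCoh_tensor' (Fdesc.LocGen.isInvertible_tensorPow hL k) hG
  rw [clc_sub_clc (Fga.RegSec.mulS s G) hG hT]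
  have key : ∀ M : Z.Modules, (∀ z ∈ CohB1.support M, z ∈ CohB1.support G ∧ z ∉ CohB1.genLocus _ s) →
      CohB1.support M ⊆ T q b δ (m - 1) := by
    intro M hM z hz hzb
    obtain ⟨h1, h2⟩ := hM z hz
    obtain ⟨w, hw, hwz⟩ := hS' z h1 hzb
    obtain ⟨hwG, hwb⟩ := hS w hw
    have hne : w ≠ z := by
      rintro rfl
      exact h2 (hs hw)
    have h3 := hδ z w hzb hwb hwz hne
    have h4 := hm hwG hwb
    omega
  refine sub_mem (clc_mem fun _ => key _ fun z hz => ⟨?_, fun hg => ?_⟩)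
    (clc_mem fun _ => key _ fun z hz => ⟨?_, fun hg => ?_⟩)
  · have h1 := Ega3B.Devissage.support_subset_of_epi (cokernel.π (Fga.RegSec.mulS s G)) hz
    exact support_tensor_right _ _ h1
  · have := Fga.RegSec.isIso_stalk_mulS s G hg
    exact Fga.RegSec.not_mem_support_cokernel (Fga.RegSec.mulS s G) inferInstance hz
  · exact Ega3B.Devissage.support_subset_of_mono (kernel.ι (Fga.RegSec.mulS s G)) hz
  · exact Fga.RegSec.not_mem_support_kernel _ (Fga.RegSec.isIso_stalk_mulS s G hg) hz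

theorem opE_inv {L N : Z.Modules} (hL : PicF.IsInvertible L) (hN : PicF.IsInvertible N)
    (hi : Nonempty (CohB1.tensorMod L N ≅ Coh.structureModule Z)) :
    PBPush.opE L * PBPush.opE N = 1 := by
  obtain ⟨i⟩ := hi
  refine AddMonoidHom.ext fun ξ => ?_
  change capHom Z (KRR.cl Z L) (capHom Z (KRR.cl Z N) ξ) = ξ
  rw [← capHom_tensor (flf hL) (flf hN)]
  have h1 : FlatMod.IsFinLocFree (CohB1.tensorMod L N) :=
    Groth.Agent.Sga67.LocBasis.isFinLocFree_tensorMod (flf hL) (flf hN)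
  have h2 : KRR.cl Z ((tb L).obj N) = KRR.cl Z (Coh.structureModule Z) := cl_iso i h1
  rw [h2, capHom_unit]

theorem opE_comm {L N : Z.Modules} (hL : FlatMod.IsFinLocFree L) (hN : FlatMod.IsFinLocFree N) :
    PBPush.opE L * PBPush.opE N = PBPush.opE N * PBPush.opE L := by
  refine AddMonoidHom.ext fun ξ => ?_
  change capHom Z (KRR.cl Z L) (capHom Z (KRR.cl Z N) ξ) =
    capHom Z (KRR.cl Z N) (capHom Z (KRR.cl Z L) ξ)
  rw [← capHom_tensor hL hN, ← capHom_tensor hN hL]
  have h1 : FlatMod.IsFinLocFree (CohB1.tensorMod L N) :=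
    Groth.Agent.Sga67.LocBasis.isFinLocFree_tensorMod hL hN
  have h2 : KRR.cl Z ((tb L).obj N) = KRR.cl Z ((tb N).obj L) :=
    cl_iso (Groth.Agent.Ega2.Tens.swap L N) h1
  rw [h2]

theorem opE_tensorPow {L : Z.Modules} (hL : PicF.IsInvertible L) (k : ℕ) :
    PBPush.opE (CohB1.tensorPow L k) = PBPush.opE L ^ k := by
  induction k with
  | zero =>
    rw [pow_zero]
    exact AddMonoidHom.ext fun ξ => capHom_unit ξ
  | succ k ih =>
    rw [pow_succ, ← ih]
    exact AddMonoidHom.ext fun ξ =>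
      capHom_tensor (flf (Fdesc.LocGen.isInvertible_tensorPow hL k)) (flf hL) ξ

/-- `[L] - 1` lowers the filtration for `L` invertible and globally generated. -/
theorem line_globGen (hδ : Dec q b δ) {L : Z.Modules} (hL : PicF.IsInvertible L)
    (hgen : Curv2.IsGloballyGenerated L) {m : ℤ} {c : SGA6.Kcoh Z} (hc : c ∈ ksup Z (T q b δ m)) :
    PBPush.opE L c - c ∈ ksup Z (T q b δ (m - 1)) := by
  have h0 : (PBPush.opE L - 1 : AddMonoid.End (SGA6.Kcoh Z)) c ∈ ksup Z (T q b δ (m - 1)) := by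
    refine map_mem_of (show SGA6.Kcoh Z →+ SGA6.Kcoh Z from
      (PBPush.opE L - 1 : AddMonoid.End (SGA6.Kcoh Z))) _
      (fun G hG hGT => ?_) hc
    obtain ⟨k₀, hk₀⟩ := exists_pow_sub_mem hδ hL hgen hG hGT
    obtain ⟨N, hN, hLN⟩ := Grpsch.PicGrp.exists_inverse hL
    have key : ∀ k, k₀ ≤ k → (PBPush.opE L ^ k - 1 : AddMonoid.End (SGA6.Kcoh Z)) (KDet.clc Z G) ∈
        ksup Z (T q b δ (m - 1)) := by
      intro k hk
      have h1 := hk₀ k hk
      rw [← opE_tensorPow hL]
      have h2 : PBPush.opE (CohB1.tensorPow L k) (KDet.clc Z G) =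
          KDet.clc Z (CohB1.tensorMod (CohB1.tensorPow L k) G) :=
        capHom_cl (flf (Fdesc.LocGen.isInvertible_tensorPow hL k)) hG
      change PBPush.opE (CohB1.tensorPow L k) (KDet.clc Z G) - KDet.clc Z G ∈ _
      rw [h2]
      exact h1
    have h3 : (PBPush.opE L - 1 : AddMonoid.End (SGA6.Kcoh Z)) =
        PBPush.opE N ^ k₀ * ((PBPush.opE L ^ (k₀ + 1) - 1) - (PBPush.opE L ^ k₀ - 1)) := by
      have hNL : PBPush.opE N * PBPush.opE L = 1 := by
        rw [opE_comm (flf hN) (flf hL)]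
        exact opE_inv hL hN hLN
      have hpow : ∀ k : ℕ, PBPush.opE N ^ k * PBPush.opE L ^ k = 1 := by
        intro k
        induction k with
        | zero => simp
        | succ k ih =>
          rw [pow_succ, pow_succ', mul_assoc, ← mul_assoc (PBPush.opE N) (PBPush.opE L), hNL, one_mul, ih]
      rw [sub_sub_sub_cancel_right, mul_sub, hpow, pow_succ, ← mul_assoc, hpow, one_mul]
    have h4 := sub_mem (key (k₀ + 1) (Nat.le_succ _)) (key k₀ le_rfl)
    have h5 : ∀ (k : ℕ) (c : SGA6.Kcoh Z), c ∈ ksup Z (T q b δ (m - 1)) →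
        (PBPush.opE N ^ k) c ∈ ksup Z (T q b δ (m - 1)) := by
      intro k
      induction k with
      | zero => intro c hc; exact hc
      | succ k ih =>
        intro c hc
        rw [pow_succ]
        exact ih _ (SupRes.capHom_mem (flf hN) hc)
    rw [h3]
    exact h5 _ _ h4
  exact h0

/-- The case of a quotient: `[L] - 1` lowers the filtration as soon as `L ⊗ B` and `B` are globally
generated for some invertible `B`. -/
theorem line_mem (hδ : Dec q b δ) {L A : Z.Modules} (hL : PicF.IsInvertible L)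
    (hA : PicF.IsInvertible A) (hgA : Curv2.IsGloballyGenerated A)
    (hgLA : Curv2.IsGloballyGenerated (CohB1.tensorMod L A)) {m : ℤ} {c : SGA6.Kcoh Z}
    (hc : c ∈ ksup Z (T q b δ m)) : PBPush.opE L c - c ∈ ksup Z (T q b δ (m - 1)) := by
  have hLA : PicF.IsInvertible (CohB1.tensorMod L A) := Fdesc.LocGen.isInvertible_tensorMod hL hA
  obtain ⟨N, hN, hAN⟩ := Grpsch.PicGrp.exists_inverse hA
  have h1 := line_globGen hδ hLA hgLA hc
  have h2 := line_globGen hδ hA hgA hc
  have h3 := SupRes.capHom_mem (flf hN) (sub_mem h1 h2)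
  have hNA : PBPush.opE N * PBPush.opE A = 1 := by
    rw [opE_comm (flf hN) (flf hA)]
    exact opE_inv hA hN hAN
  have hop : PBPush.opE (CohB1.tensorMod L A) = PBPush.opE L * PBPush.opE A :=
    AddMonoidHom.ext fun ξ => capHom_tensor (flf hL) (flf hA) ξ
  have h4 : PBPush.opE N * (PBPush.opE (CohB1.tensorMod L A) - PBPush.opE A) =
      PBPush.opE L - 1 := by
    rw [hop, opE_comm (flf hL) (flf hA), mul_sub, ← mul_assoc, hNA, one_mul]
  have h5 : PBPush.opE L c - c = PBPush.opE N (PBPush.opE (CohB1.tensorMod L A) c - PBPush.opE A c) := by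
    have := DFunLike.congr_fun h4 c
    exact this.symm
  rw [h5]
  rw [sub_sub_sub_cancel_right] at h3
  exact h3

end K878.DropPt
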