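import Groth.Agent.IntSh.K878.DualPB
import Groth.Agent.IntSh.K878.RelGen
import Groth.Agent.Krr.H495.Rank
import Groth.Agent.Sga67.SerreVB

/-!
# The dual of the kernel of `π^* G → E` is globally generated locally over the base
-/

set_option autoImplicit false
universe u

open CategoryTheory CategoryTheory.Limits AlgebraicGeometry Opposite TopologicalSpace

namespace K878.DualGen

open Groth.Agent Groth.Agent.Krr.H482.PullLambda
open Groth.Agent.Krr.H492.DualK (dl)

variable {X Y P : Scheme.{u}}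

theorem free_dl {E : X.Modules} {U : X.Opens} {m : ℕ}
    (h : Nonempty (E.restrict U.ι ≅ FlatMod.freeMod U.toScheme m)) :
    Nonempty ((dl E).restrict U.ι ≅ FlatMod.freeMod U.toScheme m) := by
  rw [Sga67.LocBasis.nonempty_restrict_iso_iff] at h ⊢
  obtain ⟨e, he⟩ := h
  exact ⟨_, Krr.H463.HomBasis.isLocBasis_hsec (N := Coh.structureModule X) he
    (Krr.H463.HomTensor.isLocBasis_one' X U)⟩

theorem globGen_dl (π : X ⟶ Y) {G : Y.Modules} {m : ℕ} (hG : FlatMod.IsFinLocFreeOfRank m G)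
    {E : X.Modules} (hE : FlatMod.IsFinLocFree E) (t : (Scheme.Modules.pullback π).obj G ⟶ E) [Epi t]
    (hK : Coh.IsQCoh (kernel t)) (y : Y) :
    ∃ V : Y.Opens, y ∈ V ∧ Curv2.IsGloballyGenerated ((dl (kernel t)).restrict (π ⁻¹ᵁ V).ι) := by
  obtain ⟨V, hyV, ⟨e⟩⟩ := hG y
  refine ⟨V, hyV, ?_⟩
  obtain ⟨e'⟩ := free_dl (E := (Scheme.Modules.pullback π).obj G) (U := π ⁻¹ᵁ V) (m := m)
    ⟨(RelGen.pullRestrict π G V).symm ≪≫ (Scheme.Modules.pullback (π ∣_ V)).mapIso e ≪≫
      Groth.Agent.PerfB.FlatPull.pullbackFreeMod _ m⟩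
  have h2 : FlatMod.IsFinLocFree ((Scheme.Modules.pullback π).obj G) :=
    isFinLocFree_pullback π (isFinLocFree_of_rank hG)
  let S : ShortComplex X.Modules := ShortComplex.mk (kernel.ι t) t (kernel.condition t)
  have hS : S.ShortExact := Krr.H487.KerRank.shortExact_kernel t
  have h4 : Epi (Sga2.PnHomAdj.homMapLeft S.f (Coh.structureModule X)) :=
    Sga2.PnHomExact.epi_homMapLeft hS hK (Ega2.QCohLocal.isQCoh_of_isFinLocFree h2) hE
      (Coh.structureModule X)
  have h5 : Epi ((Scheme.Modules.restrictFunctor (π ⁻¹ᵁ V).ι).map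
    (Sga2.PnHomAdj.homMapLeft S.f (Coh.structureModule X))) := inferInstance
  have h6 : Epi (e'.inv ≫ (Scheme.Modules.restrictFunctor (π ⁻¹ᵁ V).ι).map
    (Sga2.PnHomAdj.homMapLeft S.f (Coh.structureModule X))) := epi_comp _ _
  exact Sga67.SerreVB.isGloballyGenerated_of_epi_freeMod (e'.inv ≫
    (Scheme.Modules.restrictFunctor (π ⁻¹ᵁ V).ι).map
    (Sga2.PnHomAdj.homMapLeft S.f (Coh.structureModule X)))

theorem globGen_pull (p : P ⟶ X) (Z : X.Opens) {M : X.Modules}
    (hM : Curv2.IsGloballyGenerated (M.restrict Z.ι)) {L : P.Modules}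
    (q : (Scheme.Modules.pullback p).obj M ⟶ L) [Epi q] :
    Curv2.IsGloballyGenerated (L.restrict (p ⁻¹ᵁ Z).ι) := by
  have h1 := VarietyB.GGStalk.isGloballyGenerated_pullback (p ∣_ Z) _ hM
  have h2 := LocGen.globGen_of_epi h1 (RelGen.pullRestrict p M Z).hom
  have h3 : Epi ((Scheme.Modules.restrictFunctor (p ⁻¹ᵁ Z).ι).map q) := inferInstance
  exact LocGen.globGen_of_epi h2 ((Scheme.Modules.restrictFunctor (p ⁻¹ᵁ Z).ι).map q)

end K878.DualGen
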