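import Groth.Agent.IntSh.K878.FilPB
import Groth.Agent.Krr.H492.DualK
import Groth.Agent.Krr.H463.DualLam
import Groth.Agent.Krr.H487.KerRank
import Groth.Agent.Htor.H255.ThetaIso
import Groth.Agent.CohqB.HomDual

/-!
# The class of `p^* K` on `P(K^∨)`: a bundle of rank one less plus `[O(-1)]`
-/

set_option autoImplicit false
universe v w u

open CategoryTheory CategoryTheory.Limits AlgebraicGeometry Opposite TopologicalSpace

namespace K878.DualPB

open Groth.Agent Groth.Agent.Krr.H492.DualK Groth.Agent.Krr.H482.PullLambda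
  Groth.Agent.Krr.H482.PullFinal LambdaRing Groth.Agent.Books.Lambda2

section

variable {P S : Scheme.{u}}

/-- The dual of the inverse image of the dual. -/
theorem nonempty_dl_pull [AlgebraicGeometry.IsLocallyNoetherian S] (p : P ⟶ S) [Flat p] {K : S.Modules}
    (hK : FlatMod.IsFinLocFree K) :
    Nonempty (dl ((Scheme.Modules.pullback p).obj (dl K)) ≅ (Scheme.Modules.pullback p).obj K) := by
  have h1 : FlatMod.IsFinLocFree (dl K) := isFinLocFree_dl hK
  have h2 : Coh.IsCoh (dl K) := CapEx.isCoh_flf h1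
  have h3 := Htor.H255.ThetaIso.isIso_theta p (dl K) (Coh.structureModule S) h2.1
    (Htor.H255.ThetaIso.isFP_of_isCoh h2)
  have h4 := CohqB.HomDual.isIso_ev hK
  exact ⟨((Dcoh.MonClosed.homFunctor ((Scheme.Modules.pullback p).obj (dl K))).mapIso
      (Groth.Agent.Krr.H482.PullTens.pullUnitIso p)).symm ≪≫ (asIso (Htor.H255.Theta.theta p (dl K)
        (Coh.structureModule S))).symm ≪≫
      ((Scheme.Modules.pullback p).mapIso (asIso (CohqB.HomDual.ev K (Coh.structureModule S)))).symm⟩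

theorem isFinLocFreeOfRank_dl {n : ℕ} {K : S.Modules} (hK : FlatMod.IsFinLocFreeOfRank n K) :
    FlatMod.IsFinLocFreeOfRank n (dl K) :=
  Krr.H463.DualLam.isFinLocFreeOfRank_homSheaf hK

/-- The dual of an invertible module is its inverse. -/
theorem cl_dl_inv {L N : P.Modules} (hL : PicF.IsInvertible L) (hN : PicF.IsInvertible N)
    (i : Nonempty (CohB1.tensorMod L N ≅ Coh.structureModule P)) : KRR.cl P (dl L) = KRR.cl P N := by
  obtain ⟨i⟩ := i
  have h : Grpsch.PicGrp.mk L hL * Grpsch.PicGrp.mk N hN = 1 := by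
    rw [Grpsch.PicGrp.one_def]
    exact (Grpsch.PicGrp.mk_eq_iff _ _).2 ⟨i⟩
  have h1 := dualK_cl_invertible hL hN h
  rw [dualK_cl (isFinLocFree_of_isInvertible hL)] at h1
  exact h1

/-- `[p^* K] = [M'] + [O(-1)]` on `P(K^∨)`, with `M'` of rank one less. -/
theorem cl_split [AlgebraicGeometry.IsLocallyNoetherian S] (p : P ⟶ S) [Flat p] {r : ℕ} {K : S.Modules}
    (hK : FlatMod.IsFinLocFreeOfRank (r + 1) K) {O1 N : P.Modules}
    (hO1 : FlatMod.IsFinLocFreeOfRank 1 O1) (hN : PicF.IsInvertible N)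
    (hi : Nonempty (CohB1.tensorMod O1 N ≅ Coh.structureModule P))
    (q : (Scheme.Modules.pullback p).obj (dl K) ⟶ O1) [Epi q] :
    ∃ M' : P.Modules, FlatMod.IsFinLocFreeOfRank r M' ∧
      KRR.cl P ((Scheme.Modules.pullback p).obj K) = KRR.cl P M' + KRR.cl P N := by
  have hK' : FlatMod.IsFinLocFreeOfRank (r + 1) ((Scheme.Modules.pullback p).obj (dl K)) :=
    isFinLocFreeOfRank_pullback p (isFinLocFreeOfRank_dl hK)
  have hM : FlatMod.IsFinLocFreeOfRank r (kernel q) := Krr.H487.KerRank.isFinLocFreeOfRank_kernel q hK' hO1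
  have h1 := cl_dl_ses (Krr.H487.KerRank.shortExact_kernel q) (isFinLocFree_of_rank hM)
    (isFinLocFree_of_rank hK') (isFinLocFree_of_rank hO1)
  refine ⟨dl (kernel q), isFinLocFreeOfRank_dl hM, ?_⟩
  obtain ⟨e⟩ := nonempty_dl_pull p (isFinLocFree_of_rank hK)
  have h2 : KRR.cl P (dl ((Scheme.Modules.pullback p).obj (dl K))) =
      KRR.cl P ((Scheme.Modules.pullback p).obj K) :=
    Krr.H482.PullLambda.cl_iso e (isFinLocFree_dl (isFinLocFree_of_rank hK'))
  have h3 := cl_dl_inv (Ega2.QCohLocal.isFinLocFreeOfRank_one_iff.1 hO1) hN hi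
  rw [← h2, ← h3]
  exact h1

end

section model

variable {P S : Scheme.{u}} {π : P ⟶ S}
  {KS : Type v} [CommRing KS] [LambdaOps KS] {PS : PosStructure KS} {φS : SGA6.Kvb S →+ KS}
  {KP : Type w} [CommRing KP] [LambdaOps KP] {PP : PosStructure KP} {φP : SGA6.Kvb P →+ KP}
  {g : KS →+ KP}

theorem gamma_zero_of_rank (hKP : KRR.IsModel P KP PP φP) {r : ℕ} {M : P.Modules}
    (hM : FlatMod.IsFinLocFreeOfRank r M) {m : ℕ} (hm : r < m) :
    gamma m (φP (KRR.cl P M) - (r : KP)) = 0 := by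
  rcases Nat.eq_zero_or_pos r with rfl | hr
  · have h1 : KRR.cl P M = 0 :=
      Groth.Agent.Sga67.K0Basic.clSub_of_isZero (Krr.H487.Taut.isZero_of_rank_zero hM)
    rw [h1, map_zero, Nat.cast_zero, sub_zero, ← coeff_gammaSeries, gammaSeries_zero,
      PowerSeries.coeff_one, if_neg (by omega)]
  · have hpos : φP (KRR.cl P M) ∈ PP.pos := (hKP.mem_pos_iff _).mpr ⟨r, M, hr, hM, rfl⟩
    have haug : (PP.aug (φP (KRR.cl P M))).toNat = r := by
      rw [hKP.aug_cl r M hM]
      rfl
    have := FilAlg.gamma_eq_zero PP hpos (n := m) (by omega)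
    rwa [haug] at this

/-- The relation `∑ γ^i([K] - rank) (1 - [O(-1)])^{m-i} = 0` on `P(K^∨)`. -/
theorem gamma_relation [AlgebraicGeometry.IsLocallyNoetherian S] [Flat π]
    (hKP : KRR.IsModel P KP PP φP) (hKS : KRR.IsModel S KS PS φS)
    (hg : KRR.IsPull π φS φP g) {r : ℕ} {K : S.Modules} (hK : FlatMod.IsFinLocFreeOfRank (r + 1) K)
    {O1 N : P.Modules} (hO1 : FlatMod.IsFinLocFreeOfRank 1 O1) (hN : PicF.IsInvertible N)
    (hi : Nonempty (CohB1.tensorMod O1 N ≅ Coh.structureModule P))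
    (q : (Scheme.Modules.pullback π).obj (dl K) ⟶ O1) [Epi q] (m : ℕ) (hm : r + 1 ≤ m) :
    ∑ i ∈ Finset.range (m + 1), g (gamma i (φS (KRR.cl S K) - ((r + 1 : ℕ) : KS))) *
      (1 - φP (KRR.cl P N)) ^ (m - i) = 0 := by
  obtain ⟨M', hM', hcl⟩ := cl_split π hK hO1 hN hi q
  have hline : PP.IsLine (φP (KRR.cl P N)) :=
    K879.DualAlg.isLine_cl hKP (Ega2.QCohLocal.isFinLocFreeOfRank_one_iff.2 hN)
  set ν := φP (KRR.cl P N) with hν
  set x : KP := g (φS (KRR.cl S K)) - ((r + 1 : ℕ) : KP) with hx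
  have h1 : g (φS (KRR.cl S K)) = φP (KRR.cl P M') + ν := by
    rw [hg K (isFinLocFree_of_rank hK), hν, ← map_add]
    exact congrArg φP hcl
  have h2 : φP (KRR.cl P M') - (r : KP) = x + -(ν - 1) := by
    rw [hx, h1]
    push_cast
    ring
  have h3 : gammaSeries (-(ν - 1)) = PowerSeries.mk fun k => (1 - ν) ^ k := by
    have h4 := gammaSeries_mul_neg (ν - 1)
    rw [gammaSeries_line_sub_one PP ν hline] at h4
    have h5 : (1 + PowerSeries.C (ν - 1) * PowerSeries.X) *
        (PowerSeries.mk fun k => (1 - ν) ^ k) = 1 := by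
      ext k
      rw [add_mul, one_mul, map_add, mul_assoc, PowerSeries.coeff_C_mul]
      cases k with
      | zero => simp
      | succ k =>
        rw [PowerSeries.coeff_succ_X_mul, PowerSeries.coeff_mk, PowerSeries.coeff_mk,
          PowerSeries.coeff_one, if_neg (by omega)]
        ring
    have hu : IsUnit (1 + PowerSeries.C (ν - 1) * PowerSeries.X : PowerSeries KP) :=
      IsUnit.of_mul_eq_one _ h5
    exact hu.mul_left_cancel (h4.trans h5.symm)
  have h6 : gammaSeries (φP (KRR.cl P M') - (r : KP)) = gammaSeries x *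
      PowerSeries.mk fun k => (1 - ν) ^ k := by
    rw [h2, gammaSeries_add, h3]
  have h7 := congrArg (PowerSeries.coeff m) h6
  rw [coeff_gammaSeries, gamma_zero_of_rank hKP hM' (by omega), PowerSeries.coeff_mul,
    Finset.Nat.sum_antidiagonal_eq_sum_range_succ_mk] at h7
  rw [h7]
  refine Finset.sum_congr rfl fun i _ => ?_
  rw [coeff_gammaSeries, PowerSeries.coeff_mk, pull_gamma hKP hKS hg, hx]
  congr 2
  rw [map_sub]
  congr 1
  exact map_natCast (pullRingHom hKP hKS hg) _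

end model

end K878.DualPB
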