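import Groth.Agent.S2768
import Groth.Agent.FibDim.K582.RelDim
import Groth.Agent.CycB.RelDim3
import Groth.Agent.S1416
import Groth.Agent.Krr.H478.SectZero
import Groth.Agent.IntSh.K878.DropPt

/-!
# The dimension function on a fibre
-/

set_option autoImplicit false
universe u
open CategoryTheory CategoryTheory.Limits AlgebraicGeometry Opposite TopologicalSpace Cardinal
open Groth.Agent Groth.Agent.CycB.RelDim

namespace K878.FibDelta

variable {X Y Z : Scheme.{u}}

/-- The transcendence degree of `κ(x)` over `κ(f x)` as a natural number. -/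
noncomputable def dl (f : X ⟶ Y) (x : X) : ℕ := Cardinal.toNat (rtd f x)

theorem dl_cast (f : X ⟶ Y) [LocallyOfFiniteType f] (x : X) : ((dl f x : ℕ) : Cardinal.{u}) = rtd f x :=
  Cardinal.cast_toNat_of_lt_aleph0 (rtd_lt_aleph0 f x)

theorem dl_comp (f : X ⟶ Y) (g : Y ⟶ Z) [LocallyOfFiniteType f] [LocallyOfFiniteType g] (x : X) :
    dl (f ≫ g) x = dl g (f x) + dl f x := by
  unfold dl
  rw [rtd_comp, Cardinal.toNat_add (rtd_lt_aleph0 g _) (rtd_lt_aleph0 f _)]

theorem dl_le_of_rtd_le {f : X ⟶ Y} {x : X} {n : ℕ} (h : rtd f x ≤ n) : dl f x ≤ n := by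
  have := Cardinal.toNat_le_toNat h (Cardinal.natCast_lt_aleph0)
  rwa [Cardinal.toNat_natCast] at this

theorem dl_lt_of_specializes (f : X ⟶ Y) [LocallyOfFiniteType f] {x x' : X} (h : x' ⤳ x)
    (hne : x' ≠ x) (hf : f x' = f x) : dl f x < dl f x' := by
  have h1 := rtd_lt_of_specializes f h hne hf
  rw [← dl_cast f x, ← dl_cast f x'] at h1
  exact_mod_cast h1

theorem dec (f : X ⟶ Y) [LocallyOfFiniteType f] (y : Y) : DropPt.Dec f y (dl f) :=
  fun _ _ hx hx' h hne => dl_lt_of_specializes f h hne (hx'.trans hx.symm)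

/-- Points of the fibre support have bounded transcendence degree. -/
theorem dl_le_of_dim (f : X ⟶ Y) [LocallyOfFiniteType f] {C : Set X} (hC : IsClosed C) (y : Y) {d : ℕ}
    (hd : topologicalKrullDim ↥(C ∩ f.base ⁻¹' {y}) ≤ (d : WithBot ℕ∞)) {x : X} (hx : x ∈ C)
    (hxy : f x = y) : dl f x ≤ d := by
  obtain ⟨w, hw⟩ : ∃ w : f.fiber y, f.fiberι y w = x := by
    subst hxy
    exact ⟨f.asFiber x, f.fiberι_asFiber x⟩
  obtain ⟨n, hn, hn'⟩ := exists_dim_closure_fiber f y w
  rw [hw] at hn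
  have h1 : topologicalKrullDim ↥((f.fiberι y) ⁻¹' C) ≤ (d : WithBot ℕ∞) := by
    rw [← S1416.dim_eq f C y, Set.inter_comm]
    exact hd
  have h2 : closure {w} ⊆ (f.fiberι y) ⁻¹' C := by
    refine closure_minimal ?_ (hC.preimage (f.fiberι y).continuous)
    intro z hz
    rw [Set.mem_singleton_iff.1 hz]
    change f.fiberι y w ∈ C
    rw [hw]
    exact hx
  have h3 := (DimCut.dim_mono h2).trans h1
  rw [hn'] at h3
  have h4 : n ≤ d := by exact_mod_cast h3
  refine dl_le_of_rtd_le ?_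
  rw [hn]
  exact_mod_cast h4

/-- For a projective bundle the function is bounded by the rank minus one. -/
theorem dl_projBundle [AlgebraicGeometry.IsNoetherian X] {P : Scheme.{u}} {π : P ⟶ X} {r : ℕ}
    {E : X.Modules} (hE : FlatMod.IsFinLocFreeOfRank (r + 1) E) {O1 : P.Modules}
    {q : (Scheme.Modules.pullback π).obj E ⟶ O1} (B : KRR.IsProjBundle π E O1 q) (p : P) :
    dl π p ≤ r := by
  have hsm := Krr.H478.SectZero.smoothOfRelativeDimension hE B
  have hlft : LocallyOfFiniteType π := (Krr.H478.SectZero.isProper hE B).toLocallyOfFiniteType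
  have h1 : Cyc.HasRelDim π r :=
    (K582.FibRelDim.hasRelDim_iff π r).2 fun x => S2768.result r π x
  exact dl_le_of_rtd_le (CycB.RelDim.rtd_le h1 p)

end K878.FibDelta
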