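import Groth.Agent.IntSh.K878.FibDelta
import Groth.Agent.IntSh.K878.RelGen
import Groth.Agent.IntSh.K878.FilMain
import Groth.Agent.IntSh.K878.DeltaLoc
import Groth.Agent.Ega1.SuppTensorMod

/-!
# The support filtration of a fibre lifts to projective bundles
-/

set_option autoImplicit false
universe u
open CategoryTheory CategoryTheory.Limits AlgebraicGeometry Opposite TopologicalSpace
open AlgebraicGeometry.Scheme.Modules
open Groth.Agent

namespace K878.FibFil

open K878.KSup K878.FibDelta K878.CapEx K878.DeltaMem K878.DeltaLoc K878.DropPt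

variable {X Y : Scheme.{u}}

/-- The support filtration of the fibre over `y`. -/
noncomputable def Fil (π : X ⟶ Y) (y : Y) (m : ℤ) : AddSubgroup (SGA6.Kcoh X) :=
  ksup X (T π y (dl π) m)

theorem Fil_mono (π : X ⟶ Y) (y : Y) (i j : ℤ) (h : i ≤ j) : Fil π y i ≤ Fil π y j :=
  ksup_mono fun _ hz hzb => (hz hzb).trans h

theorem Fil_neg (π : X ⟶ Y) [IsProper π] [AlgebraicGeometry.IsLocallyNoetherian X] (y : Y) {m : ℤ}
    (hm : m < 0) : Fil π y m ≤ ksup X (away π y) := by
  refine ksup_le fun G hG hGT => clc_mem fun _ => subset_away π hG ?_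
  rw [Set.eq_empty_iff_forall_notMem]
  rintro x ⟨hx, hxy⟩
  have := hGT hx hxy
  omega

theorem mem_Fil (π : X ⟶ Y) [LocallyOfFiniteType π] [AlgebraicGeometry.IsLocallyNoetherian X] (y : Y)
    {F : X.Modules} (hF : Coh.IsCoh F) {d : ℕ}
    (hd : topologicalKrullDim ↥(CohB1.support F ∩ π.base ⁻¹' {y}) ≤ (d : WithBot ℕ∞)) :
    KDet.clc X F ∈ Fil π y d := by
  refine clc_mem fun _ x hx hxy => ?_
  exact_mod_cast dl_le_of_dim π (Ega3B.Devissage.isClosed_support hF) y hd hx hxy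

variable {P : Scheme.{u}} [AlgebraicGeometry.IsNoetherian P]

/-- `1 - [O(1)]` lowers the filtration if `O(1)` is a quotient of two globally generated modules on a
neighbourhood of the fibre. -/
theorem line_of_gen (ψ : P ⟶ Y) [LocallyOfFiniteType ψ] (y : Y) (Z : P.Opens)
    (hZ : ∀ x, ψ x = y → x ∈ Z) {L : P.Modules} (hL : PicF.IsInvertible L) {A : Z.toScheme.Modules}
    (hA : PicF.IsInvertible A) (hgA : Curv2.IsGloballyGenerated A)
    (hgLA : Curv2.IsGloballyGenerated (CohB1.tensorMod (L.restrict Z.ι) A)) (m : ℤ)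
    (η : SGA6.Kcoh P) (hη : η ∈ Fil ψ y m) :
    η - capHom P (KRR.cl P L) η ∈ Fil ψ y (m - 1) := by
  have hZn : IsNoetherian Z.toScheme := Sga67.CohBasic.isNoetherian_of_isOpenImmersion Z.ι
  let δ' : Z → ℕ := fun z => dl ψ (Z.ι z)
  have hδ : Dec (Z.ι ≫ ψ) y δ' := by
    intro z z' hz hz' h hne
    refine dec ψ y (Z.ι z) (Z.ι z') hz hz' (h.map Z.ι.continuous) fun e => hne ?_
    exact Z.ι.isOpenEmbedding.injective e
  have hT : ∀ m : ℤ, T (Z.ι ≫ ψ) y δ' m = (Z.ι : Z → P) ⁻¹' T ψ y (dl ψ) m := fun m => rfl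
  refine SupRes.mem_of_res Z.ι ?_ ?_
  · rw [Scheme.Opens.range_ι]
    intro x hx hxy
    exact absurd (hZ x hxy) hx
  · have hη' := SupRes.res_mem Z.ι hη
    have h1 := line_mem hδ (Drop.isInvertible_restrict Z.ι hL) hA hgA hgLA (m := m)
      (c := res Z.ι η) hη'
    have h2 := neg_mem h1
    rw [neg_sub] at h2
    rw [map_sub, SupRes.res_capHom Z.ι (flf hL)]
    exact h2

section

variable [AlgebraicGeometry.IsNoetherian X] (π : X ⟶ Y) [LocallyOfFiniteType π] (y : Y) (p : P ⟶ X)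
  [Flat p] [IsProper p]

theorem isLift_of_line {r : ℕ} {E : X.Modules} (hE : FlatMod.IsFinLocFreeOfRank (r + 1) E)
    {O1 N : P.Modules} {q : (Scheme.Modules.pullback p).obj E ⟶ O1} (B : KRR.IsProjBundle p E O1 q)
    (hN : PicF.IsInvertible N)
    (hline : ∀ (m : ℤ) (η : SGA6.Kcoh P), η ∈ Fil (p ≫ π) y m →
      η - capHom P (KRR.cl P O1) η ∈ Fil (p ≫ π) y (m - 1)) :
    FilMain.IsLift p r O1 N (Fil π y) (Fil (p ≫ π) y) where
  line := hline
  inv m η hη := SupRes.capHom_mem (flf hN) hη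
  pull m ξ hξ := by
    refine map_mem_of (PBPush.pull p) _ (fun G hG hGT => ?_) hξ
    rw [PBPush.pull_clc p hG]
    refine clc_mem fun _ x hx hxy => ?_
    have h1 : p x ∈ CohB1.support G :=
      (Ega1.SuppTensorMod.mem_support_pullback p G hG.2 x).1 hx
    have h2 := hGT h1 hxy
    have h3 := dl_projBundle hE B x
    rw [dl_comp]
    push_cast
    have h4 : (dl p x : ℤ) ≤ r := by exact_mod_cast h3
    omega
  push gc hgc m η hη := by
    have : HasInjectiveResolutions P.Modules := Dcoh.DerSch.hasInjectiveResolutions _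
    refine PushSup.push_mem p hgc ?_ hη
    intro x hx hxy
    have h2 := hx hxy
    rw [dl_comp] at h2
    push_cast at h2
    omega

theorem isLift_of_ample {V : Y.Opens} (hV : y ∈ V) {H : ((π ⁻¹ᵁ V : X.Opens) : Scheme.{u}).Modules}
    (hH : CohB1.IsAmple H) {r : ℕ} {E : X.Modules} (hE : FlatMod.IsFinLocFreeOfRank (r + 1) E)
    {O1 N : P.Modules} {q : (Scheme.Modules.pullback p).obj E ⟶ O1} (B : KRR.IsProjBundle p E O1 q)
    (hN : PicF.IsInvertible N) :
    FilMain.IsLift p r O1 N (Fil π y) (Fil (p ≫ π) y) := by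
  refine isLift_of_line π y p hE B hN fun m η hη => ?_
  have hq : Epi q := B.2
  have hEc : Coh.IsCoh E := isCoh_flf (Krr.H482.PullLambda.isFinLocFree_of_rank hE)
  obtain ⟨A, hA, hgA, hgLA⟩ := RelGen.exists_twist p (π ⁻¹ᵁ V) hH hEc q
  refine line_of_gen (p ≫ π) y (p ⁻¹ᵁ (π ⁻¹ᵁ V)) ?_ (PBUnit.isInvertible_O1 B) hA hgA hgLA m η hη
  rintro x rfl
  exact hV

end

end K878.FibFil
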