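import Groth.Agent.IntSh.K878.FilAlg
import Groth.Agent.IntSh.K878.PBPush
import Groth.Agent.Krr.H487.PullExt
import Groth.Agent.IntSh.K879.DualAlg
import Groth.Agent.S3796

/-!
# The elements `γ^n([E] - rank)` lower a filtration compatible with the projective bundle of `E`
-/

set_option autoImplicit false
universe v w u

open CategoryTheory CategoryTheory.Limits AlgebraicGeometry Opposite TopologicalSpace

namespace K878.FilPB

open Groth.Agent Groth.Agent.Krr.H471.ChartVan Groth.Agent.Krr.H482.PullLambda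
  Groth.Agent.Krr.H482.PullFinal K878.CapEx K878.KSup K878.PBPush K878.FilAlg LambdaRing

section relation

variable {P S : Scheme.{u}} {π : P ⟶ S}
  {KS : Type v} [CommRing KS] [LambdaOps KS] {PS : PosStructure KS} {φS : SGA6.Kvb S →+ KS}
  {KP : Type w} [CommRing KP] [LambdaOps KP] {PP : PosStructure KP} {φP : SGA6.Kvb P →+ KP}
  {g : KS →+ KP}

/-- The tautological relation in terms of `1 - ℓ`. -/
theorem relation (hKP : KRR.IsModel P KP PP φP) (hKS : KRR.IsModel S KS PS φS)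
    (hg : KRR.IsPull π φS φP g) {r : ℕ} {E : S.Modules} (hE : FlatMod.IsFinLocFreeOfRank (r + 1) E)
    {O1 : P.Modules} (hO1 : FlatMod.IsFinLocFreeOfRank 1 O1)
    (q : (Scheme.Modules.pullback π).obj E ⟶ O1) (hq : Epi q) :
    ∑ k ∈ Finset.range (r + 1 + 1), g (gamma (r + 1 - k) (φS (KRR.cl S E) - ((r + 1 : ℕ) : KS))) *
      (1 - φP (KRR.cl P O1)) ^ k = 0 := by
  have hpos : g (φS (KRR.cl S E)) ∈ PP.pos :=
    pull_pos hKP hKS hg ((hKS.mem_pos_iff _).mpr ⟨r + 1, E, by omega, hE, rfl⟩)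
  have haug : PP.aug (g (φS (KRR.cl S E))) = ((r + 1 : ℕ) : ℤ) := by
    rw [pull_aug hKP hKS hg, hKS.aug_cl (r + 1) E hE]
  have h1 := K879.DualAlg.sum_gamma_mul PP hpos haug (1 - φP (KRR.cl P O1))
  have h2 : ∀ k, g (gamma (r + 1 - k) (φS (KRR.cl S E) - ((r + 1 : ℕ) : KS))) =
      gamma (r + 1 - k) (g (φS (KRR.cl S E)) - ((r + 1 : ℕ) : KP)) := by
    intro k
    rw [pull_gamma hKP hKS hg]
    congr 1
    rw [map_sub]
    congr 1
    exact map_natCast (pullRingHom hKP hKS hg) _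
  simp only [h2]
  rw [h1]
  have h3 := Krr.H487.PullExt.taut_relation hKP hKS hg hE hO1 q hq
  have h4 : ∑ j ∈ Finset.range (r + 1 + 1), LambdaOps.lam j (g (φS (KRR.cl S E))) *
      (1 - φP (KRR.cl P O1) - 1) ^ (r + 1 - j) = (-1) ^ (r + 1) *
      ∑ i ∈ Finset.range (r + 2), (-1 : KP) ^ i * g (LambdaOps.lam i (φS (KRR.cl S E))) *
      φP (KRR.cl P O1) ^ (r + 1 - i) := by
    rw [Finset.mul_sum]
    refine Finset.sum_congr rfl fun j hj => ?_
    rw [Finset.mem_range] at hj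
    rw [pull_lam hKP hKS hg]
    have h5 : (1 - φP (KRR.cl P O1) - 1 : KP) = (-1) * φP (KRR.cl P O1) := by ring
    rw [h5, mul_pow]
    have h6 : (-1 : KP) ^ (r + 1) * (-1) ^ j = (-1) ^ (r + 1 - j) := by
      have : r + 1 = (r + 1 - j) + j := by omega
      rw [this, pow_add, mul_assoc, ← mul_pow]
      simp
    rw [← h6]
    ring
  rw [h4, h3, mul_zero]

end relation

section main

variable {P S : Scheme.{u}} [AlgebraicGeometry.IsNoetherian S] [AlgebraicGeometry.IsNoetherian P]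
  {π : P ⟶ S} [Flat π]
  {KS : Type v} [CommRing KS] [LambdaOps KS] {PS : PosStructure KS} {φS : SGA6.Kvb S →+ KS}
  {KP : Type w} [CommRing KP] [LambdaOps KP] {PP : PosStructure KP} {φP : SGA6.Kvb P →+ KP}
  {g : KS →+ KP} {μ : KS →+ SGA6.Kcoh S →+ SGA6.Kcoh S}

/-- `π^* y · π^* ξ = π^* (y · ξ)`. -/
theorem cap_pull (hKP : KRR.IsModel P KP PP φP) (hKS : KRR.IsModel S KS PS φS)
    (hg : KRR.IsPull π φS φP g) (hμ : KDet.IsCap φS μ) (y : KS) (ξ : SGA6.Kcoh S) :
    capK hKP (g y) (pull π ξ) = pull π (μ y ξ) := by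
  obtain ⟨y, rfl⟩ := hKS.bijective.2 y
  have h : (AddMonoidHom.flip (capK hKP) (pull π ξ)).comp (g.comp φS) =
      (pull π).comp ((AddMonoidHom.flip μ ξ).comp φS) := by
    refine Groth.Agent.Sga67.K0Basic.hom_ext_sub fun V hV => ?_
    change capK hKP (g (φS (KRR.cl S V))) (pull π ξ) = pull π (μ (φS (KRR.cl S V)) ξ)
    rw [hg V hV, capK_apply, cap_eq hμ]
    exact (pull_cap π hV ξ).symm
  exact DFunLike.congr_fun h y

variable [IsProper π] {r : ℕ} {O1 : P.Modules}

/-- `ξ ↦ π_* (z · π^* ξ)`. -/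
noncomputable def beta (hKP : KRR.IsModel P KP PP φP) (hT : IsTwist r π O1 1) (z : KP) (ξ : SGA6.Kcoh S) :
    SGA6.Kcoh S := push hT (capK hKP z (pull π ξ))

theorem beta_add (hKP : KRR.IsModel P KP PP φP) (hT : IsTwist r π O1 1) (z z' : KP) (ξ : SGA6.Kcoh S) :
    beta hKP hT (z + z') ξ = beta hKP hT z ξ + beta hKP hT z' ξ := by
  unfold beta
  rw [map_add, AddMonoidHom.add_apply, map_add]

theorem beta_zero (hKP : KRR.IsModel P KP PP φP) (hT : IsTwist r π O1 1) (ξ : SGA6.Kcoh S) :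
    beta hKP hT 0 ξ = 0 := by
  unfold beta
  rw [map_zero, AddMonoidHom.zero_apply, map_zero]

theorem beta_sum (hKP : KRR.IsModel P KP PP φP) (hT : IsTwist r π O1 1) {ι : Type*} (s : Finset ι) (z : ι → KP)
    (ξ : SGA6.Kcoh S) : beta hKP hT (∑ i ∈ s, z i) ξ = ∑ i ∈ s, beta hKP hT (z i) ξ := by
  classical
  induction s using Finset.induction_on with
  | empty => simp [beta_zero]
  | insert a s ha ih => rw [Finset.sum_insert ha, Finset.sum_insert ha, beta_add, ih]

theorem beta_zsmul (hKP : KRR.IsModel P KP PP φP) (hT : IsTwist r π O1 1) (n : ℤ) (z : KP) (ξ : SGA6.Kcoh S) :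
    beta hKP hT (n • z) ξ = n • beta hKP hT z ξ := by
  unfold beta
  rw [map_zsmul, AddMonoidHom.smul_apply, map_zsmul]

theorem beta_mul (hKP : KRR.IsModel P KP PP φP) (hKS : KRR.IsModel S KS PS φS)
    (hg : KRR.IsPull π φS φP g) (hμ : KDet.IsCap φS μ) (hT : IsTwist r π O1 1) (z : KP) (y : KS)
    (ξ : SGA6.Kcoh S) : beta hKP hT (z * g y) ξ = beta hKP hT z (μ y ξ) := by
  unfold beta
  rw [(isCap hKP).mul_smul, cap_pull hKP hKS hg hμ]

theorem beta_one (hKP : KRR.IsModel P KP PP φP) {E : S.Modules}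
    (hE : FlatMod.IsFinLocFreeOfRank (r + 1) E) {q : (Scheme.Modules.pullback π).obj E ⟶ O1}
    (B : KRR.IsProjBundle π E O1 q) (hT : IsTwist r π O1 1) (ξ : SGA6.Kcoh S) :
    beta hKP hT 1 ξ = ξ := by
  unfold beta
  rw [(isCap hKP).one_smul]
  exact push_pull hE B hT ξ

theorem beta_neg (hKP : KRR.IsModel P KP PP φP) (hT : IsTwist r π O1 1) {N : P.Modules}
    (hN : FlatMod.IsFinLocFree N)
    (i : ((DCoh.tensorBi (X := P)).obj O1).obj N ≅ Coh.structureModule P) (k : ℕ) (h1 : 1 ≤ k) (h2 : k ≤ r)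
    (ξ : SGA6.Kcoh S) : beta hKP hT (φP (KRR.cl P N) ^ k) ξ = 0 := by
  unfold beta
  have h : ∀ (k : ℕ) (η : SGA6.Kcoh P), capK hKP (φP (KRR.cl P N) ^ k) η = (opE N ^ k) η := by
    intro k η
    induction k with
    | zero =>
      rw [pow_zero, pow_zero, (isCap hKP).one_smul]
      rfl
    | succ k ih =>
      rw [pow_succ', (isCap hKP).mul_smul, ih, capK_apply, pow_succ']
      rfl
  rw [h]
  exact push_neg hT hN i k h1 h2 ξ

/-- `β(n^r (1 - ℓ)^m) = 0` for `m < r` and `(-1)^r` for `m = r`. -/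
theorem beta_low (hKP : KRR.IsModel P KP PP φP) {E : S.Modules}
    (hE : FlatMod.IsFinLocFreeOfRank (r + 1) E) {q : (Scheme.Modules.pullback π).obj E ⟶ O1}
    (B : KRR.IsProjBundle π E O1 q) (hT : IsTwist r π O1 1) {N : P.Modules}
    (hN : FlatMod.IsFinLocFree N)
    (i : ((DCoh.tensorBi (X := P)).obj O1).obj N ≅ Coh.structureModule P)
    (m : ℕ) (hm : m ≤ r) (ξ : SGA6.Kcoh S) :
    beta hKP hT (φP (KRR.cl P N) ^ r * (1 - φP (KRR.cl P O1)) ^ m) ξ =
      if m = r then (-1 : ℤ) ^ r • ξ else 0 := by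
  have hO1 : FlatMod.IsFinLocFree O1 := isFinLocFree_of_rank B.invertible
  have h1 : φP (KRR.cl P O1) * φP (KRR.cl P N) = 1 := by
    rw [hKP.map_mul O1 N hO1 hN, ← hKP.map_one]
    exact congrArg φP (Groth.Agent.Sga67.KvbRing.c_iso i (Groth.Agent.Sga67.LocBasis.isFinLocFree_tensorMod hO1 hN))
  set n := φP (KRR.cl P N) with hn
  set l := φP (KRR.cl P O1) with hl
  have h2 : n ^ r * (1 - l) ^ m = ∑ j ∈ Finset.range (m + 1), ((-1 : ℤ) ^ j * (m.choose j : ℤ)) • n ^ (r - j) := by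
    have h3 : (1 - l) = (-l) + 1 := by ring
    rw [h3, add_pow, Finset.mul_sum]
    refine Finset.sum_congr rfl fun j hj => ?_
    rw [Finset.mem_range] at hj
    have h4 : n ^ r = n ^ (r - j) * n ^ j := by
      rw [← pow_add]
      congr 1
      omega
    have h5 : n ^ j * l ^ j = 1 := by rw [← mul_pow, mul_comm, h1, one_pow]
    rw [h4, zsmul_eq_mul, neg_pow]
    push_cast
    linear_combination (n ^ (r - j) * (-1) ^ j * (m.choose j : KP)) * h5
  rw [h2, beta_sum]
  have h6 : ∀ j ∈ Finset.range (m + 1), beta hKP hT (((-1 : ℤ) ^ j * (m.choose j : ℤ)) • n ^ (r - j)) ξ =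
      if j = r then (-1 : ℤ) ^ r • ξ else 0 := by
    intro j hj
    rw [Finset.mem_range] at hj
    rw [beta_zsmul]
    split_ifs with h
    · subst h
      have : m = j := by omega
      subst this
      rw [Nat.sub_self, pow_zero, beta_one hKP hE B hT, Nat.choose_self, Nat.cast_one, mul_one]
    · rw [beta_neg hKP hT hN i (r - j) (by omega) (by omega), smul_zero]
  rw [Finset.sum_congr rfl h6, Finset.sum_ite_eq']
  by_cases h : m = r
  · subst h
    simp
  · rw [if_neg h, if_neg]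
    rw [Finset.mem_range]
    omega

/-- Lowering in a filtration of `K_•(P)`. -/
theorem pow_mem (hKP : KRR.IsModel P KP PP φP) {N : P.Modules} {FilP : ℤ → AddSubgroup (SGA6.Kcoh P)}
    (ha : ∀ (m : ℤ) (η : SGA6.Kcoh P), η ∈ FilP m → η - capHom P (KRR.cl P O1) η ∈ FilP (m - 1))
    (hn : ∀ (m : ℤ) (η : SGA6.Kcoh P), η ∈ FilP m → capHom P (KRR.cl P N) η ∈ FilP m)
    (a b : ℕ) (m : ℤ) {η : SGA6.Kcoh P} (hη : η ∈ FilP m) :
    capK hKP (φP (KRR.cl P N) ^ a * (1 - φP (KRR.cl P O1)) ^ b) η ∈ FilP (m - b) := by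
  have h1 : capK hKP ((1 - φP (KRR.cl P O1)) ^ b) η ∈ FilP (m - b) := by
    induction b with
    | zero =>
      rw [pow_zero, (isCap hKP).one_smul]
      simpa using hη
    | succ b ih =>
      rw [pow_succ', (isCap hKP).mul_smul]
      have h2 := ha _ _ ih
      have h3 : capK hKP (1 - φP (KRR.cl P O1)) (capK hKP ((1 - φP (KRR.cl P O1)) ^ b) η) =
          capK hKP ((1 - φP (KRR.cl P O1)) ^ b) η -
            capHom P (KRR.cl P O1) (capK hKP ((1 - φP (KRR.cl P O1)) ^ b) η) := by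
        rw [map_sub, AddMonoidHom.sub_apply, (isCap hKP).one_smul, capK_apply]
      rw [h3]
      have e : m - ((b + 1 : ℕ) : ℤ) = m - b - 1 := by push_cast; ring
      rw [e]
      exact h2
  rw [(isCap hKP).mul_smul]
  induction a with
  | zero =>
    rw [pow_zero, (isCap hKP).one_smul]
    exact h1
  | succ a ih =>
    rw [pow_succ', (isCap hKP).mul_smul, capK_apply]
    exact hn _ _ ih

/-- **Key theorem.** `γ^n([E] - rank E)` lowers the filtration by `n`. -/
theorem gamma_mem_Low (hKP : KRR.IsModel P KP PP φP) (hKS : KRR.IsModel S KS PS φS)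
    (hg : KRR.IsPull π φS φP g) (hμ : KDet.IsCap φS μ) {E : S.Modules}
    (hE : FlatMod.IsFinLocFreeOfRank (r + 1) E) {q : (Scheme.Modules.pullback π).obj E ⟶ O1}
    (B : KRR.IsProjBundle π E O1 q) (hT : IsTwist r π O1 1) {N : P.Modules}
    (hN : FlatMod.IsFinLocFree N)
    (i : ((DCoh.tensorBi (X := P)).obj O1).obj N ≅ Coh.structureModule P)
    {Fil : ℤ → AddSubgroup (SGA6.Kcoh S)} {FilP : ℤ → AddSubgroup (SGA6.Kcoh P)}
    (ha : ∀ (m : ℤ) (η : SGA6.Kcoh P), η ∈ FilP m → η - capHom P (KRR.cl P O1) η ∈ FilP (m - 1))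
    (hn : ∀ (m : ℤ) (η : SGA6.Kcoh P), η ∈ FilP m → capHom P (KRR.cl P N) η ∈ FilP m)
    (hb : ∀ (m : ℤ) (ξ : SGA6.Kcoh S), ξ ∈ Fil m → pull π ξ ∈ FilP (m + r))
    (hc : ∀ (m : ℤ) (η : SGA6.Kcoh P), η ∈ FilP m → push hT η ∈ Fil m) (n : ℕ) :
    gamma n (φS (KRR.cl S E) - ((r + 1 : ℕ) : KS)) ∈ Low μ Fil n := by
  set c : ℕ → KS := fun k => gamma k (φS (KRR.cl S E) - ((r + 1 : ℕ) : KS)) with hc'
  -- lowering by `beta`
  have hlow : ∀ (j : ℕ) (m : ℤ) (ξ : SGA6.Kcoh S), ξ ∈ Fil m →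
      beta hKP hT (φP (KRR.cl P N) ^ r * (1 - φP (KRR.cl P O1)) ^ (r + j)) ξ ∈ Fil (m - j) := by
    intro j m ξ hξ
    have h1 := pow_mem hKP ha hn r (r + j) _ (hb m ξ hξ)
    have e : m + r - ((r + j : ℕ) : ℤ) = m - j := by push_cast; ring
    rw [e] at h1
    exact hc _ _ h1
  -- the relation
  have hrel : ∀ (l : ℕ) (ξ : SGA6.Kcoh S), ∑ k ∈ Finset.range (r + 1 + 1),
      beta hKP hT (φP (KRR.cl P N) ^ r * (1 - φP (KRR.cl P O1)) ^ (l + k)) (μ (c (r + 1 - k)) ξ) = 0 := by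
    intro l ξ
    have h1 := relation hKP hKS hg hE B.invertible q B.epi
    have h2 : beta hKP hT (φP (KRR.cl P N) ^ r * (1 - φP (KRR.cl P O1)) ^ l *
        ∑ k ∈ Finset.range (r + 1 + 1), g (c (r + 1 - k)) * (1 - φP (KRR.cl P O1)) ^ k) ξ = 0 := by
      rw [h1, mul_zero, beta_zero]
    rw [Finset.mul_sum, beta_sum] at h2
    rw [← h2]
    refine Finset.sum_congr rfl fun k _ => ?_
    rw [← beta_mul hKP hKS hg hμ hT]
    congr 1
    rw [pow_add]
    ring
  change c n ∈ _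
  induction n using Nat.strong_induction_on with
  | _ n ih =>
    intro m ξ hξ
    rcases Nat.eq_zero_or_pos n with rfl | hnpos
    · have : c 0 = 1 := by rw [hc']; simp [gamma]
      rw [this, hμ.one_smul]
      simpa using hξ
    rcases Nat.lt_or_ge (r + 1) n with hlt | hle
    · have : c n = 0 := by
        have hpos : φS (KRR.cl S E) ∈ PS.pos := (hKS.mem_pos_iff _).mpr ⟨r + 1, E, by omega, hE, rfl⟩
        have haug : (PS.aug (φS (KRR.cl S E))).toNat = r + 1 := by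
          rw [hKS.aug_cl (r + 1) E hE]
          rfl
        have := FilAlg.gamma_eq_zero PS hpos (n := n) (by omega)
        rwa [haug] at this
      rw [this, map_zero]
      exact (Fil _).zero_mem
    have h1 := hrel (n - 1) ξ
    -- split off the term `k = r + 1 - n`
    have hmem : r + 1 - n ∈ Finset.range (r + 1 + 1) := by rw [Finset.mem_range]; omega
    rw [← Finset.add_sum_erase _ _ hmem] at h1
    have h2 : n - 1 + (r + 1 - n) = r := by omega
    have h3 : r + 1 - (r + 1 - n) = n := by omega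
    rw [h2, h3, beta_low hKP hE B hT hN i r le_rfl, if_pos rfl] at h1
    have h4 : ∑ k ∈ (Finset.range (r + 1 + 1)).erase (r + 1 - n),
        beta hKP hT (φP (KRR.cl P N) ^ r * (1 - φP (KRR.cl P O1)) ^ (n - 1 + k)) (μ (c (r + 1 - k)) ξ) ∈
          Fil (m - n) := by
      refine sum_mem fun k hk => ?_
      rw [Finset.mem_erase, Finset.mem_range] at hk
      rcases lt_or_gt_of_ne hk.1 with h | h
      · rw [beta_low hKP hE B hT hN i (n - 1 + k) (by omega), if_neg (by omega)]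
        exact (Fil _).zero_mem
      · have h5 := ih (r + 1 - k) (by omega) m ξ hξ
        have h6 := hlow (n - 1 + k - r) _ _ h5
        have h7 : r + (n - 1 + k - r) = n - 1 + k := by omega
        rw [h7] at h6
        have h8 : m - ((r + 1 - k : ℕ) : ℤ) - ((n - 1 + k - r : ℕ) : ℤ) = m - n := by omega
        rw [h8] at h6
        exact h6
    have h9 : (-1 : ℤ) ^ r • μ (c n) ξ ∈ Fil (m - n) := by
      have := (Fil (m - n)).neg_mem h4
      rwa [← eq_neg_of_add_eq_zero_left h1] at this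
    have h10 := (Fil (m - n)).zsmul_mem h9 ((-1 : ℤ) ^ r)
    rwa [smul_smul, ← mul_pow, neg_mul_neg, one_mul, one_pow, one_smul] at h10

end main

end K878.FilPB
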