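import Groth.Agent.IntSh.K878.DropMono

/-!
# Positivity of the top power of `[L] - 1`, `L` relatively generated near a fibre
-/

set_option autoImplicit false
universe u
open CategoryTheory CategoryTheory.Limits AlgebraicGeometry Opposite TopologicalSpace
open AlgebraicGeometry.Scheme.Modules
open Groth.Agent Groth.Agent.Sga67 Groth.Agent.Sga67.CohBasic

namespace K878.LinePos

open K878.KSup K878.Cap K878.FibDelta K878.CapEx K878.DeltaMem K878.DropPt K878.FibFil K878.PBPush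

variable {P Y : Scheme.{u}} [AlgebraicGeometry.IsNoetherian P]

theorem line_lower (ψ : P ⟶ Y) [LocallyOfFiniteType ψ] (y : Y) (V : P.Opens)
    (hV : ∀ x, ψ x = y → x ∈ V) {L : P.Modules} (hL : PicF.IsInvertible L)
    (hgen : Curv2.IsGloballyGenerated (L.restrict V.ι)) (m : ℤ)
    {c : SGA6.Kcoh P} (hc : c ∈ Fil ψ y m) : opE L c - c ∈ Fil ψ y (m - 1) := by
  have hVn : IsNoetherian V.toScheme := Sga67.CohBasic.isNoetherian_of_isOpenImmersion V.ι
  let δ' : V → ℕ := fun z => dl ψ (V.ι z)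
  have hδ : Dec (V.ι ≫ ψ) y δ' := by
    intro z z' hz hz' h hne
    refine dec ψ y (V.ι z) (V.ι z') hz hz' (h.map V.ι.continuous) fun e => hne ?_
    exact V.ι.isOpenEmbedding.injective e
  refine SupRes.mem_of_res V.ι ?_ ?_
  · rw [Scheme.Opens.range_ι]
    intro x hx hxy
    exact absurd (hV x hxy) hx
  · have hη' := SupRes.res_mem V.ι hc
    have h1 := line_globGen hδ (Drop.isInvertible_restrict V.ι hL) hgen (m := m)
      (c := res V.ι c) hη'
    rw [map_sub]
    have h2 := SupRes.res_capHom V.ι (flf hL) c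
    change res V.ι (capHom P (KRR.cl P L) c) - _ ∈ _
    rw [h2]
    exact h1

omit [AlgebraicGeometry.IsNoetherian P] in
theorem lower_pow (ψ : P ⟶ Y) [LocallyOfFiniteType ψ] (y : Y) {f : AddMonoid.End (SGA6.Kcoh P)}
    (hf : ∀ (m : ℤ) (c : SGA6.Kcoh P), c ∈ Fil ψ y m → (f - 1 : AddMonoid.End _) c ∈ Fil ψ y (m - 1))
    (n : ℕ) : ∀ (m : ℤ) {c : SGA6.Kcoh P}, c ∈ Fil ψ y m →
      ((f - 1) ^ n : AddMonoid.End _) c ∈ Fil ψ y (m - n) := by
  induction n with
  | zero => intro m c hc; simpa using hc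
  | succ n ih =>
    intro m c hc
    rw [pow_succ]
    have h := ih (m - 1) (hf m c hc)
    have e : m - 1 - (n : ℤ) = m - ((n + 1 : ℕ) : ℤ) := by push_cast; ring
    rw [e] at h
    exact h

/-- `X^k - 1 = k (X - 1) + (X - 1)^2 g`. -/
theorem exists_pow_sub_one (k : ℕ) : ∃ g : Polynomial ℤ,
    (Polynomial.X ^ k - 1 : Polynomial ℤ) =
      (k : Polynomial ℤ) * (Polynomial.X - 1) + (Polynomial.X - 1) ^ 2 * g := by
  induction k with
  | zero => exact ⟨0, by simp⟩
  | succ k ih =>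
    obtain ⟨g, h⟩ := ih
    refine ⟨Polynomial.X * g + (k : Polynomial ℤ), ?_⟩
    have h1 : (Polynomial.X ^ (k + 1) - 1 : Polynomial ℤ) =
        Polynomial.X * (Polynomial.X ^ k - 1) + (Polynomial.X - 1) := by ring
    rw [h1, h]
    push_cast
    ring

theorem aeval_mem {M : Type*} [AddCommGroup M] (H : AddSubgroup M) (f : AddMonoid.End M)
    (hf : ∀ c ∈ H, f c ∈ H) (p : Polynomial ℤ) : ∀ c ∈ H, (Polynomial.aeval f p) c ∈ H := by
  induction p using Polynomial.induction_on with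
  | C a =>
    intro c hc
    rw [Polynomial.aeval_C]
    have : (algebraMap ℤ (AddMonoid.End M) a) c = a • c := by
      rw [eq_intCast]
      rfl
    rw [this]
    exact H.zsmul_mem hc a
  | add p q hp hq =>
    intro c hc
    rw [map_add]
    exact H.add_mem (hp c hc) (hq c hc)
  | monomial n a ih =>
    intro c hc
    have h1 : (Polynomial.C a * Polynomial.X ^ (n + 1) : Polynomial ℤ) =
        (Polynomial.C a * Polynomial.X ^ n) * Polynomial.X := by rw [pow_succ, mul_assoc]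
    rw [h1, map_mul, Polynomial.aeval_X]
    exact ih _ (hf c hc)

theorem pos (ψ : P ⟶ Y) [LocallyOfFiniteType ψ] (y : Y) (V : P.Opens)
    (hV : ∀ x, ψ x = y → x ∈ V) {L : P.Modules} (hL : PicF.IsInvertible L)
    (hgen : Curv2.IsGloballyGenerated (L.restrict V.ι)) (ρ : SGA6.Kcoh P →+ ℤ)
    (ρ0 : ∀ G : P.Modules, Coh.IsCoh G → CohB1.support G ⊆ T ψ y (dl ψ) 0 → 0 ≤ ρ (KDet.clc P G))
    (ρ1 : ∀ c ∈ Fil ψ y (-1), ρ c = 0) (n : ℕ) :
    ∀ G : P.Modules, Coh.IsCoh G → CohB1.support G ⊆ T ψ y (dl ψ) n →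
      0 ≤ ρ (((opE L - 1) ^ n : AddMonoid.End (SGA6.Kcoh P)) (KDet.clc P G)) := by
  have hlow : ∀ (m : ℤ) (c : SGA6.Kcoh P), c ∈ Fil ψ y m →
      (opE L - 1 : AddMonoid.End (SGA6.Kcoh P)) c ∈ Fil ψ y (m - 1) :=
    fun m c hc => line_lower ψ y V hV hL hgen m hc
  induction n with
  | zero => intro G hG hGT; exact ρ0 G hG hGT
  | succ n ih =>
    intro G hG hGT
    obtain ⟨k₀, hk₀⟩ := DropMono.exists_drop_mono ψ y V hV hL hgen hG hGT
    let k := k₀ + 1
    obtain ⟨C, hC, hCT, hrel⟩ := hk₀ k (Nat.le_succ _)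
    have hCT' : CohB1.support C ⊆ T ψ y (dl ψ) n := by
      intro x hx hxy
      have := hCT hx hxy
      push_cast at this
      omega
    have h1 := ih C hC hCT'
    have hVc : ksup P (V : Set P)ᶜ ≤ Fil ψ y (-1) := by
      refine ksup_mono fun x hx hxy => ?_
      exact absurd (hV x hxy) hx
    have h2 : ((opE L) ^ k - 1 : AddMonoid.End (SGA6.Kcoh P)) (KDet.clc P G) - KDet.clc P C ∈
        Fil ψ y (-1) := by
      have h3 := hVc hrel
      have h4 : opE (CohB1.tensorPow L k) (KDet.clc P G) =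
          KDet.clc P (CohB1.tensorMod (CohB1.tensorPow L k) G) :=
        capHom_cl (flf (Fdesc.LocGen.isInvertible_tensorPow hL k)) hG
      rw [← h4, opE_tensorPow hL] at h3
      exact h3
    have h5 := lower_pow ψ y hlow n (-1) h2
    have h6 : ρ (((opE L - 1) ^ n : AddMonoid.End (SGA6.Kcoh P))
        (((opE L) ^ k - 1 : AddMonoid.End (SGA6.Kcoh P)) (KDet.clc P G) - KDet.clc P C)) = 0 :=
      ρ1 _ (Fil_mono ψ y _ _ (by omega) h5)
    rw [map_sub, map_sub, sub_eq_zero] at h6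
    rw [← h6] at h1
    obtain ⟨g, hg⟩ := exists_pow_sub_one k
    have hg' := congrArg (Polynomial.aeval (opE L)) hg
    have h7 := congrArg (Polynomial.aeval (opE L)) (show (Polynomial.X - 1 : Polynomial ℤ) ^ n *
      (Polynomial.X ^ k - 1) = (k : Polynomial ℤ) * (Polynomial.X - 1) ^ (n + 1) +
        (Polynomial.X - 1) ^ (n + 2) * g by rw [hg]; ring)
    simp only [map_mul, map_add, map_pow, map_sub, Polynomial.aeval_X, map_one, map_natCast] at h7
    have h8 := DFunLike.congr_fun h7 (KDet.clc P G)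
    have h9 : ((opE L - 1) ^ (n + 2) : AddMonoid.End (SGA6.Kcoh P))
        ((Polynomial.aeval (opE L) g) (KDet.clc P G)) ∈ Fil ψ y (-1) := by
      have h10 : (Polynomial.aeval (opE L) g) (KDet.clc P G) ∈ Fil ψ y (n + 1 : ℕ) :=
        aeval_mem _ _ (fun c hc => SupRes.capHom_mem (flf hL) hc) g _ (clc_mem fun _ => hGT)
      have h11 := lower_pow ψ y hlow (n + 2) _ h10
      exact Fil_mono ψ y _ _ (by push_cast; omega) h11
    have h12 := ρ1 _ h9
    have h13 : ρ (((opE L - 1) ^ n : AddMonoid.End (SGA6.Kcoh P))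
        (((opE L) ^ k - 1 : AddMonoid.End (SGA6.Kcoh P)) (KDet.clc P G))) =
        (k : ℤ) * ρ (((opE L - 1) ^ (n + 1) : AddMonoid.End (SGA6.Kcoh P)) (KDet.clc P G)) := by
      have h14 := congrArg ρ h8
      change ρ (((opE L - 1) ^ n : AddMonoid.End (SGA6.Kcoh P))
        (((opE L) ^ k - 1 : AddMonoid.End (SGA6.Kcoh P)) (KDet.clc P G))) =
        ρ (((k : AddMonoid.End (SGA6.Kcoh P)) (((opE L - 1) ^ (n + 1) : AddMonoid.End (SGA6.Kcoh P))
          (KDet.clc P G))) + ((opE L - 1) ^ (n + 2) : AddMonoid.End (SGA6.Kcoh P))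
        ((Polynomial.aeval (opE L) g) (KDet.clc P G))) at h14
      rw [h14, map_add, h12, add_zero]
      have h15 : ∀ c : SGA6.Kcoh P, (k : AddMonoid.End (SGA6.Kcoh P)) c = k • c := fun c => rfl
      rw [h15, map_nsmul, nsmul_eq_mul]
    rw [h13] at h1
    have hk : (0 : ℤ) < k := by
      change (0 : ℤ) < ((k₀ + 1 : ℕ) : ℤ)
      omega
    exact nonneg_of_mul_nonneg_right h1 hk

/-- The version with `1 - [N]`, `N` inverse to `L`. -/
theorem pos_inv (ψ : P ⟶ Y) [LocallyOfFiniteType ψ] (y : Y) (V : P.Opens)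
    (hV : ∀ x, ψ x = y → x ∈ V) {L N : P.Modules} (hL : PicF.IsInvertible L) (hN : PicF.IsInvertible N)
    (hLN : Nonempty (CohB1.tensorMod L N ≅ Coh.structureModule P))
    (hgen : Curv2.IsGloballyGenerated (L.restrict V.ι)) (ρ : SGA6.Kcoh P →+ ℤ)
    (ρ0 : ∀ G : P.Modules, Coh.IsCoh G → CohB1.support G ⊆ T ψ y (dl ψ) 0 → 0 ≤ ρ (KDet.clc P G))
    (ρ1 : ∀ c ∈ Fil ψ y (-1), ρ c = 0) (n : ℕ) (G : P.Modules) (hG : Coh.IsCoh G)
    (hGT : CohB1.support G ⊆ T ψ y (dl ψ) n) :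
    0 ≤ ρ (((1 - opE N) ^ n : AddMonoid.End (SGA6.Kcoh P)) (KDet.clc P G)) := by
  have hcomm : opE N * opE L = opE L * opE N := opE_comm (flf hN) (flf hL)
  have hNL : opE N * opE L = 1 := by rw [hcomm]; exact opE_inv hL hN hLN
  have h1 : (1 - opE N : AddMonoid.End (SGA6.Kcoh P)) = (opE L - 1) * opE N := by
    rw [sub_mul, one_mul, ← hcomm, hNL]
  have hc : Commute (opE L - 1) (opE N) := by
    refine Commute.sub_left ?_ (Commute.one_left _)
    exact hcomm.symm
  rw [h1, hc.mul_pow]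
  change 0 ≤ ρ (((opE L - 1) ^ n : AddMonoid.End (SGA6.Kcoh P)) ((opE N ^ n) (KDet.clc P G)))
  rw [opE_pow (flf hN) hG]
  have hW : Coh.IsCoh (Krr.H471.ChartTwist.W N n) := isCoh_flf
    (Krr.H471.ChartTwist.isFinLocFree_W (flf hN) n)
  refine pos ψ y V hV hL hgen ρ ρ0 ρ1 n _ (isCoh_tb hW hG) ?_
  exact (support_tensor_right _ _).trans hGT

end K878.LinePos
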