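import Groth.Agent.IntSh.K878.PBVan
import Groth.Agent.Krr.H471.ChartUnit
import Groth.Agent.Krr.H484.PBTransport
import Groth.Agent.Cohder.RDAcyc
import Groth.Agent.Fdesc.LocGenPullback
import Groth.Agent.Krr.H483.PBTop
import Groth.Agent.Krr.H478.SectZero
import Groth.Agent.PerfB.FibreConc
import Groth.Agent.Dcoh.FinLocFree

/-!
# The unit `G ⟶ π_* π^* G` is an isomorphism for a projective bundle and `G` coherent
-/

set_option autoImplicit false
universe u

open CategoryTheory CategoryTheory.Limits AlgebraicGeometry Opposite TopologicalSpace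

namespace K878.PBUnit

open Groth.Agent Groth.Agent.Fdesc.LocGen Groth.Agent.Krr.H471.ChartVan

/-! ### Section level pull-back -/

section sec

variable {X Y Z : Scheme.{u}}

/-- The section level pull-back is bijective. -/
def Bij (f : X ⟶ Y) (M : Y.Modules) (U : Y.Opens) : Prop :=
  Function.Bijective (fun m : Γ(M, U) => pullSec f m)

theorem app_bijective {M N : X.Modules} (e : M ≅ N) (U : X.Opens) :
    Function.Bijective (e.hom.app U) := by
  have : IsIso (e.hom.app U) := inferInstance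
  exact ConcreteCategory.bijective_of_isIso (e.hom.app U)

theorem bij_comp_iff (f : X ⟶ Y) (g : Y ⟶ Z) (M : Z.Modules) (U : Z.Opens) :
    Bij (f ≫ g) M U ↔ Function.Bijective (fun m : Γ(M, U) => pullSec f (pullSec g m)) := by
  unfold Bij
  have h := app_bijective ((Scheme.Modules.pullbackComp f g).symm.app M) ((f ≫ g) ⁻¹ᵁ U)
  rw [← Function.Bijective.of_comp_iff' h]
  apply Eq.to_iff
  congr 1
  funext m
  exact pullSec_comp f g m

theorem bij_openImm (f : X ⟶ Y) [IsOpenImmersion f] (M : Y.Modules) (U : Y.Opens)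
    (hU : U ≤ f.opensRange) : Bij f M U := by
  unfold Bij
  have h := app_bijective ((Scheme.Modules.restrictFunctorIsoPullback f).app M) (f ⁻¹ᵁ U)
  have h1 : (fun m : Γ(M, U) => pullSec f m) = fun m : Γ(M, U) =>
      (((Scheme.Modules.restrictFunctorIsoPullback f).app M).hom.app (f ⁻¹ᵁ U))
        (toRestrict f (res M (f.image_preimage_le U) m)) := by
    funext m
    exact (restrictFunctorIsoPullback_hom_app f m).symm
  rw [h1]
  have h2 : f ''ᵁ (f ⁻¹ᵁ U) = U := by
    rw [f.image_preimage_eq_opensRange_inf]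
    exact inf_eq_right.mpr hU
  refine (h.comp (toRestrict f).bijective).comp ?_
  have h3 : ∀ (V : Y.Opens) (hV : V = U) (hle : V ≤ U), Function.Bijective (fun m : Γ(M, U) => res M hle m) := by
    rintro V rfl hle
    have : (fun m : Γ(M, V) => res M hle m) = id := by
      funext m
      exact res_refl _ _
    rw [this]
    exact Function.bijective_id
  exact h3 _ h2 _

theorem bij_congr {f g : X ⟶ Y} (h : f = g) (M : Y.Modules) (U : Y.Opens) :
    Bij f M U ↔ Bij g M U := by rw [h]

theorem opensRange_le_of_isPullback {X' Y' : Scheme.{u}} {f' : X' ⟶ X} {g' : X' ⟶ Y'} {f : X ⟶ Y} {j : Y' ⟶ Y}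
    [IsOpenImmersion j] [IsOpenImmersion f'] (sq : IsPullback f' g' f j) {U : Y.Opens} (hU : U ≤ j.opensRange) :
    f ⁻¹ᵁ U ≤ f'.opensRange := by
  intro p hp
  obtain ⟨y, hy⟩ : ∃ y, j y = f p := hU hp
  let q := sq.isoPullback
  obtain ⟨z, hz, -⟩ := Scheme.Pullback.exists_preimage_pullback (f := f) (g := j) p y hy.symm
  refine ⟨q.inv z, ?_⟩
  have h1 : q.inv ≫ f' = pullback.fst f j := sq.isoPullback_inv_fst
  rw [← hz, ← h1]
  rfl

/-- Bijectivity over an open can be checked after restriction. -/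
theorem bij_of_isPullback {X' Y' : Scheme.{u}} {f' : X' ⟶ X} {g' : X' ⟶ Y'} {f : X ⟶ Y} {j : Y' ⟶ Y}
    [IsOpenImmersion j] (sq : IsPullback f' g' f j) (M : Y.Modules) {U : Y.Opens} (hU : U ≤ j.opensRange)
    (h : Bij g' ((Scheme.Modules.pullback j).obj M) (j ⁻¹ᵁ U)) : Bij f M U := by
  have hf' : IsOpenImmersion f' := MorphismProperty.of_isPullback sq.flip inferInstance
  have h1 : Bij j M U := bij_openImm j M U hU
  have h2 : Bij (g' ≫ j) M U := by
    rw [bij_comp_iff]
    exact Function.Bijective.comp h h1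
  rw [bij_congr sq.w.symm, bij_comp_iff] at h2
  have h3 : Bij f' ((Scheme.Modules.pullback f).obj M) (f ⁻¹ᵁ U) :=
    bij_openImm _ _ _ (opensRange_le_of_isPullback sq hU)
  exact (Function.Bijective.of_comp_iff' h3 _).mp h2

/-- The unit is an isomorphism if the section level pull-backs over affine opens are bijective. -/
theorem isIso_unit_of_bij (f : X ⟶ Y) (M : Y.Modules) (h : ∀ U : Y.Opens, IsAffineOpen U → Bij f M U) :
    IsIso ((Scheme.Modules.pullbackPushforwardAdjunction f).unit.app M) := by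
  refine Sga67.LocBasis.isIso_of_bijective _ fun x U hx => ?_
  obtain ⟨_, ⟨V, hV, rfl⟩, hxV, hVU⟩ := Y.isBasis_affineOpens.exists_subset_of_mem_open
    (show x ∈ (U : Set Y) from hx) U.isOpen
  exact ⟨V, hVU, hxV, h V hV⟩

theorem bij_of_isIso_unit (f : X ⟶ Y) (M : Y.Modules)
    (h : IsIso ((Scheme.Modules.pullbackPushforwardAdjunction f).unit.app M)) (U : Y.Opens) : Bij f M U :=
  app_bijective (asIso ((Scheme.Modules.pullbackPushforwardAdjunction f).unit.app M)) U

end sec

/-! ### The affine case -/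

section affine

/-- Refinement argument: the unit of an exact functor with good presentations. -/
theorem mono_of_presentation {C : Type*} [Category C] [Abelian C] {T : C ⥤ C} [T.Additive] (η : 𝟭 C ⟶ T)
    {S : ShortComplex C} (hS : S.ShortExact) (hT : (S.map T).ShortExact)
    (h1 : Epi (η.app S.X₁)) (h2 : Mono (η.app S.X₂)) : Mono (η.app S.X₃) := by
  rw [Preadditive.mono_iff_cancel_zero]
  intro A x hx
  have := hS.epi_g
  obtain ⟨A', p, hp, y, hy⟩ := surjective_up_to_refinements_of_epi S.g x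
  have h3 : (y ≫ η.app S.X₂) ≫ T.map S.g = 0 := by
    have := η.naturality S.g
    simp only [Functor.id_map] at this
    rw [Category.assoc, ← this, ← Category.assoc]
    change (y ≫ S.g) ≫ η.app S.X₃ = 0
    rw [← hy, Category.assoc, hx, comp_zero]
  obtain ⟨A₂, p₂, hp₂, z, hz⟩ := hT.exact.exact_up_to_refinements (y ≫ η.app S.X₂) h3
  obtain ⟨A₃, p₃, hp₃, w, hw⟩ := surjective_up_to_refinements_of_epi (η.app S.X₁) z
  have h4 : (w ≫ S.f) ≫ η.app S.X₂ = (p₃ ≫ p₂ ≫ y) ≫ η.app S.X₂ := by
    have := η.naturality S.f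
    simp only [Functor.id_map] at this
    rw [Category.assoc]
    change w ≫ S.f ≫ η.app S.X₂ = _
    rw [this]
    have hz' : p₂ ≫ y ≫ η.app S.X₂ = z ≫ T.map S.f := hz
    simp only [Category.assoc] at hw ⊢
    rw [hz', ← Category.assoc w, ← hw]
    exact Category.assoc _ _ _
  have h5 : w ≫ S.f = p₃ ≫ p₂ ≫ y := by rwa [cancel_mono] at h4
  have h6 : (p₃ ≫ p₂ ≫ p) ≫ x = 0 := by
    simp only [Category.assoc]
    rw [hy]
    have : p₃ ≫ p₂ ≫ y ≫ S.g = (p₃ ≫ p₂ ≫ y) ≫ S.g := by simp only [Category.assoc]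
    rw [this, ← h5, Category.assoc, S.zero, comp_zero]
  have : Epi (p₃ ≫ p₂ ≫ p) := by
    have := epi_comp p₂ p
    exact epi_comp p₃ (p₂ ≫ p)
  exact (Preadditive.epi_iff_cancel_zero (p₃ ≫ p₂ ≫ p)).mp this _ _ h6

theorem epi_of_presentation {C : Type*} [Category C] [Abelian C] {T : C ⥤ C} (η : 𝟭 C ⟶ T)
    {A B : C} (g : A ⟶ B) (h1 : Epi (T.map g)) (h2 : Epi (η.app A)) : Epi (η.app B) := by
  have := η.naturality g
  simp only [Functor.id_map] at this
  have h3 : Epi (g ≫ η.app B) := by
    change Epi ((𝟭 C).map g ≫ η.app B)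
    rw [η.naturality g]
    exact epi_comp _ _
  exact epi_of_epi g _

variable {P : Scheme.{u}}

/-- The composite `π_* π^*`. -/
noncomputable abbrev T {S : Scheme.{u}} (π : P ⟶ S) : S.Modules ⥤ S.Modules :=
  Scheme.Modules.pullback π ⋙ Scheme.Modules.pushforward π

theorem isIso_unit_spec {R : Type u} [CommRing R] [IsNoetherianRing R] (π : P ⟶ Spec (CommRingCat.of R)) [Flat π]
    [HasInjectiveResolutions P.Modules]
    (hflf : ∀ E : (Spec (CommRingCat.of R)).Modules, FlatMod.IsFinLocFree E →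
      IsIso ((Scheme.Modules.pullbackPushforwardAdjunction π).unit.app E))
    (h1 : ∀ K : (Spec (CommRingCat.of R)).Modules, Coh.IsCoh K →
      IsZero ((Coh.Rpush π 1).obj ((Scheme.Modules.pullback π).obj K)))
    {G : (Spec (CommRingCat.of R)).Modules} (hG : Coh.IsCoh G) :
    IsIso ((Scheme.Modules.pullbackPushforwardAdjunction π).unit.app G) := by
  have hN : IsNoetherianRing (CommRingCat.of R) := ‹IsNoetherianRing R›
  have hfl : PreservesFiniteLimits (Scheme.Modules.pullback π) :=
    Sga67.FlatPre.preservesFiniteLimits_pullback _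
  let η : 𝟭 _ ⟶ T π := (Scheme.Modules.pullbackPushforwardAdjunction π).unit
  -- short exact sequences stay exact
  have hex : ∀ {S : ShortComplex (Spec (CommRingCat.of R)).Modules}, S.ShortExact → Coh.IsCoh S.X₁ →
      (S.map (T π)).ShortExact := by
    intro S hS hK
    exact Cohder.RDAcyc.map_shortExact (Scheme.Modules.pushforward π) (hS.map_of_exact (Scheme.Modules.pullback π))
      (h1 _ hK)
  have hpres : ∀ {G : (Spec (CommRingCat.of R)).Modules}, Coh.IsCoh G → ∃ S : ShortComplex
      (Spec (CommRingCat.of R)).Modules, S.ShortExact ∧ Coh.IsCoh S.X₁ ∧ FlatMod.IsFinLocFree S.X₂ ∧ S.X₃ = G := by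
    intro G hG
    obtain ⟨n, p, hp⟩ := Krr.H454.CohVan.exists_epi_free hG
    let T : ShortComplex (Spec (CommRingCat.of R)).Modules :=
      ShortComplex.mk (kernel.ι p) p (kernel.condition p)
    have hT : T.ShortExact :=
      { exact := ShortComplex.exact_of_f_is_kernel _ (kernelIsKernel _)
        mono_f := inferInstanceAs (Mono (kernel.ι p))
        epi_g := hp }
    have hfree : Coh.IsCoh (FlatMod.freeMod (Spec (CommRingCat.of R)) n) := PerfA.CohSerre.isCoh_freeMod n
    refine ⟨T, hT, Sga67.CohBasic.isCoh_kernel p hfree hG.1, ?_, rfl⟩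
    exact Dcoh.FinLocFree.isFinLocFree_freeMod _ n
  have hepi : ∀ {G : (Spec (CommRingCat.of R)).Modules}, Coh.IsCoh G → Epi (η.app G) := by
    intro G hG
    obtain ⟨S, hS, hK, hF, rfl⟩ := hpres hG
    have h2 : IsIso (η.app S.X₂) := hflf _ hF
    have h3 := (hex hS hK).epi_g
    exact epi_of_presentation η S.g h3 inferInstance
  obtain ⟨S, hS, hK, hF, rfl⟩ := hpres hG
  have h2 : IsIso (η.app S.X₂) := hflf _ hF
  have h3 : Epi (η.app S.X₃) := hepi hG
  have h4 : Mono (η.app S.X₃) := mono_of_presentation η hS (hex hS hK) (hepi hK) inferInstance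
  exact isIso_of_mono_of_epi (η.app S.X₃)

end affine

section pb

open Groth.Agent.Krr.H471.ChartTwist Groth.Agent.Krr.H471.PBTwist

variable {P S : Scheme.{u}} {r : ℕ} {π : P ⟶ S}

theorem isTwist_structureModule {O1 : P.Modules} (hO1 : PicF.IsInvertible O1) (h : IsTwist r π O1 1) :
    IsTwist r π (Coh.structureModule P) 0 := by
  obtain ⟨N, hN, ⟨i⟩⟩ := Grpsch.PicGrp.exists_inverse hO1
  exact isTwist_W h i 0

/-- `R^q π_* π^* G = 0` for `q ≥ 1`. -/
theorem isZero_Rpush_pullback [AlgebraicGeometry.IsLocallyNoetherian S] [QuasiCompact π] [QuasiSeparated π]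
    {O1 : P.Modules} (hO1 : PicF.IsInvertible O1) (h : IsTwist r π O1 1) {G : S.Modules} (hG : Coh.IsCoh G)
    (q : ℕ) (hq : 1 ≤ q) : IsZero ((Coh.Rpush π q).obj ((Scheme.Modules.pullback π).obj G)) := by
  have h1 := PBVan.isZero_Rpush (isTwist_structureModule hO1 h)
    (Sga67.TensorOps.isFinLocFree_structureModule (X := P)) hG q (Or.inl ⟨hq, by omega⟩)
  exact h1.of_iso ((Coh.Rpush π q).mapIso (Ega2.Tens.lunit _).symm)

theorem isInvertible_O1 {E : S.Modules} {O1 : P.Modules} {q : (Scheme.Modules.pullback π).obj E ⟶ O1}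
    (B : KRR.IsProjBundle π E O1 q) : PicF.IsInvertible O1 :=
  Groth.Agent.Ega2.QCohLocal.isFinLocFreeOfRank_one_iff.1 B.invertible

theorem flat [CompactSpace S] {E : S.Modules} (hE : FlatMod.IsFinLocFreeOfRank (r + 1) E) {O1 : P.Modules}
    {q : (Scheme.Modules.pullback π).obj E ⟶ O1} (B : KRR.IsProjBundle π E O1 q) : Flat π := by
  have h1 := Krr.H478.SectZero.smoothOfRelativeDimension hE B
  have h2 : Smooth π := SmoothOfRelativeDimension.smooth r π
  infer_instance

/-- The unit `G ⟶ π_* π^* G` is an isomorphism for `G` coherent. -/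
theorem isIso_unit [AlgebraicGeometry.IsLocallyNoetherian S] {E : S.Modules}
    (hE : FlatMod.IsFinLocFreeOfRank (r + 1) E) {O1 : P.Modules}
    {q : (Scheme.Modules.pullback π).obj E ⟶ O1} (B : KRR.IsProjBundle π E O1 q)
    {G : S.Modules} (hG : Coh.IsCoh G) :
    IsIso ((Scheme.Modules.pullbackPushforwardAdjunction π).unit.app G) := by
  refine isIso_unit_of_bij π G fun U hU => ?_
  have hj : hU.fromSpec.opensRange = U := hU.opensRange_fromSpec
  let sq := IsPullback.of_hasPullback π hU.fromSpec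
  refine bij_of_isPullback sq G hj.ge ?_
  refine bij_of_isIso_unit _ _ ?_ _
  have B' := Krr.H484.PBTransport.baseChange sq B
  have hE' : FlatMod.IsFinLocFreeOfRank (r + 1) ((Scheme.Modules.pullback hU.fromSpec).obj E) :=
    PerfB.FibreConc.isFinLocFreeOfRank_pullback _ hE
  have hT := isTwist_of_isProjBundle hE' B'
  have hprop := Krr.H483.PBTop.isProper hE' B'
  have hflat := flat hE' B'
  have hL : AlgebraicGeometry.IsLocallyNoetherian (Spec (CommRingCat.of Γ(S, U))) :=
    LocallyOfFiniteType.isLocallyNoetherian hU.fromSpec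
  have hR : IsNoetherianRing Γ(S, U) := (isLocallyNoetherian_Spec (R := Γ(S, U))).1 hL
  refine isIso_unit_spec (R := Γ(S, U)) (pullback.snd π hU.fromSpec) ?_ ?_ ?_
  · intro F hF
    exact Krr.H471.ChartUnit.isIso_unit (exists_chart hT) hF
  · intro K hK
    exact isZero_Rpush_pullback (isInvertible_O1 B') hT hK 1 le_rfl
  · exact FormalA.PullbackQC.isCoh_pullback _ G hG

end pb

end K878.PBUnit
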