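import Groth.Agent.IntSh.K878.AcyGen
import Groth.Agent.Krr.H482.PullTens

/-!
# Base change of the twisted push-forward

* `good_bc`: the pull-back of a good bundle is good, and its twisted direct image commutes with base change.
* `base_change`: `q_{2*}^{F'}(q₁^* x · q₂^* y') = h^*(π_*^F x) · y'`.
-/

set_option autoImplicit false
universe u
open CategoryTheory CategoryTheory.Limits AlgebraicGeometry

namespace K878.TwBC

open K937.ProjDet

variable {X Y X' Y' : Scheme.{u}} [AlgebraicGeometry.IsNoetherian X] [AlgebraicGeometry.IsNoetherian Y]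
  {π : X ⟶ Y} {h : Y' ⟶ Y} {q₁ : X' ⟶ X} {q₂ : X' ⟶ Y'}
  [HasInjectiveResolutions X.Modules] [HasInjectiveResolutions X'.Modules]
  {F : X.Modules}

theorem good_bc (hπ : RelProj.IsProjective π) (hF : Coh.IsCoh F) (hFf : FlatMod.IsFlatOver π F)
    (hsq : IsPullback q₁ q₂ π h) {E : X.Modules} (hE : Good π F E) :
    Good q₂ ((Scheme.Modules.pullback q₁).obj F) ((Scheme.Modules.pullback q₁).obj E) ∧
      Nonempty ((Scheme.Modules.pullback h).obj ((Coh.push π).obj (CohB1.tensorMod F E)) ≅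
        (Coh.push q₂).obj (CohB1.tensorMod ((Scheme.Modules.pullback q₁).obj F)
          ((Scheme.Modules.pullback q₁).obj E))) := by
  have : IsProper π := Groth.Agent.IntSh.K877.ProjEmb.isProper_of_isProjective π hπ
  have hEc : Coh.IsCoh E := Groth.Agent.PerfA.CohSerre.isCoh_of_isFinLocFree hE.flf
  have hFE : Coh.IsCoh (CohB1.tensorMod F E) := K878.PBVan.isCoh_tensor hF hEc
  have hfp : CohB1.IsFP (CohB1.tensorMod F E) := Groth.Agent.Htor.H255.ThetaIso.isFP_of_isCoh hFE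
  have hfl := AcyGen.isFlatOver_tensor π hE.flf hFf
  obtain ⟨h1, h2, ⟨h3⟩⟩ := AcyBC.main π h q₁ q₂ hsq (CohB1.tensorMod F E) hfp hfl hE.zero
  let t : (Scheme.Modules.pullback q₁).obj (CohB1.tensorMod F E) ≅
      CohB1.tensorMod ((Scheme.Modules.pullback q₁).obj F) ((Scheme.Modules.pullback q₁).obj E) :=
    Groth.Agent.Krr.H482.PullTens.pullTensorIso q₁ F E
  refine ⟨⟨Groth.Agent.PerfB.FlatPull.isFinLocFree_pullback q₁ hE.flf, fun p hp => ?_, ?_⟩,
    ⟨h3 ≪≫ (Coh.push q₂).mapIso t⟩⟩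
  · exact (h2 p hp).of_iso ((Coh.Rpush q₂ p).mapIso t.symm)
  · exact Groth.Agent.Dcoh.FinLocFree.isFinLocFree_of_iso (h3 ≪≫ (Coh.push q₂).mapIso t)
      (Groth.Agent.PerfB.FlatPull.isFinLocFree_pullback h hE.push)

theorem base_change (hπ : RelProj.IsProjective π) (hF : Coh.IsCoh F) (hFf : FlatMod.IsFlatOver π F)
    (hsq : IsPullback q₁ q₂ π h)
    {KX : Type u} [CommRing KX] [LambdaRing.LambdaOps KX] {PX : LambdaRing.PosStructure KX}
    {φX : SGA6.Kvb X →+ KX} (_ : KRR.IsModel X KX PX φX)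
    {KY : Type u} [CommRing KY] [LambdaRing.LambdaOps KY] {PY : LambdaRing.PosStructure KY}
    {φY : SGA6.Kvb Y →+ KY} (_ : KRR.IsModel Y KY PY φY)
    {g : KX →+ KY} (hg : KDet.IsPushF π F φX φY g)
    (hgen : ∀ x : KX, x ∈ AddSubgroup.closure {x | ∃ E, Good π F E ∧ x = φX (KRR.cl X E)})
    {KX' : Type u} [CommRing KX'] [LambdaRing.LambdaOps KX'] {PX' : LambdaRing.PosStructure KX'}
    {φX' : SGA6.Kvb X' →+ KX'} (hKX' : KRR.IsModel X' KX' PX' φX')
    {KY' : Type u} [CommRing KY'] [LambdaRing.LambdaOps KY'] {PY' : LambdaRing.PosStructure KY'}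
    {φY' : SGA6.Kvb Y' →+ KY'} (hKY' : KRR.IsModel Y' KY' PY' φY')
    {pX : KX →+ KX'} (hpX : KRR.IsPull q₁ φX φX' pX)
    {pY : KY →+ KY'} (hpY : KRR.IsPull h φY φY' pY)
    {pQ : KY' →+ KX'} (hpQ : KRR.IsPull q₂ φY' φX' pQ)
    {g' : KX' →+ KY'} (hg' : KDet.IsPushF q₂ ((Scheme.Modules.pullback q₁).obj F) φX' φY' g')
    (x : KX) (y' : KY') : g' (pX x * pQ y') = pY (g x) * y' := by
  have hx := hgen x
  induction hx using AddSubgroup.closure_induction with
  | mem x hx =>
    obtain ⟨E, hE, rfl⟩ := hx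
    obtain ⟨hE', ⟨b⟩⟩ := good_bc hπ hF hFf hsq hE
    refine Groth.Agent.Krr.H446.ProjFormula.model_induction hKY'
      (C := fun y' => g' (pX (φX (KRR.cl X E)) * pQ y') = pY (g (φX (KRR.cl X E))) * y')
      (by simp) ?_ ?_ ?_ y'
    · intro V hV
      obtain ⟨hEV, ⟨e⟩⟩ := hE'.tensor hV
      have hpV := Groth.Agent.PerfB.FlatPull.isFinLocFree_pullback q₂ hV
      have h1 : pX (φX (KRR.cl X E)) * pQ (φY' (KRR.cl Y' V)) =
          φX' (KRR.cl X' (CohB1.tensorMod ((Scheme.Modules.pullback q₁).obj E)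
            ((Scheme.Modules.pullback q₂).obj V))) := by
        rw [hpX E hE.flf, hpQ V hV, hKX'.map_mul _ _ hE'.flf hpV]
        rfl
      rw [h1, hg' _ hEV.flf hEV.zero hEV.push, hg E hE.flf hE.zero hE.push, hpY _ hE.push]
      have h2 : KRR.cl Y' ((Scheme.Modules.pullback h).obj
          ((Coh.push π).obj (((DCoh.tensorBi (X := X)).obj F).obj E))) =
          KRR.cl Y' ((Coh.push q₂).obj (((DCoh.tensorBi (X := X')).obj
            ((Scheme.Modules.pullback q₁).obj F)).obj ((Scheme.Modules.pullback q₁).obj E))) :=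
        Groth.Agent.Krr.H446.ProjFormula.cl_iso b
          (Groth.Agent.PerfB.FlatPull.isFinLocFree_pullback h hE.push)
      rw [h2, hKY'.map_mul _ V hE'.push hV]
      congr 1
      exact (Groth.Agent.Krr.H446.ProjFormula.cl_iso e
        (Groth.Agent.Sga67.LocBasis.isFinLocFree_tensorMod hE'.push hV)).symm
    · intro y hy
      simp only [map_neg, mul_neg, hy]
    · intro y y' hy hy'
      simp only [map_add, mul_add, hy, hy']
  | zero => simp
  | add x x' _ _ hx hx' => simp only [add_mul, map_add, hx, hx']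
  | neg x _ hx => simp only [neg_mul, map_neg, hx]

end K878.TwBC
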